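import Mathlib
import Cfsg.Agent.Prune
set_option linter.all false

section
prune_inst 0x7f00000000000000000000000000000000000000000000000000000000000000000000000000000000000000000000000000000000000000000000000000000000000000000000000000000000000000003fffffffffffffffffffffffffffbeffbdffffffff

-- part: H909/AltGen
section
set_option linter.all false
open scoped Cfsg.Agent.FastGrp

/-!
# Generation of alternating groups by Jordan's theorem (helper909)
-/

set_option autoImplicit false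

namespace Cfsg.Agent.H909.AltGen

open Equiv MulAction

/-- A set of even permutations generating a 2-transitive group with a 3-cycle generates the alternating group. -/
theorem gen {n : ℕ} (S : Set (Perm (Fin n))) (hS : ∀ s ∈ S, Perm.sign s = 1) {i₀ j₀ : Fin n}
    (hij : i₀ ≠ j₀) (h2 : ∀ k l : Fin n, k ≠ l → ∃ g ∈ Subgroup.closure S, g i₀ = k ∧ g j₀ = l)
    {c : Perm (Fin n)} (hc : c ∈ Subgroup.closure S) (h3 : c.IsThreeCycle) :
    Subgroup.closure S = alternatingGroup (Fin n) := by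
  apply le_antisymm
  · rw [Subgroup.closure_le]
    intro s hs
    exact hS s hs
  · have h22 : IsMultiplyPretransitive (Subgroup.closure S) (Fin n) 2 := by
      rw [is_two_pretransitive_iff]
      intro a b k l hab hkl
      obtain ⟨g, hg, hg1, hg2⟩ := h2 a b hab
      obtain ⟨g', hg', hg1', hg2'⟩ := h2 k l hkl
      refine ⟨⟨g' * g⁻¹, mul_mem hg' (inv_mem hg)⟩, ?_, ?_⟩
      · change g' (g⁻¹ a) = k
        have h5 : g⁻¹ a = i₀ := by rw [← hg1]; exact Equiv.symm_apply_apply g i₀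
        rw [h5, hg1']
      · change g' (g⁻¹ b) = l
        have h5 : g⁻¹ b = j₀ := by rw [← hg2]; exact Equiv.symm_apply_apply g j₀
        rw [h5, hg2']
    exact Perm.alternatingGroup_le_of_isPreprimitive_of_isThreeCycle_mem
      (isPreprimitive_of_is_two_pretransitive h22) h3 hc

/-- the same in the alternating group itself -/
theorem gen' {n : ℕ} (S : Set (alternatingGroup (Fin n)))
    (h : Subgroup.closure ((fun x : alternatingGroup (Fin n) => (x : Perm (Fin n))) '' S) =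
      alternatingGroup (Fin n)) : Subgroup.closure S = ⊤ := by
  apply Subgroup.map_injective (alternatingGroup (Fin n)).subtype_injective
  rw [MonoidHom.map_closure, ← MonoidHom.range_eq_map, Subgroup.range_subtype]
  exact h

/-- nilpotent matrices -/
theorem nilp_pow {F : Type*} [Field F] {ι : Type*} [Fintype ι] [DecidableEq ι] {N : Matrix ι ι F}
    (h : IsNilpotent N) : N ^ Fintype.card ι = 0 := by
  have h1 := Matrix.isNilpotent_charpoly_sub_pow_of_isNilpotent h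
  have h2 := sub_eq_zero.1 h1.eq_zero
  have h3 := Matrix.aeval_self_charpoly N
  rw [h2, map_pow, Polynomial.aeval_X] at h3
  exact h3

end Cfsg.Agent.H909.AltGen
end

-- part: H923/Ten/A7Grp
section
set_option linter.all false
open scoped Cfsg.Agent.FastGrp

/-!
# Elements and generation of `A₇` (helper923)
-/

set_option autoImplicit false
set_option maxRecDepth 10000

namespace Cfsg.Agent.H923.Ten.A7

open Equiv

/-- the group -/
abbrev A := alternatingGroup (Fin 7)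

/-- a product of two transpositions -/
def e2 (a b c d : Fin 7) (h1 : a ≠ b := by decide) (h2 : c ≠ d := by decide) : A :=
  ⟨swap a b * swap c d, by
    rw [Perm.mem_alternatingGroup, map_mul, Perm.sign_swap h1, Perm.sign_swap h2]; decide⟩

def s1 : A := e2 0 1 2 3
def s2 : A := e2 0 2 1 3
def s3 : A := e2 0 3 1 2
def a : A := e2 1 2 2 3
def b : A := e2 4 5 5 6
def w : A := e2 0 1 4 5
/-- the three-cycles `(0 1 j)` -/
def c2 : A := e2 0 1 1 2
def c3 : A := e2 0 1 1 3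
def c4 : A := e2 0 1 1 4
def c5 : A := e2 0 1 1 5
def c6 : A := e2 0 1 1 6

/-- the seven-cycle -/
def g7 : A := e2 0 1 1 2 * e2 2 3 3 4 * e2 4 5 5 6

theorem top_of_c (K : Subgroup A) (h2 : c2 ∈ K) (h3 : c3 ∈ K) (h4 : c4 ∈ K) (h5 : c5 ∈ K) (h6 : c6 ∈ K) :
    K = ⊤ := by
  rw [eq_top_iff]
  have hcl : Subgroup.closure ({c2, c3, c4, c5, c6} : Set A) ≤ K := by
    rw [Subgroup.closure_le]
    rintro x (rfl | rfl | rfl | rfl | rfl) <;> assumption
  refine le_trans ?_ hcl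
  rw [← H909.AltGen.gen' ({c2, c3, c4, c5, c6} : Set A) ?_]
  set S : Set (Perm (Fin 7)) := (fun x : A => (x : Perm (Fin 7))) '' ({c2, c3, c4, c5, c6} : Set A) with hS
  have m2 : (c2 : Perm (Fin 7)) ∈ Subgroup.closure S := Subgroup.subset_closure ⟨c2, by simp, rfl⟩
  have m3 : (c3 : Perm (Fin 7)) ∈ Subgroup.closure S := Subgroup.subset_closure ⟨c3, by simp, rfl⟩
  have m4 : (c4 : Perm (Fin 7)) ∈ Subgroup.closure S := Subgroup.subset_closure ⟨c4, by simp, rfl⟩
  have m5 : (c5 : Perm (Fin 7)) ∈ Subgroup.closure S := Subgroup.subset_closure ⟨c5, by simp, rfl⟩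
  have m6 : (c6 : Perm (Fin 7)) ∈ Subgroup.closure S := Subgroup.subset_closure ⟨c6, by simp, rfl⟩
  refine H909.AltGen.gen S ?_ (i₀ := 0) (j₀ := 1) (by decide) ?_ m2 ?_
  · rintro _ ⟨x, -, rfl⟩
    exact x.2
  · have key : ∀ j : Fin 7, 2 ≤ j.1 → ∃ g ∈ Subgroup.closure S, g 0 = 1 ∧ g 1 = j ∧ g j = 0 ∧
        ∀ i : Fin 7, i ≠ 0 → i ≠ 1 → i ≠ j → g i = i := by
      intro j hj
      fin_cases j
      · exact absurd hj (by decide)
      · exact absurd hj (by decide)
      · exact ⟨_, m2, by decide⟩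
      · exact ⟨_, m3, by decide⟩
      · exact ⟨_, m4, by decide⟩
      · exact ⟨_, m5, by decide⟩
      · exact ⟨_, m6, by decide⟩
    have key1 : ∀ k : Fin 7, ∃ g ∈ Subgroup.closure S, g 0 = k := by
      intro k
      by_cases hk0 : k = 0
      · exact ⟨1, one_mem _, by rw [hk0]; rfl⟩
      by_cases hk1 : k = 1
      · obtain ⟨g, hg, h1, -⟩ := key 2 (by decide)
        exact ⟨g, hg, by rw [h1, hk1]⟩
      · have hk : 2 ≤ k.1 := by
          have h1 : k.1 ≠ 0 := fun h => hk0 (Fin.ext h)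
          have h2 : k.1 ≠ 1 := fun h => hk1 (Fin.ext h)
          omega
        obtain ⟨g, hg, -, h1, h2, -⟩ := key k hk
        refine ⟨g⁻¹, inv_mem hg, ?_⟩
        rw [← h2]; exact Equiv.symm_apply_apply g k
    have key2 : ∀ l : Fin 7, l ≠ 0 → ∃ g ∈ Subgroup.closure S, g 0 = 0 ∧ g 1 = l := by
      intro l hl0
      by_cases hl1 : l = 1
      · exact ⟨1, one_mem _, rfl, by rw [hl1]; rfl⟩
      · have hl : 2 ≤ l.1 := by
          have h1 : l.1 ≠ 0 := fun h => hl0 (Fin.ext h)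
          have h2 : l.1 ≠ 1 := fun h => hl1 (Fin.ext h)
          omega
        obtain ⟨m, hm, hml⟩ : ∃ m : Fin 7, 2 ≤ m.1 ∧ m ≠ l := by
          by_cases h : l = 2
          · exact ⟨3, by decide, by rw [h]; decide⟩
          · exact ⟨2, by decide, fun h' => h h'.symm⟩
        obtain ⟨g, hg, e1, e2, e3, e4⟩ := key l hl
        obtain ⟨g', hg', f1, f2, f3, f4⟩ := key m hm
        refine ⟨g'⁻¹ * g, mul_mem (inv_mem hg') hg, ?_, ?_⟩
        · change g'⁻¹ (g 0) = 0
          rw [e1, ← f1]; exact Equiv.symm_apply_apply g' 0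
        · change g'⁻¹ (g 1) = l
          rw [e2]
          have h5 := f4 l hl0 hl1 (Ne.symm hml)
          conv_lhs => rw [← h5]
          exact Equiv.symm_apply_apply g' l
    intro k l hkl
    obtain ⟨g, hg, h1⟩ := key1 k
    obtain ⟨g', hg', h2, h3⟩ := key2 (g⁻¹ l) (fun h => hkl (by rw [← h1, ← h]; exact (Equiv.apply_symm_apply g l)))
    refine ⟨g * g', mul_mem hg hg', ?_, ?_⟩
    · change g (g' 0) = k
      rw [h2, h1]
    · change g (g' 1) = l
      rw [h3]; exact Equiv.apply_symm_apply g l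
  · have : (c2 : Perm (Fin 7)) = swap 1 0 * swap 1 2 := by decide
    rw [this]
    exact Perm.isThreeCycle_swap_mul_swap_same (by decide) (by decide) (by decide)

/-! ## three involutions -/

def tx : A := e2 1 6 3 5
def ty : A := e2 2 3 4 6
def tz : A := e2 0 1 2 4

theorem top_of_t (K : Subgroup A) (hx : tx ∈ K) (hy : ty ∈ K) (hz : tz ∈ K) : K = ⊤ := by
  refine top_of_c K ?_ ?_ ?_ ?_ ?_
  · rw [show c2 = tz * ty * tz * tx * tz * tx * ty * tz by decide]
    exact mul_mem (mul_mem (mul_mem (mul_mem (mul_mem (mul_mem (mul_mem (hz) hy) hz) hx) hz) hx) hy) hz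
  · rw [show c3 = ty * tz * ty * tz * tx * tz * tx * ty * tz * ty by decide]
    exact mul_mem (mul_mem (mul_mem (mul_mem (mul_mem (mul_mem (mul_mem (mul_mem (mul_mem (hy) hz) hy) hz) hx) hz) hx) hy) hz) hy
  · rw [show c4 = ty * tx * tz * tx * tz * ty by decide]
    exact mul_mem (mul_mem (mul_mem (mul_mem (mul_mem (hy) hx) hz) hx) hz) hy
  · rw [show c5 = tz * tx * ty * tz * ty * tz * tx by decide]
    exact mul_mem (mul_mem (mul_mem (mul_mem (mul_mem (mul_mem (hz) hx) hy) hz) hy) hz) hx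
  · rw [show c6 = tx * tz * tx * tz by decide]
    exact mul_mem (mul_mem (mul_mem (hx) hz) hx) hz

theorem conj_tx : e2 0 6 2 5 * s1 * (e2 0 6 2 5)⁻¹ = tx := by decide
theorem conj_ty : e2 0 4 1 6 * s1 * (e2 0 4 1 6)⁻¹ = ty := by decide
theorem conj_tz : e2 3 4 5 6 * s1 * (e2 3 4 5 6)⁻¹ = tz := by decide
theorem conj_w : e2 2 4 3 5 * s1 * (e2 2 4 3 5)⁻¹ = w := by decide

/-! ## two elements of order four -/

def qx : A := e2 0 5 2 3 * e2 3 6 6 4
def qy : A := e2 0 1 2 5 * e2 5 4 4 3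
def x4 : A := w * s2

theorem top_of_q (K : Subgroup A) (hx : qx ∈ K) (hy : qy ∈ K) : K = ⊤ := by
  have hx' := inv_mem hx
  have hy' := inv_mem hy
  refine top_of_c K ?_ ?_ ?_ ?_ ?_
  · rw [show c2 = qy * qx * qx * qy * qx⁻¹ * qy by decide]
    exact mul_mem (mul_mem (mul_mem (mul_mem (mul_mem (hy) hx) hx) hy) (inv_mem hx)) hy
  · rw [show c3 = qy * qy * qx * qy⁻¹ * qx * qx by decide]
    exact mul_mem (mul_mem (mul_mem (mul_mem (mul_mem (hy) hy) hx) (inv_mem hy)) hx) hx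
  · rw [show c4 = qx * qx * qy * qy * qx * qy⁻¹ by decide]
    exact mul_mem (mul_mem (mul_mem (mul_mem (mul_mem (hx) hx) hy) hy) hx) (inv_mem hy)
  · rw [show c5 = qx * qy⁻¹ * qx * qx * qy * qy by decide]
    exact mul_mem (mul_mem (mul_mem (mul_mem (mul_mem (hx) (inv_mem hy)) hx) hx) hy) hy
  · rw [show c6 = qy * qx * qx * qy⁻¹ * qx⁻¹ * qy * qx * qx by decide]
    exact mul_mem (mul_mem (mul_mem (mul_mem (mul_mem (mul_mem (mul_mem (hy) hx) hx) (inv_mem hy)) (inv_mem hx)) hy) hx) hx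

theorem conj_qx : (e2 0 2 2 3 * e2 3 4 1 6) * x4 * (e2 0 2 2 3 * e2 3 4 1 6)⁻¹ = qx := by decide
theorem conj_qy : (e2 0 2 2 5 * e2 5 1 1 4) * x4 * (e2 0 2 2 5 * e2 5 1 1 4)⁻¹ = qy := by decide
theorem conj_qz : (e2 1 5 5 6 * e2 6 3 3 2) * x4 * (e2 1 5 5 6 * e2 6 3 3 2)⁻¹ = qx * qy := by decide

/-! ## three three-cycles -/

def d3 : A := e2 2 3 3 4

theorem top_of_d (K : Subgroup A) (hx : c2 ∈ K) (hy : d3 ∈ K) (hz : b ∈ K) : K = ⊤ := by
  have hx' := inv_mem hx
  have hy' := inv_mem hy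
  have hz' := inv_mem hz
  refine top_of_c K hx ?_ ?_ ?_ ?_
  · rw [show c3 = d3 * c2 * d3⁻¹ by decide]
    exact mul_mem (mul_mem (hy) hx) (inv_mem hy)
  · rw [show c4 = d3⁻¹ * c2 * d3 by decide]
    exact mul_mem (mul_mem ((inv_mem hy)) hx) hy
  · rw [show c5 = b * d3⁻¹ * c2 * d3 * b⁻¹ by decide]
    exact mul_mem (mul_mem (mul_mem (mul_mem (hz) (inv_mem hy)) hx) hy) (inv_mem hz)
  · rw [show c6 = b⁻¹ * d3⁻¹ * c2 * d3 * b by decide]
    exact mul_mem (mul_mem (mul_mem (mul_mem ((inv_mem hz)) (inv_mem hy)) hx) hy) hz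

theorem conj_c2 : (e2 0 3 3 6 * e2 1 4 2 5) * b * (e2 0 3 3 6 * e2 1 4 2 5)⁻¹ = c2 := by decide
theorem conj_d3 : (e2 2 5 3 6) * b * (e2 2 5 3 6)⁻¹ = d3 := by decide
theorem conj_a : (e2 1 4 2 6 * e2 6 3 3 5) * b * (e2 1 4 2 6 * e2 6 3 3 5)⁻¹ = a := by decide

/-! ## the pair used for the model -/

theorem top_of_g (K : Subgroup A) (hx : c2 ∈ K) (hy : g7 ∈ K) : K = ⊤ := by
  have hx' := inv_mem hx
  have hy' := inv_mem hy
  refine top_of_c K hx ?_ ?_ ?_ ?_
  · rw [show c3 = c2 * g7 * c2⁻¹ * g7⁻¹ by decide]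
    exact mul_mem (mul_mem (mul_mem (hx) hy) (inv_mem hx)) (inv_mem hy)
  · rw [show c4 = c2 * g7 * g7 * c2 * g7⁻¹ * c2⁻¹ * g7⁻¹ by decide]
    exact mul_mem (mul_mem (mul_mem (mul_mem (mul_mem (mul_mem (hx) hy) hy) hx) (inv_mem hy)) (inv_mem hx)) (inv_mem hy)
  · rw [show c5 = g7⁻¹ * g7⁻¹ * c2⁻¹ * g7 * c2 * g7 by decide]
    exact mul_mem (mul_mem (mul_mem (mul_mem (mul_mem ((inv_mem hy)) (inv_mem hy)) (inv_mem hx)) hy) hx) hy
  · rw [show c6 = g7⁻¹ * c2 * g7 by decide]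
    exact mul_mem (mul_mem ((inv_mem hy)) hx) hy

end Cfsg.Agent.H923.Ten.A7
end
end
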