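import Cfsg.Agent.H923.Ten.U42Aut_m3
import Cfsg.Agent.H906.Cover_m3
import Cfsg.Agent.Lib.FinFast
import Cfsg.Agent.H840.M11.Rho_m3
import Cfsg.Agent.H840.L34.Kill_m3
import Cfsg.Agent.H6.M11.Main11
import Cfsg.Agent.H48.M12Three
import Cfsg.Agent.H936.List12c
import Cfsg.Agent.H937.T2Rep_m3
import Cfsg.Agent.H614.AMod.Main
import Cfsg.Agent.H464.L2Num_m3
import Cfsg.Agent.H175.LD.Core33
import Cfsg.Agent.H936.U33All
import Cfsg.Agent.H36.U52.Main
import Cfsg.Agent.H916.SpSixK_mg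
import Cfsg.Agent.H921.M22.Final_m3
import Cfsg.Agent.H814.SzEightCore
import Cfsg.Agent.H6.M11.StageCover
import Cfsg.Agent.H24.M12.Main
import Cfsg.Agent.H878.Sz.MainThree
import Cfsg.Agent.H878.Sz.MainP3
import Cfsg.Agent.H4.LDM.Stage24
import Cfsg.Agent.H1.TJ1
import Cfsg.Agent.H1.TJ2
import Cfsg.Agent.H95.JT.Core
import Cfsg.Agent.H937.G24.Row
import Cfsg.Agent.H219.HerSmall
import Cfsg.Agent.S0277
import Cfsg.Agent.H887.DS.SixFive
import Cfsg.Agent.H905.MdP
import Cfsg.Agent.H218.SdDC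
import Cfsg.Agent.H927.LDTwF4
import Cfsg.Agent.H637.A7Main
import Cfsg.Agent.H920.NineBase
import Cfsg.Agent.H879.Nine.Ctx_m3
import Cfsg.Agent.H925.U52Form
import Cfsg.Agent.H876.D3.Main5_m3
import Cfsg.Agent.FastGrp
import Cfsg.Agent.Prune
set_option linter.all false

section
prune_inst 0x7ffdb9f9fbb87bffdfff7e7ffededdfdf9b9bfffe4dff9cbffe061ffabdf6b02c9e523ad87eb10fe0ed6429410e87b43ffffeeffe86fdc7ffffd5ff41ffbffcffdf7b508519488340fb82ff603f0778e7f3fffffffffffffffffffffffffffbeffffffffffff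

-- part: H840/M11/Frm
section
set_option linter.all false
open scoped Cfsg.Agent.FastGrp

/-!
# The invariant form of the ten-dimensional representation of `M11`
-/

set_option autoImplicit false
set_option linter.unusedSectionVars false
set_option linter.unusedVariables false
set_option maxRecDepth 100000

namespace Cfsg.Agent.H840.M11

open Cfsg Cfsg.Geo Cfsg.Agent.CoThreeStd.MTwelve Cfsg.Agent.H6.M11
open scoped Matrix

/-- transposed list -/
def trl (M : List (List Zs)) : List (List Zs) := (List.range 10).map fun i => (List.range 10).map fun j =>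
  (M.getD j []).getD i (0, 0)

/-- conjugate list -/
def cjl (M : List (List Zs)) : List (List Zs) := (List.range 10).map fun i => (List.range 10).map fun j =>
  zc ((M.getD i []).getD j (0, 0))

/-- check of the invariance of the form -/
def chf (M : List (List Zs)) : Bool := (List.range 10).all fun j =>
  eqv 0 10 (app [trl M, Ph, cjl M] (bv 10 j)) (app [Ph] (bv 10 j))

private noncomputable def _root_.Cfsg.Agent.LsF.f26e938_0 : {f // @Cfsg.Agent.H840.M11.zr = f} := ⟨_, by first | (delta Cfsg.Agent.H840.M11.zr; rewrite [Cfsg.Agent.LsF.imod_pat]; exact rfl) | exact rfl⟩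
private noncomputable def _root_.Cfsg.Agent.LsF.f26e938_1 : {f // @Cfsg.Agent.H840.M11.eqv = f} := ⟨_, by first | (delta Cfsg.Agent.H840.M11.eqv; rewrite [Cfsg.Agent.LsF.f26e938_0.2, Cfsg.Agent.LsF.dProdEq_eq, Cfsg.Agent.LsF.all_eq, Cfsg.Agent.LsF.range_eq, Cfsg.Agent.LsF.getD_eq, Cfsg.Agent.LsF.instIDecEq_eq, Cfsg.Agent.LsF.decide_eq]; exact rfl) | exact rfl⟩
private noncomputable def _root_.Cfsg.Agent.LsF.f26e938_2 : {f // @Cfsg.Agent.H840.M11.za = f} := ⟨_, by first | (delta Cfsg.Agent.H840.M11.za; rewrite [Cfsg.Agent.LsF.iadd_pat]; exact rfl) | exact rfl⟩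
private noncomputable def _root_.Cfsg.Agent.LsF.f26e938_3 : {f // @Cfsg.Agent.H840.M11.zm = f} := ⟨_, by first | (delta Cfsg.Agent.H840.M11.zm; rewrite [Cfsg.Agent.LsF.iadd_pat, Cfsg.Agent.LsF.imul_pat, Cfsg.Agent.LsF.isub_pat]; exact rfl) | exact rfl⟩
private noncomputable def _root_.Cfsg.Agent.LsF.f26e938_4 : {f // @Cfsg.Agent.H840.M11.dot = f} := ⟨_, by first | (delta Cfsg.Agent.H840.M11.dot List.brecOn List.brecOn.go Cfsg.Agent.H840.M11.dot._f; rewrite [Cfsg.Agent.LsF.f26e938_2.2, Cfsg.Agent.LsF.f26e938_3.2]; (try delta Cfsg.Agent.H840.M11.dot.match_1); (try delta Cfsg.Agent.H840.M11.dot._sparseCasesOn_1); first | dsimp -zeta only | exact rfl) | exact rfl⟩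
private noncomputable def _root_.Cfsg.Agent.LsF.f26e938_5 : {f // @Cfsg.Agent.H840.M11.mv = f} := ⟨_, by first | (delta Cfsg.Agent.H840.M11.mv; rewrite [Cfsg.Agent.LsF.f26e938_4.2, Cfsg.Agent.LsF.map_eq]; exact rfl) | exact rfl⟩
private noncomputable def _root_.Cfsg.Agent.LsF.f26e938_6 : {f // @Cfsg.Agent.H840.M11.app = f} := ⟨_, by first | (delta Cfsg.Agent.H840.M11.app; rewrite [Cfsg.Agent.LsF.f26e938_5.2, Cfsg.Agent.LsF.foldr_eq]; exact rfl) | exact rfl⟩
private noncomputable def _root_.Cfsg.Agent.LsF.f26e938_7 : {f // @Cfsg.Agent.H840.M11.trl = f} := ⟨_, by first | (delta Cfsg.Agent.H840.M11.trl; rewrite [Cfsg.Agent.LsF.map_eq, Cfsg.Agent.LsF.range_eq, Cfsg.Agent.LsF.getD_eq]; exact rfl) | exact rfl⟩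
private noncomputable def _root_.Cfsg.Agent.LsF.f26e938_8 : {f // @Cfsg.Agent.H840.M11.zc = f} := ⟨_, by first | (delta Cfsg.Agent.H840.M11.zc; rewrite [Cfsg.Agent.LsF.ineg_pat]; exact rfl) | exact rfl⟩
private noncomputable def _root_.Cfsg.Agent.LsF.f26e938_9 : {f // @Cfsg.Agent.H840.M11.cjl = f} := ⟨_, by first | (delta Cfsg.Agent.H840.M11.cjl; rewrite [Cfsg.Agent.LsF.f26e938_8.2, Cfsg.Agent.LsF.map_eq, Cfsg.Agent.LsF.range_eq, Cfsg.Agent.LsF.getD_eq]; exact rfl) | exact rfl⟩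
private noncomputable def _root_.Cfsg.Agent.LsF.f26e938_10 : {f // @Cfsg.Agent.H840.M11.bv = f} := ⟨_, by first | (delta Cfsg.Agent.H840.M11.bv; rewrite [Cfsg.Agent.LsF.instDecEq_eq, Cfsg.Agent.LsF.map_eq, Cfsg.Agent.LsF.range_eq, Cfsg.Agent.LsF.ite_eq]; exact rfl) | exact rfl⟩
private noncomputable def _root_.Cfsg.Agent.LsF.f26e938_11 : {f // @Cfsg.Agent.H840.M11.chf = f} := ⟨_, by first | (delta Cfsg.Agent.H840.M11.chf; rewrite [Cfsg.Agent.LsF.f26e938_1.2, Cfsg.Agent.LsF.f26e938_6.2, Cfsg.Agent.LsF.f26e938_7.2, Cfsg.Agent.LsF.f26e938_9.2, Cfsg.Agent.LsF.f26e938_10.2, Cfsg.Agent.LsF.all_eq, Cfsg.Agent.LsF.range_eq]; exact rfl) | exact rfl⟩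
theorem chf_spec : chf U1 = true ∧ chf U2 = true ∧ chf Aa = true ∧ chf Gg = true := by (refine of_decide_eq_true ?_; (try (rewrite [Cfsg.Agent.LsF.f26e938_11.2, Cfsg.Agent.LsF.dAnd_eq, Cfsg.Agent.LsF.dBoolEq_eq, Cfsg.Agent.LsF.decide_eq])); decide +kernel)

theorem inv_spec : ∀ j < 10, eqv 0 10 (app [Ph, Ps] (bv 10 j)) (app [] (bv 10 j)) = true := by (refine of_decide_eq_true ?_; (try (rewrite [Cfsg.Agent.LsF.f26e938_1.2, Cfsg.Agent.LsF.f26e938_6.2, Cfsg.Agent.LsF.f26e938_10.2, Cfsg.Agent.LsF.dBoolEq_eq, Cfsg.Agent.LsF.dBallLT_eq, Cfsg.Agent.LsF.decide_eq])); decide +kernel)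

theorem ok_range (f : ℕ → ℕ → Zs) : okm 10 ((List.range 10).map fun i => (List.range 10).map fun j => f i j) = true := by
  rw [okm, List.all_eq_true]
  intro r hr
  obtain ⟨i, -, rfl⟩ := List.mem_map.1 hr
  rw [List.length_map, List.length_range]
  rfl

section

variable {F : Type*} [Field F] {s : F}

theorem tm_trl (M : List (List Zs)) : tm s 10 (trl M) = (tm s 10 M)ᵀ := by
  ext i j
  change zf s (((trl M).getD i []).getD j (0, 0)) = zf s ((M.getD j []).getD i (0, 0))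
  unfold trl
  rw [getD_map_range _ _ _ _ i.2, getD_map_range _ _ _ _ j.2]

theorem tm_cjl (M : List (List Zs)) : tm s 10 (cjl M) = tm (-s) 10 M := by
  ext i j
  change zf s (((cjl M).getD i []).getD j (0, 0)) = zf (-s) ((M.getD i []).getD j (0, 0))
  unfold cjl
  rw [getD_map_range _ _ _ _ i.2, getD_map_range _ _ _ _ j.2, zf_conj]

theorem tm_map {σ : F ≃+* F} (hσ : σ s = -s) (M : List (List Zs)) : (tm s 10 M).map σ = tm (-s) 10 M := by
  ext i j
  change σ (zf s ((M.getD i []).getD j (0, 0))) = zf (-s) ((M.getD i []).getD j (0, 0))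
  unfold zf
  rw [map_add, map_mul, hσ, map_intCast, map_intCast]

theorem form_of_chf (hs : s * s = -2) {σ : F ≃+* F} (hσ : σ s = -s) {M : List (List Zs)} (h : chf M = true) :
    (tm s 10 M)ᵀ * tm s 10 Ph * (tm s 10 M).map σ = tm s 10 Ph := by
  rw [tm_map hσ, ← tm_cjl, ← tm_trl]
  have h1 : ∀ M' ∈ [trl M, Ph, cjl M], okm 10 M' = true := by
    intro M' hM'
    simp only [List.mem_cons, List.not_mem_nil, or_false] at hM'
    rcases hM' with rfl | rfl | rfl
    · exact ok_range _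
    · exact OT_ok.2.2.2.2.2.1
    · exact ok_range _
  have h2 := prod_eq hs (z0 (F := F)) h1 (Ns := [Ph]) (by
    intro M' hM'
    rw [List.mem_singleton.1 hM']
    exact OT_ok.2.2.2.2.2.1) (fun j hj => List.all_eq_true.1 h j (List.mem_range.2 hj))
  simpa [Matrix.mul_assoc] using h2

theorem unit_Ph (hs : s * s = -2) : IsUnit (tm s 10 Ph) := by
  have h := prod_eq hs (z0 (F := F)) (Ms := [Ph, Ps]) (Ns := []) (by
    intro M' hM'
    simp only [List.mem_cons, List.not_mem_nil, or_false] at hM'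
    rcases hM' with rfl | rfl
    · exact OT_ok.2.2.2.2.2.1
    · exact OT_ok.2.2.2.2.2.2) (by simp) inv_spec
  have h1 : tm s 10 Ph * tm s 10 Ps = 1 := by simpa using h
  exact IsUnit.of_mul_eq_one _ h1

theorem form_rho (hs : s * s = -2) {ρ : Spor.M11 →* Matrix (Fin 10) (Fin 10) F}
    (hρ : ∀ i < 3, ρ (gu i) = tm s 10 (Mt i)) {σ : F ≃+* F} (hσ : σ s = -s) (x : Spor.M11) :
    (ρ x)ᵀ * tm s 10 Ph * (ρ x).map σ = tm s 10 Ph := by
  have hx : x ∈ Subgroup.closure ({gu 0, gu 1, gu 2} : Set Spor.M11) := by rw [gen_gu]; trivial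
  induction hx using Subgroup.closure_induction with
  | mem x hx =>
    rcases hx with rfl | rfl | hx
    · rw [hρ 0 (by norm_num)]
      exact form_of_chf hs hσ chf_spec.1
    · rw [hρ 1 (by norm_num)]
      exact form_of_chf hs hσ chf_spec.2.1
    · rw [Set.mem_singleton_iff.1 hx, hρ 2 (by norm_num)]
      exact form_of_chf hs hσ chf_spec.2.2.1
  | one =>
    rw [map_one, Matrix.transpose_one, Matrix.one_mul, Matrix.map_one _ (map_zero σ) (map_one σ), Matrix.mul_one]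
  | mul a b _ _ ha hb =>
    rw [map_mul, Matrix.transpose_mul, Matrix.map_mul]
    calc (ρ b)ᵀ * (ρ a)ᵀ * tm s 10 Ph * ((ρ a).map σ * (ρ b).map σ)
        = (ρ b)ᵀ * ((ρ a)ᵀ * tm s 10 Ph * (ρ a).map σ) * (ρ b).map σ := by simp only [Matrix.mul_assoc]
      _ = _ := by rw [ha, hb]
  | inv a _ ha =>
    have h1 : ρ a * ρ a⁻¹ = 1 := by rw [← map_mul, mul_inv_cancel, map_one]
    have h2 : (ρ a⁻¹)ᵀ * (ρ a)ᵀ = 1 := by rw [← Matrix.transpose_mul, h1, Matrix.transpose_one]
    have h3 : (ρ a).map σ * (ρ a⁻¹).map σ = 1 := by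
      rw [← Matrix.map_mul, h1, Matrix.map_one _ (map_zero σ) (map_one σ)]
    calc (ρ a⁻¹)ᵀ * tm s 10 Ph * (ρ a⁻¹).map σ
        = (ρ a⁻¹)ᵀ * ((ρ a)ᵀ * tm s 10 Ph * (ρ a).map σ) * (ρ a⁻¹).map σ := by rw [ha]
      _ = ((ρ a⁻¹)ᵀ * (ρ a)ᵀ) * tm s 10 Ph * ((ρ a).map σ * (ρ a⁻¹).map σ) := by simp only [Matrix.mul_assoc]
      _ = _ := by rw [h2, h3, Matrix.one_mul, Matrix.mul_one]

end

end Cfsg.Agent.H840.M11

private theorem dce_6804ee3abd6a : _root_.True := by
  try have : _root_.True := by simp only [_root_.Cfsg.Agent.H840.M11.okm.eq_1]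
  exact _root_.True.intro
end

-- part: H840/M11/Kil
section
prune_inst 0x20402044284002000000000010202060440001b200400000d00000400143d0400980008006b0191212028c01600900000100000000000000000004000001002080800200a248010464009f800080000000000000000000000000000000041000000000000
set_option linter.all false
open scoped Cfsg.Agent.FastGrp

/-!
# The overgroup of `M11` in degree ten
-/

set_option autoImplicit false
set_option linter.constructorNameAsVariable false
set_option linter.unusedSectionVars false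
set_option linter.unusedVariables false

namespace Cfsg.Agent.H840.M11

open Cfsg Cfsg.Geo H915.LD Cfsg.Agent.CoThreeStd.MTwelve Cfsg.Agent.H6.M11
open Cfsg.Agent.H840.L34 (spf spf_inj card_X sgl_det ext_vec)
open scoped Matrix MatrixGroups

universe u

variable {F : Type u} [Field F] [Finite F] {P : Subgroup (GL (Fin 10) F)}

/-- the representation given by an isomorphism with `M11` -/
noncomputable def rhoP (e : P ≃* Spor.M11) : Spor.M11 →* Matrix (Fin 10) (Fin 10) F :=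
  ((Units.coeHom (Matrix (Fin 10) (Fin 10) F)).comp P.subtype).comp e.symm.toMonoidHom

theorem rhoP_apply (e : P ≃* Spor.M11) (x : Spor.M11) :
    rhoP e x = (((e.symm x : P) : GL (Fin 10) F) : Matrix (Fin 10) (Fin 10) F) := rfl

theorem span_rhoP (hC : Core P) (e : P ≃* Spor.M11) : Submodule.span F (Set.range (rhoP e)) = ⊤ := by
  rw [← span_mat hC]
  congr 1
  ext X
  constructor
  · rintro ⟨x, rfl⟩
    exact ⟨e.symm x, rfl⟩
  · rintro ⟨p, rfl⟩
    exact ⟨e p, by rw [rhoP_apply, MulEquiv.symm_apply_apply]⟩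

/-- the trace hypothesis -/
def HTr (e : P ≃* Spor.M11) (s : F) : Prop := ∀ i < 10, tr ((e.symm (ev v11 (rv i)) : P) : GL (Fin 10) F) = zf s (rt i)

variable {s : F}

theorem trace_eq (e : P ≃* Spor.M11) (hs : s * s = -2) (htr : HTr e s) {ρ : Spor.M11 →* Matrix (Fin 10) (Fin 10) F}
    (hρ : ∀ i < 3, ρ (gu i) = tm s 10 (Mt i)) (x : Spor.M11) : (rhoP e x).trace = (ρ x).trace := by
  obtain ⟨i, hi, -⟩ := exists_rep ⟨MulEquiv.refl Spor.M11⟩ orders_11.1 orders_11.2.1 orders_11.2.2.1 orders_11.2.2.2 x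
  rw [repsOf_eq] at hi
  have key : ∀ ρ' : Spor.M11 →* Matrix (Fin 10) (Fin 10) F, (ρ' x).trace = (ρ' (ev v11 (rv i))).trace := by
    intro ρ'
    obtain ⟨c, hc⟩ := isConj_iff.1 hi
    rw [← hc, map_mul, map_mul, Matrix.trace_mul_comm, ← Matrix.mul_assoc, ← map_mul, inv_mul_cancel, map_one,
      Matrix.one_mul]
  rw [key, key, trace_rho hs hρ i.2]
  exact htr i i.2

/-- **the additional element** -/
theorem exists_g (hC : Core P) (e : P ≃* Spor.M11) (hs : s * s = -2) (h2 : (2 : F) ≠ 0) (htr : HTr e s) :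
    ∃ g : GL (Fin 10) F, g * g = 1 ∧
      ((g * (e.symm (gu 0) : P) * (g * (e.symm (gu 0) : P)) : GL (Fin 10) F) : Matrix (Fin 10) (Fin 10) F) = -1 ∧
      g * (e.symm (gu 1) : P) = (e.symm (gu 1) : P) * g ∧
      g * (e.symm (gu 2) : P) * g = (e.symm (gu 2) : P) * g * (e.symm (gu 2) : P) ∧
      ∀ σ : F ≃+* F, σ s = -s → ∀ M : Matrix (Fin 10) (Fin 10) F,
        (∀ p ∈ P, ((p : Matrix (Fin 10) (Fin 10) F))ᵀ * M * (p : Matrix (Fin 10) (Fin 10) F).map σ = M) →
        ((g : Matrix (Fin 10) (Fin 10) F))ᵀ * M * (g : Matrix (Fin 10) (Fin 10) F).map σ = M := by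
  obtain ⟨ρ, hρ⟩ := exists_rho hs h2
  have hsp := span_rhoP hC e
  have hte := trace_eq e hs htr hρ
  obtain ⟨B, hB⟩ := Cfsg.Agent.H906.exists_conj_of_trace (rhoP e) ρ hsp (span_of_trace _ _ hsp hte) hte
  obtain ⟨G1, G2, G3, G4⟩ := G_rel (F := F) hs
  let G : GL (Fin 10) F := ⟨tm s 10 Gg, tm s 10 Gg, G1, G1⟩
  -- the generators after conjugation
  have hu : ∀ i < 3, B * ((e.symm (gu i) : P) : GL (Fin 10) F) * B⁻¹ =
      B * ((e.symm (gu i) : P) : GL (Fin 10) F) * B⁻¹ ∧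
      ((B * ((e.symm (gu i) : P) : GL (Fin 10) F) * B⁻¹ : GL (Fin 10) F) : Matrix (Fin 10) (Fin 10) F) =
        tm s 10 (Mt i) := by
    intro i hi
    refine ⟨rfl, ?_⟩
    rw [Units.val_mul, Units.val_mul, ← rhoP_apply, ← hB, hρ i hi]
  have hv : ∀ i < 3, ((e.symm (gu i) : P) : GL (Fin 10) F) =
      B⁻¹ * (B * ((e.symm (gu i) : P) : GL (Fin 10) F) * B⁻¹) * B := fun i _ => by group
  refine ⟨B⁻¹ * G * B, ?_, ?_, ?_, ?_, ?_⟩
  · have h1 : G * G = 1 := Units.ext G1
    calc B⁻¹ * G * B * (B⁻¹ * G * B) = B⁻¹ * (G * G) * B := by group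
      _ = 1 := by rw [h1]; group
  · generalize hU : B * ((e.symm (gu 0) : P) : GL (Fin 10) F) * B⁻¹ = U at hu hv
    have h0 := (hu 0 (by norm_num)).2
    rw [hU] at h0
    have h1 : ((e.symm (gu 0) : P) : GL (Fin 10) F) = B⁻¹ * U * B := by rw [← hU]; group
    have h3 : G * U * (G * U) = -1 := by
      apply Units.ext
      rw [Units.val_mul, Units.val_mul, h0, Units.val_neg, Units.val_one]
      exact G2
    have h4 : B⁻¹ * G * B * ((e.symm (gu 0) : P) : GL (Fin 10) F) *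
        (B⁻¹ * G * B * ((e.symm (gu 0) : P) : GL (Fin 10) F)) = -1 := by
      rw [h1]
      calc B⁻¹ * G * B * (B⁻¹ * U * B) * (B⁻¹ * G * B * (B⁻¹ * U * B)) = B⁻¹ * (G * U * (G * U)) * B := by group
        _ = B⁻¹ * (-1) * B := by rw [h3]
        _ = -1 := by rw [mul_neg, mul_one, neg_mul, inv_mul_cancel]
    rw [h4, Units.val_neg, Units.val_one]
  · generalize hU : B * ((e.symm (gu 1) : P) : GL (Fin 10) F) * B⁻¹ = U
    have h0 := (hu 1 (by norm_num)).2
    rw [hU] at h0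
    have h1 : ((e.symm (gu 1) : P) : GL (Fin 10) F) = B⁻¹ * U * B := by rw [← hU]; group
    have h3 : G * U = U * G := by
      apply Units.ext
      rw [Units.val_mul, Units.val_mul, h0]
      exact G3
    rw [h1]
    calc B⁻¹ * G * B * (B⁻¹ * U * B) = B⁻¹ * (G * U) * B := by group
      _ = B⁻¹ * (U * G) * B := by rw [h3]
      _ = _ := by group
  · generalize hU : B * ((e.symm (gu 2) : P) : GL (Fin 10) F) * B⁻¹ = U
    have h0 := (hu 2 (by norm_num)).2
    rw [hU] at h0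
    have h1 : ((e.symm (gu 2) : P) : GL (Fin 10) F) = B⁻¹ * U * B := by rw [← hU]; group
    have h3 : G * U * G = U * G * U := by
      apply Units.ext
      rw [Units.val_mul, Units.val_mul, Units.val_mul, Units.val_mul, h0]
      exact G4
    rw [h1]
    calc B⁻¹ * G * B * (B⁻¹ * U * B) * (B⁻¹ * G * B) = B⁻¹ * (G * U * G) * B := by group
      _ = B⁻¹ * (U * G * U) * B := by rw [h3]
      _ = _ := by group
  · intro σ hσ M hM
    have hBi : (B : Matrix (Fin 10) (Fin 10) F) * ((B⁻¹ : GL (Fin 10) F) : Matrix (Fin 10) (Fin 10) F) = 1 := by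
      rw [← Units.val_mul, mul_inv_cancel, Units.val_one]
    have hiB : ((B⁻¹ : GL (Fin 10) F) : Matrix (Fin 10) (Fin 10) F) * (B : Matrix (Fin 10) (Fin 10) F) = 1 := by
      rw [← Units.val_mul, inv_mul_cancel, Units.val_one]
    have ms : ∀ X Y : Matrix (Fin 10) (Fin 10) F, (X * Y).map σ = X.map σ * Y.map σ := fun X Y => Matrix.map_mul
    have m1 : (1 : Matrix (Fin 10) (Fin 10) F).map σ = 1 := Matrix.map_one _ (map_zero σ) (map_one σ)
    set N : Matrix (Fin 10) (Fin 10) F := (B : Matrix (Fin 10) (Fin 10) F)ᵀ * tm s 10 Ph *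
      (B : Matrix (Fin 10) (Fin 10) F).map σ with hN
    have hNu : IsUnit N := by
      refine IsUnit.mul (IsUnit.mul ((Matrix.isUnit_transpose _).2 B.isUnit) (unit_Ph hs)) ?_
      exact B.isUnit.map (RingHom.mapMatrix (m := Fin 10) (σ : F →+* F))
    -- conjugates
    have cj : ∀ X : Matrix (Fin 10) (Fin 10) F, Xᵀ * tm s 10 Ph * X.map σ = tm s 10 Ph →
        (((B⁻¹ : GL (Fin 10) F) : Matrix (Fin 10) (Fin 10) F) * X * (B : Matrix (Fin 10) (Fin 10) F))ᵀ * N *
          (((B⁻¹ : GL (Fin 10) F) : Matrix (Fin 10) (Fin 10) F) * X * (B : Matrix (Fin 10) (Fin 10) F)).map σ = N := by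
      intro X hX
      have t1 : ((B⁻¹ : GL (Fin 10) F) : Matrix (Fin 10) (Fin 10) F)ᵀ * (B : Matrix (Fin 10) (Fin 10) F)ᵀ = 1 := by
        rw [← Matrix.transpose_mul, hBi, Matrix.transpose_one]
      have t2 : (B : Matrix (Fin 10) (Fin 10) F).map σ * ((B⁻¹ : GL (Fin 10) F) : Matrix (Fin 10) (Fin 10) F).map σ = 1 := by
        rw [← ms, hBi, m1]
      rw [Matrix.transpose_mul, Matrix.transpose_mul, ms, ms, hN]
      generalize (B : Matrix (Fin 10) (Fin 10) F).map σ = Bs at *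
      generalize ((B⁻¹ : GL (Fin 10) F) : Matrix (Fin 10) (Fin 10) F).map σ = Bis at *
      generalize ((B⁻¹ : GL (Fin 10) F) : Matrix (Fin 10) (Fin 10) F)ᵀ = Bit at *
      generalize (B : Matrix (Fin 10) (Fin 10) F)ᵀ = Bt at *
      generalize X.map σ = Xs at *
      calc Bt * (Xᵀ * Bit) * (Bt * tm s 10 Ph * Bs) * (Bis * Xs * Bs)
          = Bt * (Xᵀ * (Bit * Bt) * tm s 10 Ph * (Bs * Bis) * Xs) * Bs := by simp only [Matrix.mul_assoc]
        _ = Bt * (Xᵀ * tm s 10 Ph * Xs) * Bs := by rw [t1, t2, Matrix.mul_one, Matrix.mul_one]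
        _ = _ := by rw [hX]
    have hNP : ∀ p ∈ P, ((p : Matrix (Fin 10) (Fin 10) F))ᵀ * N * (p : Matrix (Fin 10) (Fin 10) F).map σ = N := by
      intro p hp
      have h1 := hB (e ⟨p, hp⟩)
      rw [rhoP_apply, MulEquiv.symm_apply_apply] at h1
      have h3 := cj _ (form_rho hs hρ hσ (e ⟨p, hp⟩))
      rw [h1] at h3
      have h4 : ((B⁻¹ : GL (Fin 10) F) : Matrix (Fin 10) (Fin 10) F) *
          ((B : Matrix (Fin 10) (Fin 10) F) * (p : Matrix (Fin 10) (Fin 10) F) *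
            ((B⁻¹ : GL (Fin 10) F) : Matrix (Fin 10) (Fin 10) F)) * (B : Matrix (Fin 10) (Fin 10) F) =
          (p : Matrix (Fin 10) (Fin 10) F) := by
        calc _ = (((B⁻¹ : GL (Fin 10) F) : Matrix (Fin 10) (Fin 10) F) * (B : Matrix (Fin 10) (Fin 10) F)) *
              (p : Matrix (Fin 10) (Fin 10) F) *
              (((B⁻¹ : GL (Fin 10) F) : Matrix (Fin 10) (Fin 10) F) * (B : Matrix (Fin 10) (Fin 10) F)) := by
              simp only [Matrix.mul_assoc]
          _ = _ := by rw [hiB, Matrix.one_mul, Matrix.mul_one]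
      rwa [h4] at h3
    obtain ⟨c, hc⟩ := Cfsg.Agent.H906.exists_smul_of_invariant hC.absIrred σ hNu hNP hM
    have h5 := cj _ (form_of_chf hs hσ chf_spec.2.2.2)
    have h6 : ((B⁻¹ * G * B : GL (Fin 10) F) : Matrix (Fin 10) (Fin 10) F) =
        ((B⁻¹ : GL (Fin 10) F) : Matrix (Fin 10) (Fin 10) F) * tm s 10 Gg * (B : Matrix (Fin 10) (Fin 10) F) := by
      rw [Units.val_mul, Units.val_mul]
    rw [h6, hc, Matrix.mul_smul, Matrix.smul_mul, h5]

/-- `-1` is not in `P` -/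
theorem neg_one_not_mem (e : P ≃* Spor.M11) (h2 : (2 : F) ≠ 0) (htr : HTr e s) {n : GL (Fin 10) F}
    (hn : (n : Matrix (Fin 10) (Fin 10) F) = -1) : n ∉ P := by
  intro hnP
  have h1 : orderOf (e ⟨n, hnP⟩) = 2 := by
    rw [MulEquiv.orderOf_eq]
    have : Fact (Nat.Prime 2) := ⟨Nat.prime_two⟩
    apply orderOf_eq_prime
    · apply Subtype.ext; apply Units.ext
      change ((n ^ 2 : GL (Fin 10) F) : Matrix (Fin 10) (Fin 10) F) = 1
      rw [Units.val_pow_eq_pow_val, hn, neg_one_sq]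
    · intro h
      have h3 : (n : Matrix (Fin 10) (Fin 10) F) = 1 := by
        rw [show n = 1 from congrArg Subtype.val h, Units.val_one]
      rw [hn] at h3
      have h4 : (-1 : Matrix (Fin 10) (Fin 10) F) 0 0 = (1 : Matrix (Fin 10) (Fin 10) F) 0 0 := congrFun (congrFun h3 0) 0
      rw [Matrix.neg_apply, Matrix.one_apply_eq] at h4
      apply h2
      linear_combination -h4
  obtain ⟨i, hi, hi'⟩ := exists_rep ⟨MulEquiv.refl Spor.M11⟩ orders_11.1 orders_11.2.1 orders_11.2.2.1 orders_11.2.2.2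
    (e ⟨n, hnP⟩)
  rw [repsOf_eq] at hi
  have h3 : i = 1 := by
    rw [h1] at hi'
    have : ∀ i : Fin 10, 2 = ordsOf i → i = 1 := by decide
    exact this i hi'
  subst h3
  obtain ⟨c, hc⟩ := isConj_iff.1 hi
  have h4 : tr ((e.symm (ev v11 (rv 1)) : P) : GL (Fin 10) F) = tr n := by
    have h5 : IsConj (e.symm (ev v11 (rv 1))) (⟨n, hnP⟩ : P) := by
      rw [isConj_iff]
      refine ⟨e.symm c, ?_⟩
      rw [← map_inv, ← map_mul, ← map_mul]
      change e.symm (c * ev v11 (rv (1 : Fin 10)) * c⁻¹) = _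
      rw [hc, MulEquiv.symm_apply_apply]
    exact tr_isConj h5
  rw [htr 1 (by norm_num)] at h4
  have h5 : tr n = -10 := by
    unfold tr
    rw [hn, Matrix.trace_neg, Matrix.trace_one, Fintype.card_fin]
    norm_num
  rw [h5] at h4
  have h6 : (zf s (rt 1) : F) = -2 := by
    change ((-2 : ℤ) : F) + ((0 : ℤ) : F) * s = -2
    push_cast; ring
  rw [h6] at h4
  have h8 : (2 : F) * (2 * 2) = 0 := by linear_combination h4
  rcases mul_eq_zero.1 h8 with h9 | h9
  · exact h2 h9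
  · rcases mul_eq_zero.1 h9 with h9 | h9 <;> exact h2 h9

/-- **General form.** -/
theorem kill_core {A H : Subgroup (GL (Fin 10) F)} (hH : IsMaximalIn A H) (hR : IsResidualCore H P)
    (e : P ≃* Spor.M11) (hs : s * s = -2) (h2 : (2 : F) ≠ 0) (htr : HTr e s) (hW : ∀ x, spf F x ∈ A)
    (hA : ∀ g : GL (Fin 10) F, Matrix.GeneralLinearGroup.det g = 1 →
      (∀ σ : F ≃+* F, σ s = -s → ∀ M : Matrix (Fin 10) (Fin 10) F,
        (∀ p ∈ P, ((p : Matrix (Fin 10) (Fin 10) F))ᵀ * M * (p : Matrix (Fin 10) (Fin 10) F).map σ = M) →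
        ((g : Matrix (Fin 10) (Fin 10) F))ᵀ * M * (g : Matrix (Fin 10) (Fin 10) F).map σ = M) → g ∈ A) : False := by
  have hC := core_of_residual hR
  obtain ⟨g, gg, g0, g1, ga, hform⟩ := exists_g hC e hs h2 htr
  have hZ : ∀ z ∈ scalars (Fin 10) F, ∀ x, z * x = x * z := fun z hz x => H920.scalars_comm hz x
  have hnorm : (scalars (Fin 10) F).Normal := ⟨fun z hz x => by
    rw [← hZ z hz, mul_assoc, mul_inv_cancel, mul_one]; exact hz⟩
  have hgA : g ∈ A := by
    apply hA g _ hform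
    have h3 := congrArg Matrix.GeneralLinearGroup.det ga
    simp only [map_mul] at h3
    rw [hC.det (e.symm (gu 2)).2, mul_one, one_mul, mul_one] at h3
    exact mul_eq_right.1 h3
  -- modulo scalars
  set q := QuotientGroup.mk' (scalars (Fin 10) F) with hq
  have q1 : ∀ x, x ∈ scalars (Fin 10) F → q x = 1 := fun x hx => (QuotientGroup.eq_one_iff x).2 hx
  have qe : ∀ x y, q x = q y → ∃ z ∈ scalars (Fin 10) F, x = y * z := by
    intro x y hxy
    have h3 := QuotientGroup.eq.1 hxy.symm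
    exact ⟨y⁻¹ * x, h3, by group⟩
  have hM0 : ∀ r ∈ M0, q ((e.symm r : P) : GL (Fin 10) F) ∈
      Subgroup.closure ({q ((e.symm (gu 0) : P) : GL (Fin 10) F), q ((e.symm (gu 1) : P) : GL (Fin 10) F)} : Set _) := by
    intro r hr
    induction hr using Subgroup.closure_induction with
    | mem x hx =>
      rcases hx with rfl | hx
      · exact Subgroup.subset_closure (Or.inl rfl)
      · rw [Set.mem_singleton_iff.1 hx]; exact Subgroup.subset_closure (Or.inr rfl)
    | one => rw [map_one, Subgroup.coe_one, map_one]; exact Subgroup.one_mem _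
    | mul x y _ _ hx hy => rw [map_mul, Subgroup.coe_mul, map_mul]; exact Subgroup.mul_mem _ hx hy
    | inv x _ hx => rw [map_inv, Subgroup.coe_inv, map_inv]; exact Subgroup.inv_mem _ hx
  obtain ⟨Q, hPQ, hgQ, hQ⟩ := exists_Q (P := P.map q) (u1 := q ((e.symm (gu 0) : P) : GL (Fin 10) F))
    (u2 := q ((e.symm (gu 1) : P) : GL (Fin 10) F)) (a := q ((e.symm (gu 2) : P) : GL (Fin 10) F)) (g := q g)
    ⟨_, (e.symm (gu 0)).2, rfl⟩ ⟨_, (e.symm (gu 1)).2, rfl⟩ ⟨_, (e.symm (gu 2)).2, rfl⟩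
    (by rw [← map_mul, gg, map_one])
    (by
      rw [← map_mul, ← map_mul]
      apply q1
      rw [mem_scalars_iff]
      exact ⟨-1, by rw [g0, Units.val_neg, Units.val_one, neg_one_smul]⟩)
    (by rw [← map_mul, ← map_mul, g1])
    (by rw [← map_mul, ← map_mul, ← map_mul, ← map_mul, ga])
    (by
      rintro _ ⟨p, hp, rfl⟩
      rcases dec11 (e ⟨p, hp⟩) with h | ⟨b, hb, c, hc, h⟩
      · left
        have := hM0 _ h
        rwa [MulEquiv.symm_apply_apply] at this
      · right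
        refine ⟨_, hM0 b hb, _, hM0 c hc, ?_⟩
        have h3 := congrArg e.symm h
        rw [MulEquiv.symm_apply_apply, map_mul, map_mul] at h3
        have h4 : p = ((e.symm b : P) : GL (Fin 10) F) * ((e.symm (gu 2) : P) : GL (Fin 10) F) *
          ((e.symm c : P) : GL (Fin 10) F) := congrArg Subtype.val h3
        rw [← map_mul, ← map_mul, ← h4])
  -- the normaliser
  have hHM : H ≤ Q.comap q := by
    intro h hh
    have hn1 : ∀ y ∈ P, h * y * h⁻¹ ∈ P := fun y hy => hR.normal h hh y hy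
    have hn2 : ∀ y ∈ P, h⁻¹ * y * h ∈ P := fun y hy => by
      have := hR.normal h⁻¹ (H.inv_mem hh) y hy
      rwa [inv_inv] at this
    let φ : P ≃* P :=
      { toFun := fun y => ⟨h * y * h⁻¹, hn1 y y.2⟩
        invFun := fun y => ⟨h⁻¹ * y * h, hn2 y y.2⟩
        left_inv := fun y => by apply Subtype.ext; change h⁻¹ * (h * y * h⁻¹) * h = y; group
        right_inv := fun y => by apply Subtype.ext; change h * (h⁻¹ * y * h) * h⁻¹ = y; group
        map_mul' := fun x y => by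
          apply Subtype.ext
          change h * ((x : GL (Fin 10) F) * y) * h⁻¹ = h * x * h⁻¹ * (h * y * h⁻¹)
          group }
    obtain ⟨p, hp⟩ := inner ((e.symm.trans φ).trans e)
    have h3 : ∀ y : P, φ y = e.symm p * y * (e.symm p)⁻¹ := by
      intro y
      have h4 := hp (e y)
      change e (φ (e.symm (e y))) = _ at h4
      rw [MulEquiv.symm_apply_apply] at h4
      apply e.injective
      rw [h4, map_mul, map_mul, map_inv, MulEquiv.apply_symm_apply]
    have h4 : ((e.symm p : P) : GL (Fin 10) F)⁻¹ * h ∈ scalars (Fin 10) F := by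
      apply H920.mem_scalars_of_comm' hC.absIrred
      intro y hy
      have h5 : h * y * h⁻¹ = ((e.symm p : P) : GL (Fin 10) F) * y * ((e.symm p : P) : GL (Fin 10) F)⁻¹ :=
        congrArg Subtype.val (h3 ⟨y, hy⟩)
      calc ((e.symm p : P) : GL (Fin 10) F)⁻¹ * h * y
          = ((e.symm p : P) : GL (Fin 10) F)⁻¹ * (h * y * h⁻¹) * h := by group
        _ = ((e.symm p : P) : GL (Fin 10) F)⁻¹ * (((e.symm p : P) : GL (Fin 10) F) * y *
              ((e.symm p : P) : GL (Fin 10) F)⁻¹) * h := by rw [h5]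
        _ = _ := by group
    have h6 := q1 _ h4
    rw [map_mul, map_inv, inv_mul_eq_one] at h6
    change q h ∈ Q
    rw [← h6]
    exact hPQ ⟨_, (e.symm p).2, rfl⟩
  rcases hH.2 (Q.comap q ⊓ A) (le_inf hHM hH.1.le) inf_le_right with h3 | h3
  · -- `g` would normalise `P`
    have h4 : g ∈ H := by
      rw [← h3]
      exact ⟨hgQ, hgA⟩
    have h5 := hR.normal g h4 _ (e.symm (gu 0)).2
    have h6 : g⁻¹ = g := inv_eq_of_mul_eq_one_left gg
    rw [h6] at h5
    refine neg_one_not_mem e h2 htr g0 ?_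
    have h7 := P.mul_mem h5 (e.symm (gu 0)).2
    rwa [mul_assoc] at h7
  · have h4 : ∀ x, q (spf F x) ∈ Q := by
      intro x
      have := hW x
      rw [← h3] at this
      exact this.1
    have hfM : Nat.card Spor.M11 = 7920 :=
      (Cfsg.Agent.Cit.Eleven.isM11 (L := Spor.M11) ⟨MulEquiv.refl Spor.M11⟩).2
    have hcP : Nat.card P = 7920 := by rw [Nat.card_congr e.toEquiv, hfM]
    have hfP : Finite P := Nat.finite_of_card_ne_zero (by rw [hcP]; norm_num)
    have hfin : Finite (P.map q) := inferInstance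
    obtain ⟨hQf, hQc⟩ := card_Q hQ
    have hcm : Nat.card (P.map q) ≤ 7920 := by
      rw [← hcP]
      exact Nat.card_le_card_of_surjective (fun p : P => (⟨q p, ⟨p, p.2, rfl⟩⟩ : P.map q)) (by
        rintro ⟨_, p, hp, rfl⟩
        exact ⟨⟨p, hp⟩, rfl⟩)
    have h5 : Nat.card ((Fin 8 → ℤˣ) × Equiv.Perm (Fin 10)) ≤ Nat.card Q :=
      Nat.card_le_card_of_injective (fun x => (⟨q (spf F x), h4 x⟩ : Q)) (by
        intro x y hxy
        obtain ⟨z, hz, h6⟩ := qe _ _ (congrArg Subtype.val hxy)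
        exact spf_inj h2 x y z hz h6)
    rw [card_X] at h5
    have h6 : Nat.card (P.map q) * Nat.card (P.map q) ≤ 7920 * 7920 := Nat.mul_le_mul hcm hcm
    omega

end Cfsg.Agent.H840.M11
end

-- part: H840/M11/K5
section
set_option linter.all false
open scoped Cfsg.Agent.FastGrp

/-!
# The trace hypothesis in characteristic not 2, 3
-/

set_option autoImplicit false
set_option linter.constructorNameAsVariable false
set_option linter.unusedSectionVars false
set_option linter.unusedVariables false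

namespace Cfsg.Agent.H840.M11

open Cfsg Cfsg.Geo H915.LD Cfsg.Agent.CoThreeStd.MTwelve Cfsg.Agent.H6.M11
open scoped Matrix MatrixGroups

universe u

variable {F : Type u} [Field F] [Finite F] {P : Subgroup (GL (Fin 10) F)}

/-- the representation of `M11` over an extension -/
noncomputable def repM (e : P ≃* Spor.M11) (k : Type*) [Field k] [Algebra F k] : Spor.M11 →* Module.End k (Fin 10 → k) :=
  (rep P k).comp e.symm.toMonoidHom

theorem tw_repM (e : P ≃* Spor.M11) (k : Type*) [Field k] [Algebra F k] (w : List ℕ) :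
    tw v11 (repM e k) w = algebraMap F k (tr ((e.symm (ev v11 w) : P) : GL (Fin 10) F)) := trace_rep k _

/-- real traces of elements of order eight and eleven give self-duality -/
theorem sd_of_real (e : P ≃* Spor.M11)
    (h8 : tr ((e.symm (ev v11 [2, 2, 2, 2, 2, 2, 2]) : P) : GL (Fin 10) F) = tr ((e.symm (ev v11 [2]) : P) : GL (Fin 10) F))
    (h11 : tr ((e.symm (ev v11 [5, 5, 5, 5, 5, 5, 5, 5, 5, 5]) : P) : GL (Fin 10) F) =
      tr ((e.symm (ev v11 [5]) : P) : GL (Fin 10) F)) : SD P := by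
  have hP : Spor.IsoM11 P := ⟨e⟩
  have ho : ∀ x, orderOf (e.symm x) = orderOf x := fun x => MulEquiv.orderOf_eq _ _
  let χ : P → F := fun g => tr (g : GL (Fin 10) F)
  have hχ : ∀ a b, IsConj a b → χ a = χ b := fun a b hab => tr_isConj hab
  have hy : (ev v11 [2])⁻¹ = ev v11 [2, 2, 2, 2, 2, 2, 2] := by
    rw [inv_eq_iff_mul_eq_one, ← ev_append, ← ev_nil v11]
    exact sat_11.base (by decide +kernel)
  have hx : (ev v11 [5])⁻¹ = ev v11 [5, 5, 5, 5, 5, 5, 5, 5, 5, 5] := by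
    rw [inv_eq_iff_mul_eq_one, ← ev_append, ← ev_nil v11]
    exact sat_11.base (by decide +kernel)
  intro g hg
  refine eq_of_order hP (x6 := e.symm (ev v11 [3, 0])) (x8 := e.symm (ev v11 [2])) (x5 := e.symm (ev v11 [6]))
    (x11 := e.symm (ev v11 [5])) ((ho _).trans orders_11.1) ((ho _).trans orders_11.2.1)
    ((ho _).trans orders_11.2.2.1) ((ho _).trans orders_11.2.2.2) χ hχ ?_ ?_ (a := ⟨g, hg⟩⁻¹) (b := ⟨g, hg⟩)
    (orderOf_inv _)
  · rw [← map_inv, hy]; exact h8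
  · rw [← map_inv, hx]; exact h11

theorem htr_ne_three (hC : Core P) (p : ℕ) [hp : Fact p.Prime] [CharP F p] (hp3 : p ≠ 3) (h2 : (2 : F) ≠ 0)
    (e : P ≃* Spor.M11) (hSD : ¬ SD P) : ∃ s : F, s * s = -2 ∧ HTr e s := by
  let v : ℕ → P := fun i => e.symm (v11 i)
  have hv : Sat v := sat_11.map e.symm.toMonoidHom
  have hv0 : v 0 ≠ 1 := by
    intro h0
    apply v11_zero_ne
    have := congrArg e h0
    rwa [MulEquiv.apply_symm_apply, map_one] at this
  have hev : ∀ w, ev v w = e.symm (ev v11 w) := fun w => (map_ev v11 e.symm.toMonoidHom w).symm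
  have hck : CharP (AlgebraicClosure F) p := charP_of_injective_algebraMap (algebraMap F _).injective p
  obtain ⟨ω, hω⟩ := exists_root (AlgebraicClosure F) 3 (cast_ne _ hp.out Nat.prime_three hp3)
  have h2' : (2 : AlgebraicClosure F) ≠ 0 := by
    intro h
    apply h2
    apply (algebraMap F (AlgebraicClosure F)).injective
    rw [map_ofNat, map_zero, h]
  have hx : (ev v11 [5])⁻¹ = ev v11 [5, 5, 5, 5, 5, 5, 5, 5, 5, 5] := by
    rw [inv_eq_iff_mul_eq_one, ← ev_append, ← ev_nil v11]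
    exact sat_11.base (by decide +kernel)
  have h11 : tr ((e.symm (ev v11 [5, 5, 5, 5, 5, 5, 5, 5, 5, 5]) : P) : GL (Fin 10) F) =
      tr ((e.symm (ev v11 [5]) : P) : GL (Fin 10) F) := by
    have h := real_eleven p hp3 hv hv0 (by rw [Fintype.card_fin]; norm_num)
    rw [hev, ← map_inv, hx] at h
    exact h
  obtain ⟨h3, h4⟩ := traces (R := repM e (AlgebraicClosure F)) hω h2' (by
    intro h
    have h1 := rep_eq_one _ h
    rw [ev_cons, ev_nil, mul_one] at h1
    exact hv0 h1) (by rw [Module.finrank_fintype_fun_eq_card, Fintype.card_fin]) (by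
    intro h
    rw [tw_repM, tw_repM] at h
    exact hSD (sd_of_real e ((algebraMap F _).injective h) h11)) (by rw [tw_repM, tw_repM, h11])
  refine ⟨tr ((e.symm (ev v11 [2]) : P) : GL (Fin 10) F), ?_, ?_⟩
  · apply (algebraMap F (AlgebraicClosure F)).injective
    rw [map_mul, ← tw_repM, h3, map_neg, map_ofNat]
  · intro i hi
    apply (algebraMap F (AlgebraicClosure F)).injective
    rw [← tw_repM, h4 i hi, tw_repM]
    unfold zf
    rw [map_add, map_mul, map_intCast, map_intCast]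

end Cfsg.Agent.H840.M11
end

-- part: H840/M11/KU
section
set_option linter.all false
open scoped Cfsg.Agent.FastGrp

/-!
# `M11` in degree ten, characteristic not three; unitary groups
-/

set_option autoImplicit false
set_option linter.constructorNameAsVariable false
set_option linter.unusedSectionVars false
set_option linter.unusedVariables false

namespace Cfsg.Agent.H840.M11

open Cfsg Cfsg.Geo H915.LD Cfsg.Agent.CoThreeStd.MTwelve Cfsg.Agent.H6.M11
open Cfsg.Agent.H840.L34 (spf spf_inj card_X sgl_det sgm dl sgm_vec exists_pow)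
open scoped Matrix MatrixGroups

universe u

variable {F : Type u} [Field F]

/-- **`SL_10(F)`, characteristic not three.** -/
theorem kill_linear_ne_three [Finite F] {H P : Subgroup (GL (Fin 10) F)}
    (hH : IsMaximalIn (specialLinear (Fin 10) F) H)
    (hR : IsResidualCore H P) (h : Spor.IsoM11 (Soc P)) (h2 : (2 : F) ≠ 0) (h3 : (3 : F) ≠ 0) (hSD : ¬ SD P) : False := by
  have hC := core_of_residual hR
  obtain ⟨e, -⟩ := exists_letters hC h
  obtain ⟨p, hp⟩ := CharP.exists F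
  have hpp : Fact p.Prime := ⟨(CharP.char_is_prime_or_zero F p).resolve_right (by
    rintro rfl
    have : CharZero F := CharP.charP_to_charZero F
    exact not_finite F)⟩
  have hp3 : p ≠ 3 := by
    rintro rfl
    exact h3 (by exact_mod_cast CharP.cast_eq_zero F 3)
  obtain ⟨s, hs, htr⟩ := htr_ne_three hC p hp3 h2 e hSD
  exact kill_core hH hR e hs h2 htr (fun _ => sgl_det _ _ _) (fun _ h _ => h)

section unitary

variable [Fintype F] {q : ℕ}

/-- the Frobenius automorphism `x ↦ x^q` -/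
theorem exists_frob (hF : Fintype.card F = q ^ 2) : ∃ σ : F ≃+* F, ∀ x, σ x = x ^ q := by
  obtain ⟨p, k, hp, hc, hq⟩ := exists_pow hF
  have : Fact p.Prime := ⟨hp⟩
  refine ⟨RingEquiv.ofBijective (iterateFrobenius F p k) ?_, fun x => ?_⟩
  · exact (Finite.injective_iff_bijective).1 (iterateFrobenius_inj F p k)
  · change iterateFrobenius F p k x = _
    rw [iterateFrobenius_def, hq]

theorem herm_eq {σ : F ≃+* F} (hσ : ∀ x, σ x = x ^ q) (u v : Fin 10 → F) :
    hermForm 10 F q u v = u ⬝ᵥ (σ ∘ v) := by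
  unfold hermForm dotProduct
  exact Finset.sum_congr rfl fun i _ => by rw [Function.comp_apply, hσ]

theorem mem_GU_iff {σ : F ≃+* F} (hσ : ∀ x, σ x = x ^ q) (g : GL (Fin 10) F) :
    g ∈ GU 10 F q ↔ (g : Matrix (Fin 10) (Fin 10) F)ᵀ * 1 * (g : Matrix (Fin 10) (Fin 10) F).map σ = 1 := by
  have hmv : ∀ v : Fin 10 → F, (σ ∘ ((g : Matrix (Fin 10) (Fin 10) F) *ᵥ v)) =
      (g : Matrix (Fin 10) (Fin 10) F).map σ *ᵥ (σ ∘ v) := by
    intro v
    ext i
    simp [Matrix.mulVec, dotProduct]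
  have key : ∀ u v : Fin 10 → F, hermForm 10 F q ((g : Matrix (Fin 10) (Fin 10) F) *ᵥ u)
      ((g : Matrix (Fin 10) (Fin 10) F) *ᵥ v) =
      u ⬝ᵥ (((g : Matrix (Fin 10) (Fin 10) F)ᵀ * (g : Matrix (Fin 10) (Fin 10) F).map σ) *ᵥ (σ ∘ v)) := by
    intro u v
    rw [herm_eq hσ, hmv, ← Matrix.mulVec_mulVec, Matrix.dotProduct_mulVec u, Matrix.vecMul_transpose]
  rw [Matrix.mul_one]
  constructor
  · intro h
    apply Matrix.ext_of_mulVec_single
    intro j
    ext i
    have h1 : hermForm 10 F q ((g : Matrix (Fin 10) (Fin 10) F) *ᵥ Pi.single i 1)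
      ((g : Matrix (Fin 10) (Fin 10) F) *ᵥ Pi.single j 1) = hermForm 10 F q (Pi.single i 1) (Pi.single j 1) := h _ _
    rw [key, herm_eq hσ, single_dotProduct, single_dotProduct, one_mul, one_mul] at h1
    have h2 : (σ ∘ (Pi.single j (1 : F)) : Fin 10 → F) = Pi.single j 1 := by
      ext k
      rw [Function.comp_apply]
      by_cases hk : k = j
      · subst hk; rw [Pi.single_eq_same, map_one]
      · rw [Pi.single_eq_of_ne hk, map_zero]
    rw [h2] at h1
    rw [h1, Matrix.one_mulVec]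
  · intro h u v
    change hermForm 10 F q ((g : Matrix (Fin 10) (Fin 10) F) *ᵥ u) ((g : Matrix (Fin 10) (Fin 10) F) *ᵥ v) = _
    rw [key, h, Matrix.one_mulVec, herm_eq hσ]

theorem tr_inv_of_GU {σ : F ≃+* F} (hσ : ∀ x, σ x = x ^ q) {g : GL (Fin 10) F} (hg : g ∈ GU 10 F q) :
    tr g⁻¹ = σ (tr g) := by
  have h1 := (mem_GU_iff hσ g⁻¹).1 (Subgroup.inv_mem _ hg)
  rw [Matrix.mul_one] at h1
  have h2 : ((g⁻¹ : GL (Fin 10) F) : Matrix (Fin 10) (Fin 10) F).map σ * (g : Matrix (Fin 10) (Fin 10) F).map σ = 1 := by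
    rw [← Matrix.map_mul, ← Units.val_mul, inv_mul_cancel, Units.val_one, Matrix.map_one _ (map_zero σ) (map_one σ)]
  have h3 : ((g⁻¹ : GL (Fin 10) F) : Matrix (Fin 10) (Fin 10) F)ᵀ = (g : Matrix (Fin 10) (Fin 10) F).map σ := by
    calc ((g⁻¹ : GL (Fin 10) F) : Matrix (Fin 10) (Fin 10) F)ᵀ
        = ((g⁻¹ : GL (Fin 10) F) : Matrix (Fin 10) (Fin 10) F)ᵀ *
            (((g⁻¹ : GL (Fin 10) F) : Matrix (Fin 10) (Fin 10) F).map σ * (g : Matrix (Fin 10) (Fin 10) F).map σ) := by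
          rw [h2, Matrix.mul_one]
      _ = _ := by rw [← Matrix.mul_assoc, h1, Matrix.one_mul]
  unfold tr
  rw [← Matrix.trace_transpose, h3]
  simp [Matrix.trace, map_sum]

/-- **`SU_10(q)`.** -/
theorem kill_unitary (hF : Fintype.card F = q ^ 2) {H P : Subgroup (GL (Fin 10) F)}
    (hH : IsMaximalIn (GU 10 F q ⊓ specialLinear (Fin 10) F) H)
    (hR : IsResidualCore H P) (h : Spor.IsoM11 (Soc P)) (h2 : (2 : F) ≠ 0) (hSD : ¬ SD P) : False := by
  have hC := core_of_residual hR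
  obtain ⟨e, -⟩ := exists_letters hC h
  obtain ⟨σ, hσ⟩ := exists_frob hF
  have hPU : ∀ p ∈ P, p ∈ GU 10 F q := fun p hp => (hH.1.le (hR.le hp)).1
  obtain ⟨p, k, hp, hc, hq⟩ := exists_pow hF
  have hpp : Fact p.Prime := ⟨hp⟩
  by_cases hp3 : p = 3
  · -- traces are in the prime field
    subst hp3
    apply hSD
    obtain ⟨-, hfr⟩ := m11_three hC h (by rw [Fintype.card_fin]; norm_num)
    intro g hg
    rw [tr_inv_of_GU hσ (hPU g hg), hσ, hq]
    have : ∀ n : ℕ, tr g ^ 3 ^ n = tr g := by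
      intro n
      induction n with
      | zero => rw [pow_zero, pow_one]
      | succ n ih => rw [pow_succ, pow_mul, ih, hfr g hg]
    exact this k
  · obtain ⟨s, hs, htr⟩ := htr_ne_three hC p hp3 h2 e hSD
    have hodd : Odd q := by
      rcases Nat.even_or_odd q with h0 | h0
      · exfalso
        apply h2
        obtain ⟨m, hm⟩ := h0
        have h5 : 2 ∣ p ^ k := by rw [← hq, hm]; exact ⟨m, by ring⟩
        have h6 : p = 2 := ((Nat.prime_dvd_prime_iff_eq Nat.prime_two hp).1 (Nat.prime_two.dvd_of_dvd_pow h5)).symm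
        subst h6
        exact CharTwo.two_eq_zero
      · exact h0
    have hσs : σ s = -s := by
      have h8 : tr ((e.symm (ev v11 (rv 6)) : P) : GL (Fin 10) F) = s := by
        rw [htr 6 (by norm_num)]
        change ((0 : ℤ) : F) + ((1 : ℤ) : F) * s = s
        push_cast; ring
      have h9 : tr ((e.symm (ev v11 (rv 7)) : P) : GL (Fin 10) F) = -s := by
        rw [htr 7 (by norm_num)]
        change ((0 : ℤ) : F) + ((-1 : ℤ) : F) * s = -s
        push_cast; ring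
      have hy : (ev v11 [2])⁻¹ = ev v11 [2, 2, 2, 2, 2, 2, 2] := by
        rw [inv_eq_iff_mul_eq_one, ← ev_append, ← ev_nil v11]
        exact sat_11.base (by decide +kernel)
      have h10 := tr_inv_of_GU hσ (hPU _ (e.symm (ev v11 (rv 6))).2)
      rw [h8] at h10
      rw [← h10, ← h9]
      congr 1
      change _ = ((e.symm (ev v11 [2, 2, 2, 2, 2, 2, 2]) : P) : GL (Fin 10) F)
      rw [← hy, map_inv]
      rfl
    refine kill_core hH hR e hs h2 htr ?_ ?_
    · intro x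
      refine ⟨?_, sgl_det _ _ _⟩
      intro u v
      change hermForm 10 F q (sgm F (dl x.1 x.2) x.2 *ᵥ u) (sgm F (dl x.1 x.2) x.2 *ᵥ v) = hermForm 10 F q u v
      unfold hermForm
      rw [← Equiv.sum_comp x.2 (fun i => u i * v i ^ q)]
      refine Finset.sum_congr rfl fun i _ => ?_
      rw [sgm_vec, sgm_vec, mul_pow]
      have h3 : (((dl x.1 x.2 i : ℤˣ) : ℤ) : F) * (((dl x.1 x.2 i : ℤˣ) : ℤ) : F) ^ q = 1 := by
        rcases Int.units_eq_one_or (dl x.1 x.2 i) with h | h <;> rw [h]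
        · simp
        · rw [Units.val_neg, Units.val_one, Int.cast_neg, Int.cast_one, hodd.neg_one_pow]; ring
      linear_combination (u (x.2 i) * v (x.2 i) ^ q) * h3
    · intro g hg hM
      exact ⟨(mem_GU_iff hσ g).2 (hM σ hσs 1 fun p hp => (mem_GU_iff hσ p).1 (hPU p hp)), hg⟩

end unitary

end Cfsg.Agent.H840.M11
end

-- part: H840/M11/Mod3
section
set_option linter.all false
open scoped Cfsg.Agent.FastGrp

/-!
# Further representations of `M11` : the deleted permutation representation of degree ten, and a representation of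
degree six in characteristic three
-/

set_option autoImplicit false
set_option linter.unusedSectionVars false
set_option linter.unusedVariables false
set_option maxRecDepth 100000

namespace Cfsg.Agent.H840.M11

open Cfsg Cfsg.Agent.CoThreeStd.MTwelve Cfsg.Agent.H6.M11 Cfsg.Agent.SporadicStructure.M11InvPerms
open scoped Matrix

/-- codes of the twelve points -/
def pc2 (i : ℕ) : ℕ := [5,7,10,11,14,15,17,19,20,21,22,23].getD i 0
/-- index of a code -/
def ix2 (c : ℕ) : ℕ := [12,12,12,12,12,0,12,1,12,12,2,3,12,12,4,5,12,6,12,7,8,9,10,11].getD c 12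
/-- permutations of the twelve points -/
def pp2 (i : ℕ) : List ℕ := [[3,8,5,9,10,6,0,11,2,1,7,4],[7,6,2,3,9,4,11,8,0,5,10,1],[0,2,1,3,10,6,5,7,11,9,4,8]].getD i []

/-- twelve vectors of length six, modulo 3 -/
def tab6 : List (List Zs) := [
  [(1,0),(0,0),(0,0),(0,0),(0,0),(0,0)],
  [(0,0),(1,0),(0,0),(0,0),(0,0),(0,0)],
  [(0,0),(0,0),(1,0),(0,0),(0,0),(0,0)],
  [(0,0),(0,0),(0,0),(1,0),(0,0),(0,0)],
  [(0,0),(0,0),(0,0),(0,0),(1,0),(0,0)],
  [(0,0),(0,0),(0,0),(0,0),(0,0),(1,0)],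
  [(1,0),(2,0),(0,0),(2,0),(1,0),(1,0)],
  [(1,0),(0,0),(2,0),(1,0),(2,0),(1,0)],
  [(0,0),(2,0),(2,0),(2,0),(2,0),(2,0)],
  [(1,0),(1,0),(2,0),(0,0),(1,0),(2,0)],
  [(1,0),(1,0),(1,0),(2,0),(2,0),(0,0)],
  [(1,0),(2,0),(1,0),(1,0),(0,0),(2,0)]]

/-- six-dimensional representation modulo 3 -/
def N0 : List (List Zs) := [
  [(0,0),(0,0),(0,0),(1,0),(1,0),(1,0)],
  [(0,0),(2,0),(0,0),(1,0),(1,0),(2,0)],
  [(0,0),(2,0),(0,0),(2,0),(1,0),(0,0)],
  [(1,0),(2,0),(0,0),(0,0),(2,0),(2,0)],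
  [(0,0),(2,0),(0,0),(1,0),(2,0),(1,0)],
  [(0,0),(2,0),(1,0),(2,0),(0,0),(1,0)]]

/-- six-dimensional representation modulo 3 -/
def N1 : List (List Zs) := [
  [(1,0),(1,0),(0,0),(0,0),(1,0),(0,0)],
  [(0,0),(2,0),(0,0),(0,0),(1,0),(0,0)],
  [(2,0),(0,0),(1,0),(0,0),(2,0),(0,0)],
  [(1,0),(2,0),(0,0),(1,0),(0,0),(0,0)],
  [(2,0),(1,0),(0,0),(0,0),(1,0),(1,0)],
  [(1,0),(1,0),(0,0),(0,0),(2,0),(0,0)]]

/-- six-dimensional representation modulo 3 -/
def N2 : List (List Zs) := [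
  [(1,0),(0,0),(0,0),(0,0),(1,0),(1,0)],
  [(0,0),(0,0),(1,0),(0,0),(1,0),(2,0)],
  [(0,0),(1,0),(0,0),(0,0),(1,0),(0,0)],
  [(0,0),(0,0),(0,0),(1,0),(2,0),(2,0)],
  [(0,0),(0,0),(0,0),(0,0),(2,0),(1,0)],
  [(0,0),(0,0),(0,0),(0,0),(0,0),(1,0)]]

/-- deleted permutation representation -/
def D0 : List (List Zs) := [
  [(1,0),(0,0),(0,0),(-1,0),(0,0),(0,0),(0,0),(0,0),(0,0),(0,0)],
  [(0,0),(0,0),(0,0),(-1,0),(0,0),(0,0),(0,0),(0,0),(0,0),(0,0)],
  [(0,0),(0,0),(0,0),(-1,0),(0,0),(0,0),(0,0),(0,0),(1,0),(0,0)],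
  [(0,0),(0,0),(1,0),(-1,0),(0,0),(0,0),(0,0),(0,0),(0,0),(0,0)],
  [(0,0),(0,0),(0,0),(-1,0),(0,0),(0,0),(0,0),(0,0),(0,0),(1,0)],
  [(0,0),(0,0),(0,0),(-1,0),(0,0),(0,0),(1,0),(0,0),(0,0),(0,0)],
  [(0,0),(0,0),(0,0),(-1,0),(0,0),(1,0),(0,0),(0,0),(0,0),(0,0)],
  [(0,0),(1,0),(0,0),(-1,0),(0,0),(0,0),(0,0),(0,0),(0,0),(0,0)],
  [(0,0),(0,0),(0,0),(-1,0),(1,0),(0,0),(0,0),(0,0),(0,0),(0,0)],
  [(0,0),(0,0),(0,0),(-1,0),(0,0),(0,0),(0,0),(1,0),(0,0),(0,0)]]

/-- deleted permutation representation -/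
def D1 : List (List Zs) := [
  [(1,0),(0,0),(0,0),(0,0),(0,0),(0,0),(0,0),(-1,0),(0,0),(0,0)],
  [(0,0),(0,0),(1,0),(0,0),(0,0),(0,0),(0,0),(-1,0),(0,0),(0,0)],
  [(0,0),(0,0),(0,0),(0,0),(1,0),(0,0),(0,0),(-1,0),(0,0),(0,0)],
  [(0,0),(0,0),(0,0),(0,0),(0,0),(1,0),(0,0),(-1,0),(0,0),(0,0)],
  [(0,0),(1,0),(0,0),(0,0),(0,0),(0,0),(0,0),(-1,0),(0,0),(0,0)],
  [(0,0),(0,0),(0,0),(0,0),(0,0),(0,0),(0,0),(-1,0),(0,0),(1,0)],
  [(0,0),(0,0),(0,0),(0,0),(0,0),(0,0),(1,0),(-1,0),(0,0),(0,0)],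
  [(0,0),(0,0),(0,0),(0,0),(0,0),(0,0),(0,0),(-1,0),(1,0),(0,0)],
  [(0,0),(0,0),(0,0),(0,0),(0,0),(0,0),(0,0),(-1,0),(0,0),(0,0)],
  [(0,0),(0,0),(0,0),(1,0),(0,0),(0,0),(0,0),(-1,0),(0,0),(0,0)]]

/-- deleted permutation representation -/
def D2 : List (List Zs) := [
  [(0,0),(0,0),(0,0),(1,0),(0,0),(0,0),(-1,0),(0,0),(0,0),(0,0)],
  [(0,0),(1,0),(0,0),(0,0),(0,0),(0,0),(-1,0),(0,0),(0,0),(0,0)],
  [(0,0),(0,0),(1,0),(0,0),(0,0),(0,0),(-1,0),(0,0),(0,0),(0,0)],
  [(1,0),(0,0),(0,0),(0,0),(0,0),(0,0),(-1,0),(0,0),(0,0),(0,0)],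
  [(0,0),(0,0),(0,0),(0,0),(0,0),(0,0),(-1,0),(0,0),(0,0),(1,0)],
  [(0,0),(0,0),(0,0),(0,0),(0,0),(0,0),(-1,0),(0,0),(1,0),(0,0)],
  [(0,0),(0,0),(0,0),(0,0),(0,0),(0,0),(-1,0),(0,0),(0,0),(0,0)],
  [(0,0),(0,0),(0,0),(0,0),(0,0),(0,0),(-1,0),(1,0),(0,0),(0,0)],
  [(0,0),(0,0),(0,0),(0,0),(0,0),(1,0),(-1,0),(0,0),(0,0),(0,0)],
  [(0,0),(0,0),(0,0),(0,0),(1,0),(0,0),(-1,0),(0,0),(0,0),(0,0)]]

/-- vectors of the eleven points -/
def om1 (i : ℕ) : List Zs := if i < 10 then bv 10 i else [(-1, 0), (-1, 0), (-1, 0), (-1, 0), (-1, 0), (-1, 0), (-1, 0),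
  (-1, 0), (-1, 0), (-1, 0)]

/-- vectors of the twelve points -/
def om6 (i : ℕ) : List Zs := tab6.getD i []

/-- matrices of the generators, degree six -/
def Nt (i : ℕ) : List (List Zs) := [N0, N1, N2].getD i []

/-- matrices of the generators, degree ten -/
def Dt (i : ℕ) : List (List Zs) := [D0, D1, D2].getD i []

/-- A point model. -/
structure Pm (q : ℤ) (n N : ℕ) (pcx ixx : ℕ → ℕ) (perm : ℕ → List ℕ) (omx : ℕ → List Zs) (Mx : ℕ → List (List Zs)) :
    Prop where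
  ix : ∀ c < 24, ixx c < N → pcx (ixx c) = c
  pm : ∀ i < 3, ∀ j < N, (perm i).getD j 0 = ixx (act ((UL i).flatMap W) (pcx j)) ∧ (perm i).getD j 0 < N
  ac : ∀ i < 3, ∀ j < N, eqv q n (mv (Mx i) (omx j)) (omx ((perm i).getD j 0)) = true
  ok : ∀ i < 3, okm n (Mx i) = true
  bs : ∀ j < n, j < N ∧ pcx j < 24 ∧ ixx (pcx j) = j ∧ eqv q n (omx j) (bv n j) = true

private noncomputable def _root_.Cfsg.Agent.LsF.ff4a9c3_0 : {f // @Cfsg.Agent.H840.M11.zr = f} := ⟨_, by first | (delta Cfsg.Agent.H840.M11.zr; rewrite [Cfsg.Agent.LsF.imod_pat]; exact rfl) | exact rfl⟩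
private noncomputable def _root_.Cfsg.Agent.LsF.ff4a9c3_1 : {f // @Cfsg.Agent.H840.M11.eqv = f} := ⟨_, by first | (delta Cfsg.Agent.H840.M11.eqv; rewrite [Cfsg.Agent.LsF.ff4a9c3_0.2, Cfsg.Agent.LsF.dProdEq_eq, Cfsg.Agent.LsF.all_eq, Cfsg.Agent.LsF.range_eq, Cfsg.Agent.LsF.getD_eq, Cfsg.Agent.LsF.instIDecEq_eq, Cfsg.Agent.LsF.decide_eq]; exact rfl) | exact rfl⟩
private noncomputable def _root_.Cfsg.Agent.LsF.ff4a9c3_2 : {f // @Cfsg.Agent.H840.M11.za = f} := ⟨_, by first | (delta Cfsg.Agent.H840.M11.za; rewrite [Cfsg.Agent.LsF.iadd_pat]; exact rfl) | exact rfl⟩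
private noncomputable def _root_.Cfsg.Agent.LsF.ff4a9c3_3 : {f // @Cfsg.Agent.H840.M11.zm = f} := ⟨_, by first | (delta Cfsg.Agent.H840.M11.zm; rewrite [Cfsg.Agent.LsF.iadd_pat, Cfsg.Agent.LsF.imul_pat, Cfsg.Agent.LsF.isub_pat]; exact rfl) | exact rfl⟩
private noncomputable def _root_.Cfsg.Agent.LsF.ff4a9c3_4 : {f // @Cfsg.Agent.H840.M11.dot = f} := ⟨_, by first | (delta Cfsg.Agent.H840.M11.dot List.brecOn List.brecOn.go Cfsg.Agent.H840.M11.dot._f; rewrite [Cfsg.Agent.LsF.ff4a9c3_2.2, Cfsg.Agent.LsF.ff4a9c3_3.2]; (try delta Cfsg.Agent.H840.M11.dot.match_1); (try delta Cfsg.Agent.H840.M11.dot._sparseCasesOn_1); first | dsimp -zeta only | exact rfl) | exact rfl⟩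
private noncomputable def _root_.Cfsg.Agent.LsF.ff4a9c3_5 : {f // @Cfsg.Agent.H840.M11.mv = f} := ⟨_, by first | (delta Cfsg.Agent.H840.M11.mv; rewrite [Cfsg.Agent.LsF.ff4a9c3_4.2, Cfsg.Agent.LsF.map_eq]; exact rfl) | exact rfl⟩
private noncomputable def _root_.Cfsg.Agent.LsF.ff4a9c3_6 : {f // @Cfsg.Agent.H840.M11.Nt = f} := ⟨_, by first | (delta Cfsg.Agent.H840.M11.Nt; rewrite [Cfsg.Agent.LsF.getD_eq]; exact rfl) | exact rfl⟩
private noncomputable def _root_.Cfsg.Agent.LsF.ff4a9c3_7 : {f // @Cfsg.Agent.H840.M11.om6 = f} := ⟨_, by first | (delta Cfsg.Agent.H840.M11.om6; rewrite [Cfsg.Agent.LsF.getD_eq]; exact rfl) | exact rfl⟩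
private noncomputable def _root_.Cfsg.Agent.LsF.ff4a9c3_8 : {f // @Cfsg.Agent.H840.M11.pp2 = f} := ⟨_, by first | (delta Cfsg.Agent.H840.M11.pp2; rewrite [Cfsg.Agent.LsF.getD_eq]; exact rfl) | exact rfl⟩
theorem pm6 : Pm 3 6 12 pc2 ix2 pp2 om6 Nt where
  ix := by decide +kernel
  pm := by decide +kernel
  ac := by (refine of_decide_eq_true ?_; (try (rewrite [Cfsg.Agent.LsF.ff4a9c3_1.2, Cfsg.Agent.LsF.ff4a9c3_5.2, Cfsg.Agent.LsF.ff4a9c3_6.2, Cfsg.Agent.LsF.ff4a9c3_7.2, Cfsg.Agent.LsF.ff4a9c3_8.2, Cfsg.Agent.LsF.getD_eq, Cfsg.Agent.LsF.dBoolEq_eq, Cfsg.Agent.LsF.dBallLT_eq, Cfsg.Agent.LsF.decide_eq])); decide +kernel)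
  ok := by decide +kernel
  bs := by decide +kernel

private noncomputable def _root_.Cfsg.Agent.LsF.ff4a9c3_9 : {f // @Cfsg.Agent.H840.M11.Dt = f} := ⟨_, by first | (delta Cfsg.Agent.H840.M11.Dt; rewrite [Cfsg.Agent.LsF.getD_eq]; exact rfl) | exact rfl⟩
private noncomputable def _root_.Cfsg.Agent.LsF.ff4a9c3_10 : {f // @Cfsg.Agent.H840.M11.bv = f} := ⟨_, by first | (delta Cfsg.Agent.H840.M11.bv; rewrite [Cfsg.Agent.LsF.instDecEq_eq, Cfsg.Agent.LsF.map_eq, Cfsg.Agent.LsF.range_eq, Cfsg.Agent.LsF.ite_eq]; exact rfl) | exact rfl⟩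
private noncomputable def _root_.Cfsg.Agent.LsF.ff4a9c3_11 : {f // @Cfsg.Agent.H840.M11.om1 = f} := ⟨_, by first | (delta Cfsg.Agent.H840.M11.om1; rewrite [Cfsg.Agent.LsF.ff4a9c3_10.2, Cfsg.Agent.LsF.ineg_pat, Cfsg.Agent.LsF.decLt_eq, Cfsg.Agent.LsF.ite_eq]; exact rfl) | exact rfl⟩
private noncomputable def _root_.Cfsg.Agent.LsF.ff4a9c3_12 : {f // @Cfsg.Agent.H840.M11.pp = f} := ⟨_, by first | (delta Cfsg.Agent.H840.M11.pp; rewrite [Cfsg.Agent.LsF.getD_eq]; exact rfl) | exact rfl⟩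
theorem pm10 : Pm 0 10 11 pc ix pp om1 Dt where
  ix := by decide +kernel
  pm := by decide +kernel
  ac := by (refine of_decide_eq_true ?_; (try (rewrite [Cfsg.Agent.LsF.ff4a9c3_1.2, Cfsg.Agent.LsF.ff4a9c3_5.2, Cfsg.Agent.LsF.ff4a9c3_9.2, Cfsg.Agent.LsF.ff4a9c3_11.2, Cfsg.Agent.LsF.ff4a9c3_12.2, Cfsg.Agent.LsF.getD_eq, Cfsg.Agent.LsF.dBoolEq_eq, Cfsg.Agent.LsF.dBallLT_eq, Cfsg.Agent.LsF.decide_eq])); decide +kernel)
  ok := by decide +kernel
  bs := by decide +kernel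

theorem gu_ne : gu 0 ≠ gu 1 ∧ gu 0 ≠ gu 2 ∧ gu 1 ≠ gu 2 := by
  have h : ∀ i < 3, ∀ j < 3, i ≠ j → act ((UL i).flatMap W) 1 ≠ act ((UL j).flatMap W) 1 ∨
      act ((UL i).flatMap W) 2 ≠ act ((UL j).flatMap W) 2 ∨ act ((UL i).flatMap W) 3 ≠ act ((UL j).flatMap W) 3 := by
    decide +kernel
  have key : ∀ i < 3, ∀ j < 3, i ≠ j → gu i ≠ gu j := by
    intro i hi j hj hij heq
    have h3 : ∀ c < 24, act ((UL i).flatMap W) c = act ((UL j).flatMap W) c := by
      intro c hc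
      have := congrArg (fun x : Spor.M11 => enc (x • dec c)) heq
      simp only [gu, enc_smul, enc_dec c hc] at this
      exact this
    rcases h i hi j hj hij with h4 | h4 | h4
    · exact h4 (h3 1 (by norm_num))
    · exact h4 (h3 2 (by norm_num))
    · exact h4 (h3 3 (by norm_num))
  exact ⟨key 0 (by norm_num) 1 (by norm_num) (by norm_num), key 0 (by norm_num) 2 (by norm_num) (by norm_num),
    key 1 (by norm_num) 2 (by norm_num) (by norm_num)⟩

section F

variable {F : Type*} [Field F] {s : F} {q : ℤ} {n N : ℕ} {pcx ixx : ℕ → ℕ} {perm : ℕ → List ℕ} {omx : ℕ → List Zs}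
  {Mx : ℕ → List (List Zs)}

theorem Pm.exists_rho (h : Pm q n N pcx ixx perm omx Mx) (hs : s * s = -2) (hq : (q : F) = 0) :
    ∃ ρ : Spor.M11 →* Matrix (Fin n) (Fin n) F, ∀ i < 3, ρ (gu i) = tm s n (Mx i) := by
  classical
  let A : Spor.M11 → Matrix (Fin n) (Fin n) F := fun x =>
    if x = gu 0 then tm s n (Mx 0) else if x = gu 1 then tm s n (Mx 1) else tm s n (Mx 2)
  have hA : ∀ i < 3, A (gu i) = tm s n (Mx i) := by
    intro i hi
    interval_cases i
    · exact if_pos rfl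
    · exact (if_neg gu_ne.1.symm).trans (if_pos rfl)
    · exact (if_neg gu_ne.2.1.symm).trans (if_neg gu_ne.2.2.symm)
  let ω : GolayPt → Fin n → F := fun p => tv s n (omx (ixx (enc p)))
  let S : Set GolayPt := {p | ixx (enc p) < N}
  have hspan : Submodule.span F (ω '' S) = ⊤ := by
    rw [eq_top_iff]
    intro v _
    rw [← Finset.univ_sum_single v]
    refine Submodule.sum_mem _ fun i _ => ?_
    have : (Pi.single i (v i) : Fin n → F) = v i • (Pi.single i 1 : Fin n → F) := by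
      rw [← Pi.single_smul, smul_eq_mul, mul_one]
    rw [this]
    refine Submodule.smul_mem _ _ (Submodule.subset_span ⟨dec (pcx i), ?_, ?_⟩)
    · obtain ⟨h1, h2, h3, -⟩ := h.bs i i.2
      change ixx (enc (dec (pcx i))) < N
      rw [enc_dec _ h2, h3]
      exact h1
    · obtain ⟨h1, h2, h3, h4⟩ := h.bs i i.2
      change tv s n (omx (ixx (enc (dec (pcx i))))) = _
      rw [enc_dec _ h2, h3, eqv_spec hq h4, bv_spec]
  obtain ⟨ρ, -, hρ⟩ := exists_hom ω S ({gu 0, gu 1, gu 2} : Set Spor.M11) gen_gu A (by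
    intro x hx p hp
    obtain ⟨i, hi, rfl⟩ : ∃ i < 3, x = gu i := by
      rcases hx with rfl | rfl | hx
      · exact ⟨0, by norm_num, rfl⟩
      · exact ⟨1, by norm_num, rfl⟩
      · exact ⟨2, by norm_num, hx⟩
    have h1 : ixx (enc (gu i • p)) = (perm i).getD (ixx (enc p)) 0 := by
      rw [gu, enc_smul, (h.pm i hi _ hp).1, h.ix _ (enc_lt p) hp]
    refine ⟨?_, ?_⟩
    · change ixx (enc (gu i • p)) < N
      rw [h1]; exact (h.pm i hi _ hp).2
    · rw [hA i hi]
      change tm s n (Mx i) *ᵥ tv s n (omx (ixx (enc p))) = tv s n (omx (ixx (enc (gu i • p))))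
      rw [h1, mv_spec hs (h.ok i hi), eqv_spec hq (h.ac i hi _ hp)]) hspan
  refine ⟨ρ, fun i hi => ?_⟩
  rw [← hA i hi]
  apply hρ
  interval_cases i
  · exact Or.inl rfl
  · exact Or.inr (Or.inl rfl)
  · exact Or.inr (Or.inr rfl)

theorem rho_ev' {ρ : Spor.M11 →* Matrix (Fin n) (Fin n) F} (hρ : ∀ i < 3, ρ (gu i) = tm s n (Mx i)) :
    ∀ {w : List ℕ}, w.all (fun j => decide (j < 3)) = true → ρ (ev gu w) = ((w.map Mx).map (tm s n)).prod := by
  intro w
  induction w with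
  | nil => intro _; rw [ev_nil, map_one]; rfl
  | cons i w ih =>
    intro h
    rw [List.all_cons, Bool.and_eq_true] at h
    rw [ev_cons, map_mul, hρ i (of_decide_eq_true h.1), ih h.2]
    rfl

theorem Pm.trace (h : Pm q n N pcx ixx perm omx Mx) (hs : s * s = -2)
    {ρ : Spor.M11 →* Matrix (Fin n) (Fin n) F} (hρ : ∀ i < 3, ρ (gu i) = tm s n (Mx i)) {i : ℕ} (hi : i < 10) :
    (ρ (ev v11 (rv i))).trace = zf s (trw n ((rg i).map Mx)) := by
  rw [ev_rv hi, rho_ev' hρ (rg_lt i hi), trace_spec hs]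
  intro M hM
  obtain ⟨j, hj, rfl⟩ := List.mem_map.1 hM
  exact h.ok j (of_decide_eq_true (List.all_eq_true.1 (rg_lt i hi) j hj))

end F

/-- traces, degree six -/
def rt6 (i : ℕ) : Zs := [(0, 0), (2, 0), (0, 0), (0, 0), (1, 0), (2, 0), (2, 0), (1, 0), (1, 0), (0, 0)].getD i (0, 0)

/-- traces, degree ten -/
def rtD (i : ℕ) : Zs := [(10, 0), (2, 0), (1, 0), (2, 0), (0, 0), (-1, 0), (0, 0), (0, 0), (-1, 0), (-1, 0)].getD i (0, 0)

private noncomputable def _root_.Cfsg.Agent.LsF.ff4a9c3_13 : {f // @Cfsg.Agent.H840.M11.app = f} := ⟨_, by first | (delta Cfsg.Agent.H840.M11.app; rewrite [Cfsg.Agent.LsF.ff4a9c3_5.2, Cfsg.Agent.LsF.foldr_eq]; exact rfl) | exact rfl⟩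
private noncomputable def _root_.Cfsg.Agent.LsF.ff4a9c3_14 : {f // @Cfsg.Agent.H840.M11.trw = f} := ⟨_, by first | (delta Cfsg.Agent.H840.M11.trw; rewrite [Cfsg.Agent.LsF.ff4a9c3_2.2, Cfsg.Agent.LsF.ff4a9c3_13.2, Cfsg.Agent.LsF.ff4a9c3_10.2, Cfsg.Agent.LsF.foldr_eq, Cfsg.Agent.LsF.range_eq, Cfsg.Agent.LsF.getD_eq]; exact rfl) | exact rfl⟩
private noncomputable def _root_.Cfsg.Agent.LsF.ff4a9c3_15 : {f // @Cfsg.Agent.H840.M11.rg = f} := ⟨_, by first | (delta Cfsg.Agent.H840.M11.rg; rewrite [Cfsg.Agent.LsF.getD_eq]; exact rfl) | exact rfl⟩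
private noncomputable def _root_.Cfsg.Agent.LsF.ff4a9c3_16 : {f // @Cfsg.Agent.H840.M11.rt6 = f} := ⟨_, by first | (delta Cfsg.Agent.H840.M11.rt6; rewrite [Cfsg.Agent.LsF.getD_eq]; exact rfl) | exact rfl⟩
theorem rt6_spec : ∀ i < 10, zr 3 (trw 6 ((rg i).map Nt)) = rt6 i := by (refine of_decide_eq_true ?_; (try (rewrite [Cfsg.Agent.LsF.ff4a9c3_0.2, Cfsg.Agent.LsF.ff4a9c3_14.2, Cfsg.Agent.LsF.ff4a9c3_6.2, Cfsg.Agent.LsF.ff4a9c3_15.2, Cfsg.Agent.LsF.ff4a9c3_16.2, Cfsg.Agent.LsF.dProdEq_eq, Cfsg.Agent.LsF.map_eq, Cfsg.Agent.LsF.instIDecEq_eq, Cfsg.Agent.LsF.dBallLT_eq, Cfsg.Agent.LsF.decide_eq])); decide +kernel)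

private noncomputable def _root_.Cfsg.Agent.LsF.ff4a9c3_17 : {f // @Cfsg.Agent.H840.M11.rtD = f} := ⟨_, by first | (delta Cfsg.Agent.H840.M11.rtD; rewrite [Cfsg.Agent.LsF.ineg_pat, Cfsg.Agent.LsF.getD_eq]; exact rfl) | exact rfl⟩
theorem rtD_spec : ∀ i < 10, trw 10 ((rg i).map Dt) = rtD i := by (refine of_decide_eq_true ?_; (try (rewrite [Cfsg.Agent.LsF.ff4a9c3_14.2, Cfsg.Agent.LsF.ff4a9c3_9.2, Cfsg.Agent.LsF.ff4a9c3_15.2, Cfsg.Agent.LsF.ff4a9c3_17.2, Cfsg.Agent.LsF.dProdEq_eq, Cfsg.Agent.LsF.map_eq, Cfsg.Agent.LsF.instIDecEq_eq, Cfsg.Agent.LsF.dBallLT_eq, Cfsg.Agent.LsF.decide_eq])); decide +kernel)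

end Cfsg.Agent.H840.M11
end

-- part: H840/M11/Rel3
section
set_option linter.all false
open scoped Cfsg.Agent.FastGrp

/-!
# Relations between the traces if elements of order 11 have no fixed vectors
-/

set_option autoImplicit false
set_option linter.unusedSectionVars false
set_option linter.unusedVariables false
set_option maxRecDepth 100000

namespace Cfsg.Agent.H840.M11

open Module LinearMap
open Cfsg Cfsg.Agent.CoThreeStd.MTwelve Cfsg.Agent.H6.M11

variable {k : Type*} [Field k] {V : Type*} [AddCommGroup V] [Module k V] [FiniteDimensional k V]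
  {R : Spor.M11 →* End k V}

/-- the relation -/
theorem sum_eleven (h11 : ((11 : ℕ) : k) ≠ 0) (h0 : finrank k (End.eigenspace (op v11 R [5]) 1) = 0) (w : List ℕ) :
    ∑ i ∈ Finset.range 11, tw v11 R (w ++ List.replicate i 5) = 0 := by
  have hX := sat_11.toL.pow_eleven (R := R)
  have h1 : av 11 (op v11 R [5]) = 0 := by
    ext u
    have h2 : av 11 (op v11 R [5]) u ∈ End.eigenspace (op v11 R [5]) 1 := by
      rw [End.mem_eigenspace_iff, one_smul]
      exact av_apply_mem hX u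
    rw [Submodule.finrank_eq_zero.1 h0, Submodule.mem_bot] at h2
    exact h2
  have h2 : LinearMap.trace k V (op v11 R w * av 11 (op v11 R [5])) = 0 := by rw [h1, mul_zero, map_zero]
  rw [av, mul_smul_comm, map_smul, smul_eq_mul, Finset.mul_sum, map_sum] at h2
  have h3 := (mul_eq_zero.1 h2).resolve_left (inv_ne_zero h11)
  rw [← h3]
  refine Finset.sum_congr rfl fun i _ => ?_
  rw [tw, op_append, op_replicate]

theorem rel_a (h11 : ((11 : ℕ) : k) ≠ 0) (h0 : finrank k (End.eigenspace (op v11 R [5]) 1) = 0) :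
    tw v11 R [] + 5 * tw v11 R [5] + 5 * tw v11 R [5, 5, 5, 5, 5, 5, 5, 5, 5, 5] = 0 := by
  have h := sum_eleven (R := R) h11 h0 []
  have e : ∑ i ∈ Finset.range 11, tw v11 R ([] ++ List.replicate i 5) =
      tw v11 R [] +
      tw v11 R [5] +
      tw v11 R [5, 5] +
      tw v11 R [5, 5, 5] +
      tw v11 R [5, 5, 5, 5] +
      tw v11 R [5, 5, 5, 5, 5] +
      tw v11 R [5, 5, 5, 5, 5, 5] +
      tw v11 R [5, 5, 5, 5, 5, 5, 5] +
      tw v11 R [5, 5, 5, 5, 5, 5, 5, 5] +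
      tw v11 R [5, 5, 5, 5, 5, 5, 5, 5, 5] +
      tw v11 R [5, 5, 5, 5, 5, 5, 5, 5, 5, 5] := by
    simp only [Finset.sum_range_succ, Finset.sum_range_zero, zero_add]
    rfl
  rw [e] at h
  have a2 : tw v11 R [5, 5] = tw v11 R [5, 5, 5, 5, 5, 5, 5, 5, 5, 5] := tw_conj [6, 6] (by decide +kernel)
  have a3 : tw v11 R [5, 5, 5] = tw v11 R [5] := tw_conj [6] (by decide +kernel)
  have a4 : tw v11 R [5, 5, 5, 5] = tw v11 R [5] := tw_conj [3, 6, 0] (by decide +kernel)
  have a5 : tw v11 R [5, 5, 5, 5, 5] = tw v11 R [5] := tw_conj [6, 6, 6] (by decide +kernel)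
  have a6 : tw v11 R [5, 5, 5, 5, 5, 5] = tw v11 R [5, 5, 5, 5, 5, 5, 5, 5, 5, 5] := tw_conj [6, 6, 6] (by decide +kernel)
  have a7 : tw v11 R [5, 5, 5, 5, 5, 5, 5] = tw v11 R [5, 5, 5, 5, 5, 5, 5, 5, 5, 5] := tw_conj [3, 6, 0] (by decide +kernel)
  have a8 : tw v11 R [5, 5, 5, 5, 5, 5, 5, 5] = tw v11 R [5, 5, 5, 5, 5, 5, 5, 5, 5, 5] := tw_conj [6] (by decide +kernel)
  have a9 : tw v11 R [5, 5, 5, 5, 5, 5, 5, 5, 5] = tw v11 R [5] := tw_conj [6, 6] (by decide +kernel)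
  rw [a2, a3, a4, a5, a6, a7, a8, a9] at h
  linear_combination h

theorem rel_b (h11 : ((11 : ℕ) : k) ≠ 0) (h0 : finrank k (End.eigenspace (op v11 R [5]) 1) = 0) :
    tw v11 R [3] + 2 * tw v11 R [0] + 4 * tw v11 R [6] + 2 * tw v11 R [3, 0] + tw v11 R [5] + tw v11 R [5, 5, 5, 5, 5, 5, 5, 5, 5, 5] = 0 := by
  have h := sum_eleven (R := R) h11 h0 [7]
  have e : ∑ i ∈ Finset.range 11, tw v11 R ([7] ++ List.replicate i 5) =
      tw v11 R [7] +
      tw v11 R [7, 5] +
      tw v11 R [7, 5, 5] +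
      tw v11 R [7, 5, 5, 5] +
      tw v11 R [7, 5, 5, 5, 5] +
      tw v11 R [7, 5, 5, 5, 5, 5] +
      tw v11 R [7, 5, 5, 5, 5, 5, 5] +
      tw v11 R [7, 5, 5, 5, 5, 5, 5, 5] +
      tw v11 R [7, 5, 5, 5, 5, 5, 5, 5, 5] +
      tw v11 R [7, 5, 5, 5, 5, 5, 5, 5, 5, 5] +
      tw v11 R [7, 5, 5, 5, 5, 5, 5, 5, 5, 5, 5] := by
    simp only [Finset.sum_range_succ, Finset.sum_range_zero, zero_add]
    rfl
  rw [e] at h
  have b0 : tw v11 R [7] = tw v11 R [3] := tw_conj [2, 4, 5] (by decide +kernel)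
  have b1 : tw v11 R [7, 5] = tw v11 R [0] := tw_conj [2, 6, 5, 6] (by decide +kernel)
  have b2 : tw v11 R [7, 5, 5] = tw v11 R [5, 5, 5, 5, 5, 5, 5, 5, 5, 5] := tw_conj [7, 5] (by decide +kernel)
  have b3 : tw v11 R [7, 5, 5, 5] = tw v11 R [6] := tw_conj [2, 2, 3, 5] (by decide +kernel)
  have b4 : tw v11 R [7, 5, 5, 5, 5] = tw v11 R [6] := tw_conj [3, 8, 6, 8] (by decide +kernel)
  have b5 : tw v11 R [7, 5, 5, 5, 5, 5] = tw v11 R [3, 0] := tw_conj [8, 4, 2] (by decide +kernel)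
  have b6 : tw v11 R [7, 5, 5, 5, 5, 5, 5] = tw v11 R [3, 0] := tw_conj [4, 2, 7] (by decide +kernel)
  have b7 : tw v11 R [7, 5, 5, 5, 5, 5, 5, 5] = tw v11 R [6] := tw_conj [1, 6, 1, 3] (by decide +kernel)
  have b8 : tw v11 R [7, 5, 5, 5, 5, 5, 5, 5, 5] = tw v11 R [6] := tw_conj [3, 4, 7, 5] (by decide +kernel)
  have b9 : tw v11 R [7, 5, 5, 5, 5, 5, 5, 5, 5, 5] = tw v11 R [5] := tw_conj [7, 5, 7] (by decide +kernel)
  have b10 : tw v11 R [7, 5, 5, 5, 5, 5, 5, 5, 5, 5, 5] = tw v11 R [0] := tw_conj [4, 0, 0, 5] (by decide +kernel)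
  rw [b0, b1, b2, b3, b4, b5, b6, b7, b8, b9, b10] at h
  linear_combination h

theorem rel_c (h11 : ((11 : ℕ) : k) ≠ 0) (h0 : finrank k (End.eigenspace (op v11 R [5]) 1) = 0) :
    tw v11 R [0] + 2 * tw v11 R [6] + tw v11 R [5] + tw v11 R [5, 5, 5, 5, 5, 5, 5, 5, 5, 5] + 2 * tw v11 R [2] + 2 * tw v11 R [2, 2, 2, 2, 2, 2, 2] +
      tw v11 R [2, 2] + tw v11 R [3, 0] = 0 := by
  have h := sum_eleven (R := R) h11 h0 [4]
  have e : ∑ i ∈ Finset.range 11, tw v11 R ([4] ++ List.replicate i 5) =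
      tw v11 R [4] +
      tw v11 R [4, 5] +
      tw v11 R [4, 5, 5] +
      tw v11 R [4, 5, 5, 5] +
      tw v11 R [4, 5, 5, 5, 5] +
      tw v11 R [4, 5, 5, 5, 5, 5] +
      tw v11 R [4, 5, 5, 5, 5, 5, 5] +
      tw v11 R [4, 5, 5, 5, 5, 5, 5, 5] +
      tw v11 R [4, 5, 5, 5, 5, 5, 5, 5, 5] +
      tw v11 R [4, 5, 5, 5, 5, 5, 5, 5, 5, 5] +
      tw v11 R [4, 5, 5, 5, 5, 5, 5, 5, 5, 5, 5] := by
    simp only [Finset.sum_range_succ, Finset.sum_range_zero, zero_add]
    rfl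
  rw [e] at h
  have c0 : tw v11 R [4] = tw v11 R [0] := tw_conj [4, 3, 6] (by decide +kernel)
  have c1 : tw v11 R [4, 5] = tw v11 R [6] := tw_conj [0, 1, 5, 4] (by decide +kernel)
  have c2 : tw v11 R [4, 5, 5] = tw v11 R [5] := tw_conj [1, 3, 4, 8] (by decide +kernel)
  have c3 : tw v11 R [4, 5, 5, 5] = tw v11 R [2] := tw_conj [1, 4, 4, 8] (by decide +kernel)
  have c4 : tw v11 R [4, 5, 5, 5, 5] = tw v11 R [5, 5, 5, 5, 5, 5, 5, 5, 5, 5] := tw_conj [4, 7, 5] (by decide +kernel)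
  have c5 : tw v11 R [4, 5, 5, 5, 5, 5] = tw v11 R [6] := tw_conj [0, 0, 4, 5, 8] (by decide +kernel)
  have c6 : tw v11 R [4, 5, 5, 5, 5, 5, 5] = tw v11 R [2] := tw_conj [3, 1, 4, 5] (by decide +kernel)
  have c7 : tw v11 R [4, 5, 5, 5, 5, 5, 5, 5] = tw v11 R [2, 2] := tw_conj [7, 6, 5, 1] (by decide +kernel)
  have c8 : tw v11 R [4, 5, 5, 5, 5, 5, 5, 5, 5] = tw v11 R [3, 0] := tw_conj [6, 5, 5] (by decide +kernel)
  have c9 : tw v11 R [4, 5, 5, 5, 5, 5, 5, 5, 5, 5] = tw v11 R [2, 2, 2, 2, 2, 2, 2] := tw_conj [0, 6, 5, 7] (by decide +kernel)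
  have c10 : tw v11 R [4, 5, 5, 5, 5, 5, 5, 5, 5, 5, 5] = tw v11 R [2, 2, 2, 2, 2, 2, 2] := tw_conj [6, 0, 7, 6] (by decide +kernel)
  rw [c0, c1, c2, c3, c4, c5, c6, c7, c8, c9, c10] at h
  linear_combination h

end Cfsg.Agent.H840.M11
end

-- part: H923/Ten/AsmCross_mg
section
prune_inst 0x200060040000000000000000000000400000000000000000000000000001000004000000022001001800800000080000000000200000000000000000000000000000020000400000000000000000000000000000000000000000000000000000000000000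
set_option linter.all false
open scoped Cfsg.Agent.FastGrp

-- part: H48/M12One
section
/-!
# The Mathieu group of degree 12 in characteristic 3: the elements of order 11 (helper48)

* `structure_one`, `two_of_one` : representations of the group of degree 11 with at most five eigenvalues `≠ 1` of `x`;
* `ab_two` : `a + b = 2` for the group of degree 12 in dimension 10, 11, 12.
-/

set_option autoImplicit false
set_option linter.unusedSectionVars false
set_option linter.unusedVariables false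
set_option maxRecDepth 100000

universe w u

namespace Cfsg.Agent.H48.M12T

open Module LinearMap Cfsg Cfsg.Agent.H6.M11

variable {k : Type*} [Field k] {ζ ξ : k}

section

variable {V : Type*} [AddCommGroup V] [Module k V] [FiniteDimensional k V] {ρ : Spor.M11 →* End k V}

theorem op5 : op v11 ρ [5] = ρ (v11 5) := by simp only [op, ev_cons, ev_nil, _root_.Cfsg.Agent.H6.M11.op, _root_.Cfsg.Agent.H6.M11.ev_cons, _root_.Cfsg.Agent.H6.M11.ev_nil, _root_.mul_one]

/-- the number of eigenvalues `≠ 1` -/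
noncomputable def rk (X : End k V) : ℕ := finrank k (LinearMap.range (X - 1))

theorem rk_add (X : End k V) : rk X + finrank k (End.eigenspace X 1) = finrank k V := by
  have h1 := LinearMap.finrank_range_add_finrank_ker (X - 1)
  have h2 : LinearMap.ker (X - 1) = End.eigenspace X 1 := by
    ext u
    rw [LinearMap.mem_ker, End.mem_eigenspace_iff, one_smul, LinearMap.sub_apply, Module.End.one_apply, sub_eq_zero]
  rw [h2] at h1
  exact h1

theorem rk_zero {X : End k V} (h : rk X = 0) : X = 1 := by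
  have h1 : LinearMap.range (X - 1) = ⊥ := Submodule.finrank_eq_zero.1 h
  rw [LinearMap.range_eq_bot] at h1
  exact sub_eq_zero.1 h1

/-- the rank is a multiple of five -/
theorem rk_five (hζ : IsPrimitiveRoot ζ 11) : ∃ c, rk (ρ (v11 5)) = 5 * c := by
  obtain ⟨m, a, b, -, -, hm, hdim⟩ := sat_11.toL.eigen (R := ρ) hζ ⊤ (fun _ _ => trivial) (fun _ _ => trivial)
  rw [top_inf_eq, op5] at hm
  rw [finrank_top] at hdim
  have h1 := rk_add (ρ (v11 5))
  exact ⟨a + b, by omega⟩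

/-- irreducible representations with few eigenvalues `≠ 1` -/
theorem irr_false (h3 : (3 : k) = 0) (hζ : IsPrimitiveRoot ζ 11) (hξ : IsPrimitiveRoot ξ 5) (irr : Irr v11 ρ)
    (hX : ρ (v11 5) ≠ 1) (hn : 6 ≤ finrank k V) (hn' : finrank k V ≤ 12) (hr : rk (ρ (v11 5)) ≤ 5) : False := by
  have h := sat_11
  have hX1 : op v11 ρ [5] ≠ 1 := by rw [op5]; exact hX
  have h11k := eleven_ne_of3 h3
  have hXp := h.toL.pow_eleven (R := ρ)
  have hdt := h.dim_three h3 hζ hξ irr hX1 (by omega) hn'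
  obtain ⟨m, a, b, ha, hb, hm, hdim⟩ := h.toL.eigen (R := ρ) hζ ⊤ (fun _ _ => trivial) (fun _ _ => trivial)
  have top' : ∀ c : k, finrank k (⊤ ⊓ End.eigenspace (op v11 ρ [5]) c : Submodule k V) =
      finrank k (End.eigenspace (op v11 ρ [5]) c) := fun c => by rw [top_inf_eq]
  simp only [top'] at ha hb hm
  rw [finrank_top] at hdim
  have hrk := rk_add (ρ (v11 5))
  rw [← op5] at hrk hr
  have hab : a + b = 1 := by
    have h1 : a + b ≤ 1 := by omega
    rcases Nat.eq_zero_or_pos (a + b) with h0 | h0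
    · exfalso
      exact hX1 (rk_zero (by omega))
    · omega
  have hinv : ∀ u ∈ fix (op v11 ρ [5]), op v11 ρ [6] u ∈ fix (op v11 ρ [5]) := by
    intro u hu
    exact mem_of_comm (isProj_av h11k hXp) (h.toL.d_av h11k) hu
  have hsum := finrank_eq_sum hξ (by norm_num) (h.toL.pow_five (R := ρ)) (fix (op v11 ρ [5])) hinv
  have h1 : finrank k (fix (op v11 ρ [5])) = m := hm
  obtain ⟨j, -, hj⟩ : ∃ j ∈ (Finset.univ : Finset (Fin 5)),
      finrank k (fix (op v11 ρ [5]) ⊓ End.eigenspace (op v11 ρ [6]) (ξ ^ (j : ℕ)) : Submodule k V) ≠ 0 := by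
    by_contra hc
    push Not at hc
    rw [Finset.sum_eq_zero hc, h1] at hsum
    omega
  have h2 : (fix (op v11 ρ [5]) ⊓ End.eigenspace (op v11 ρ [6]) (ξ ^ (j : ℕ)) : Submodule k V) ≠ ⊥ := by
    intro hc
    rw [hc, finrank_bot] at hj
    exact hj rfl
  obtain ⟨x0, hx, hx0⟩ := (Submodule.ne_bot_iff _).1 h2
  obtain ⟨g1, g2⟩ := Submodule.mem_inf.1 hx
  have f5 := mem_fix.1 g1
  have f6 := End.mem_eigenspace_iff.1 g2
  obtain ⟨i5, i6, i7⟩ := h.toL.span_inv f5 f6
  have hUb : spanO (op v11 ρ [5]) x0 (op v11 ρ [7] x0) ≠ ⊥ := by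
    intro h1
    have h2 : x0 ∈ spanO (op v11 ρ [5]) x0 (op v11 ρ [7] x0) := x0_mem
    rw [h1, Submodule.mem_bot] at h2
    exact hx0 h2
  have hU : spanO (op v11 ρ [5]) x0 (op v11 ρ [7] x0) = ⊤ := by
    by_contra hU
    obtain ⟨m1, a1, b1, -, -, g1, g2⟩ := h.step h3 hζ irr (by omega) ha hb i5 i6 i7 hUb hU
    omega
  have h3' := finrank_fix_le (u := op v11 ρ [7] x0) h11k hXp f5
  rw [hU, top_inf_eq, hm] at h3'
  (clear * - hn hdt hdim hab h3'; omega)

theorem rk_sub (S : Submodule k V) (hS : ∀ g, S ≤ S.comap (ρ g)) :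
    rk (Representation.subrepresentation ρ S hS (v11 5)) ≤ rk (ρ (v11 5)) := by
  unfold rk
  rw [← Submodule.finrank_map_subtype_eq S]
  apply Submodule.finrank_mono
  rintro _ ⟨_, ⟨u, rfl⟩, rfl⟩
  exact ⟨u, rfl⟩

theorem rk_quo (S : Submodule k V) (hS : ∀ g, S ≤ S.comap (ρ g)) :
    rk (Representation.quotient ρ S hS (v11 5)) ≤ rk (ρ (v11 5)) := by
  unfold rk
  have h1 : LinearMap.range (Representation.quotient ρ S hS (v11 5) - 1) ≤ (LinearMap.range (ρ (v11 5) - 1)).map S.mkQ := by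
    rintro _ ⟨y, rfl⟩
    obtain ⟨u, rfl⟩ := S.mkQ_surjective y
    exact ⟨_, ⟨u, rfl⟩, rfl⟩
  exact (Submodule.finrank_mono h1).trans (Submodule.finrank_map_le _ _)

end

/-- **representations with few eigenvalues `≠ 1`** -/
theorem structure_one (h3 : (3 : k) = 0) (hζ : IsPrimitiveRoot ζ 11) (hξ : IsPrimitiveRoot ξ 5) (n : ℕ) :
    ∀ (V : Type w) [AddCommGroup V] [Module k V] [FiniteDimensional k V] (ρ : Spor.M11 →* End k V), ρ (v11 5) ≠ 1 →
      finrank k V = n → n ≤ 12 → rk (ρ (v11 5)) ≤ 5 →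
      ∃ T W : Submodule k V, finrank k W = finrank k T + 5 ∧ (∀ u ∈ T, ∀ g, ρ g u = u) ∧ (∀ u g, ρ g u - u ∈ W) := by
  have h11 := eleven_ne_of3 h3
  induction n using Nat.strong_induction_on with
  | _ n ih =>
    intro V _ _ _ ρ hX hn h12 hr
    have hX11 : (ρ (v11 5)) ^ 11 = 1 := by
      have h1 := sat_11.toL.pow_eleven (R := ρ)
      rwa [op5] at h1
    have h5 : 5 ≤ n := by
      by_contra hc
      exact hX (triv_of_small hζ (by omega) _)
    rcases h5.lt_or_eq with h5 | h5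
    · obtain ⟨S, hS, hS0, hS1⟩ : ∃ S : Submodule k V, (∀ g, S ≤ S.comap (ρ g)) ∧ 0 < finrank k S ∧
          finrank k S < finrank k V := by
        by_contra hcon
        refine irr_false h3 hζ hξ ?_ hX (by omega) (by omega) hr
        intro S i5 i8
        by_contra hc
        push Not at hc
        refine hcon ⟨S, inv_of i5 i8, ?_, ?_⟩
        · have : Nontrivial S := Submodule.nontrivial_iff_ne_bot.2 hc.1
          exact finrank_pos
        · exact Submodule.finrank_lt hc.2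
      have hq := S.finrank_quotient_add_finrank
      by_cases hs : Representation.subrepresentation ρ S hS (v11 5) = 1
      · -- trivial on `S`
        have hf : ∀ u ∈ S, ∀ g, ρ g u = u := by
          intro u hu g
          have h1 := triv_of_x (ρ := Representation.subrepresentation ρ S hS) hs g
          exact congrArg (fun f : End k S => ((f ⟨u, hu⟩ : S) : V)) h1
        have hX' : Representation.quotient ρ S hS (v11 5) ≠ 1 := by
          intro h1
          apply hX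
          refine unip h11 hX11 (S := S) (fun u => ?_) (fun u hu => hf u hu _)
          have h2 := congrArg (fun f : End k (V ⧸ S) => f (S.mkQ u)) h1
          exact (Submodule.Quotient.eq S).1 h2
        obtain ⟨T, W, hd, hT, hW⟩ := ih (finrank k (V ⧸ S)) (by omega) (V ⧸ S) (Representation.quotient ρ S hS) hX' rfl
          (by omega) ((rk_quo S hS).trans hr)
        have hTS : ∀ u ∈ T.comap S.mkQ, ∀ g, ρ g u - u ∈ S := fun u hu g => (Submodule.Quotient.eq S).1 (hT _ hu g)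
        have hSle : S ≤ T.comap S.mkQ := by
          intro y hy
          rw [Submodule.mem_comap, Submodule.mkQ_apply, (Submodule.Quotient.mk_eq_zero S).2 hy]
          exact T.zero_mem
        have hTinv : ∀ g, T.comap S.mkQ ≤ (T.comap S.mkQ).comap (ρ g) := by
          intro g u hu
          have h1 := add_mem (hSle (hTS u hu g)) hu
          rwa [sub_add_cancel] at h1
        refine ⟨T.comap S.mkQ, W.comap S.mkQ, by rw [finrank_comap_mkQ, finrank_comap_mkQ]; omega, ?_, ?_⟩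
        · have h1 : Representation.subrepresentation ρ _ hTinv (v11 5) = 1 := by
            have h2 : (Representation.subrepresentation ρ _ hTinv (v11 5)) ^ 11 = 1 := by
              have h1 := sat_11.toL.pow_eleven (R := Representation.subrepresentation ρ _ hTinv)
              rwa [op5] at h1
            refine unip h11 h2 (S := S.comap (T.comap S.mkQ).subtype) (fun u => hTS _ u.2 _) (fun u hu => ?_)
            exact Subtype.ext (hf _ hu _)
          intro u hu g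
          have h3 := triv_of_x (ρ := Representation.subrepresentation ρ _ hTinv) h1 g
          exact congrArg (fun f : End k (T.comap S.mkQ) => ((f ⟨u, hu⟩ : T.comap S.mkQ) : V)) h3
        · intro u g
          exact hW (S.mkQ u) g
      · -- non-trivial on `S`
        have hle : LinearMap.range (ρ (v11 5) - 1) ≤ S := by
          have h1 : (LinearMap.range (Representation.subrepresentation ρ S hS (v11 5) - 1)).map S.subtype ≤
              LinearMap.range (ρ (v11 5) - 1) := by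
            rintro _ ⟨_, ⟨u, rfl⟩, rfl⟩
            exact ⟨u, rfl⟩
          have h2 : (LinearMap.range (Representation.subrepresentation ρ S hS (v11 5) - 1)).map S.subtype =
              LinearMap.range (ρ (v11 5) - 1) := by
            apply Submodule.eq_of_le_of_finrank_le h1
            rw [Submodule.finrank_map_subtype_eq]
            obtain ⟨c, hc⟩ := rk_five (ρ := Representation.subrepresentation ρ S hS) hζ
            have hc0 : c ≠ 0 := by
              rintro rfl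
              exact hs (rk_zero hc)
            unfold rk at hc hr
            omega
          rw [← h2]
          exact Submodule.map_subtype_le _ _
        have hXq : Representation.quotient ρ S hS (v11 5) = 1 := by
          ext u
          exact (Submodule.Quotient.eq S).2 (hle ⟨u, rfl⟩)
        have hf : ∀ u g, ρ g u - u ∈ S := by
          intro u g
          have h1 := triv_of_x (ρ := Representation.quotient ρ S hS) hXq g
          exact (Submodule.Quotient.eq S).1 (congrArg (fun f : End k (V ⧸ S) => f (S.mkQ u)) h1)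
        obtain ⟨T, W, hd, hT, hW⟩ := ih (finrank k S) (by omega) S (Representation.subrepresentation ρ S hS) hs rfl
          (by omega) ((rk_sub S hS).trans hr)
        have hWinv : ∀ g, W.map S.subtype ≤ (W.map S.subtype).comap (ρ g) := by
          rintro g _ ⟨u, hu, rfl⟩
          refine ⟨Representation.subrepresentation ρ S hS g u, ?_, rfl⟩
          have h1 := add_mem (hW u g) hu
          rwa [sub_add_cancel] at h1
        refine ⟨T.map S.subtype, W.map S.subtype, by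
          rw [Submodule.finrank_map_subtype_eq, Submodule.finrank_map_subtype_eq]; omega, ?_, ?_⟩
        · rintro _ ⟨u, hu, rfl⟩ g
          exact congrArg Subtype.val (hT u hu g)
        · have h1 : Representation.quotient ρ _ hWinv (v11 5) = 1 := by
            have h2 : (Representation.quotient ρ _ hWinv (v11 5)) ^ 11 = 1 := by
              have h1 := sat_11.toL.pow_eleven (R := Representation.quotient ρ _ hWinv)
              rwa [op5] at h1
            refine unip h11 h2 (S := S.map (W.map S.subtype).mkQ) ?_ ?_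
            · intro y
              obtain ⟨u, rfl⟩ := (W.map S.subtype).mkQ_surjective y
              exact ⟨_, hf u (v11 5), rfl⟩
            · rintro _ ⟨u, hu, rfl⟩
              exact (Submodule.Quotient.eq _).2 ⟨_, hW ⟨u, hu⟩ (v11 5), rfl⟩
          intro u g
          have h3 := triv_of_x (ρ := Representation.quotient ρ _ hWinv) h1 g
          exact (Submodule.Quotient.eq _).1 (congrArg (fun f : End k (V ⧸ W.map S.subtype) => f ((W.map S.subtype).mkQ u)) h3)
    · exact ⟨⊥, ⊤, by rw [finrank_bot, finrank_top]; omega, fun u hu g => by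
        rw [Submodule.mem_bot] at hu; rw [hu, map_zero], fun u g => trivial⟩

/-- **`a + b ≥ 2` in dimension at least ten** -/
theorem ten_le_rk [IsAlgClosed k] (h3 : (3 : k) = 0) (hζ : IsPrimitiveRoot ζ 11) {V : Type w} [AddCommGroup V] [Module k V]
    [FiniteDimensional k V] (R : Spor.M12 →* End k V) (hspan : Submodule.span k (Set.range R) = ⊤)
    (h10 : 8 ≤ finrank k V) (h12 : finrank k V ≤ 12) : rk (R (vH 5)) = 10 := by
  obtain ⟨ξ, hξ⟩ := exists_root k 5 (five_ne_of3 h3)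
  let ρ : Spor.M11 →* End k V := R.comp (Subgroup.inclusion M11_le)
  have hX : ρ (v11 5) ≠ 1 := by
    intro h
    have h1 := triv_of_x h
    have hfix : ∀ u : V, ∀ m ∈ M₀, R m u = u := by
      rintro u _ ⟨m, rfl⟩
      exact congrArg (fun f : End k V => f u) (h1 m)
    exact two_fixed (M := M₀) (c := fun j => Cfsg.Agent.CoThreeStd.MTwelve.wd (cw j)) hspan hc (by omega) (S := ⊤) (by rw [finrank_top]; omega)
      (fun u _ => hfix u)
  obtain ⟨c, hc'⟩ := rk_five (ρ := ρ) hζ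
  have hle := rk_add (ρ (v11 5))
  have hr : ρ (v11 5) = R (vH 5) := rfl
  rw [hr] at hc' hle
  have hc2 : c ≤ 2 := by omega
  by_contra hcon
  obtain ⟨T, W, hd, hT, hW⟩ := structure_one h3 hζ hξ (finrank k V) V ρ hX rfl h12 (by rw [hr]; omega)
  have hWle := Submodule.finrank_le W
  rcases (show 2 ≤ finrank k T ∨ finrank k W + 2 ≤ finrank k V by omega) with h | h
  · refine two_fixed (M := M₀) (c := fun j => Cfsg.Agent.CoThreeStd.MTwelve.wd (cw j)) hspan hc (by omega) h ?_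
    rintro u hu _ ⟨m, rfl⟩
    exact hT u hu m
  · refine two_cofixed (M := M₀) (c := fun j => Cfsg.Agent.CoThreeStd.MTwelve.wd (cw j)) hspan hc (by omega) h ?_
    rintro u _ ⟨m, rfl⟩
    exact hW u m

end Cfsg.Agent.H48.M12T
end

-- part: H48/M12Ten
section
/-!
# The Mathieu group of degree 12 in characteristic 3, dimension 10 (helper48)

`m12_ten` : a core of dimension 10 in characteristic 3 isomorphic to the group has real traces.
-/

set_option autoImplicit false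
set_option linter.unusedSectionVars false
set_option linter.unusedVariables false
set_option maxRecDepth 100000

universe w u

namespace Cfsg.Agent.H48.M12T

open Module LinearMap Cfsg Cfsg.Agent.H6.M11

variable {k : Type*} [Field k] {ζ ξ : k}

/-- Gauss sums -/
def al (ζ : k) : k := ζ + ζ ^ 3 + ζ ^ 4 + ζ ^ 5 + ζ ^ 9
/-- Gauss sums -/
def be (ζ : k) : k := ζ ^ 2 + ζ ^ 6 + ζ ^ 7 + ζ ^ 8 + ζ ^ 10

theorem al_add_be (hζ : IsPrimitiveRoot ζ 11) : al ζ + be ζ = -1 := by
  have h1 := hζ.geom_sum_eq_zero (by norm_num)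
  simp only [Finset.sum_range_succ, Finset.sum_range_zero, zero_add, pow_zero, pow_one] at h1
  unfold al be
  linear_combination h1

theorem al_mul_be (hζ : IsPrimitiveRoot ζ 11) : al ζ * be ζ = 3 := by
  have h1 := al_add_be hζ
  have h11 := hζ.pow_eq_one
  have h2 : al ζ * be ζ = 5 + 2 * (al ζ + be ζ) := by
    unfold al be
    linear_combination (5 + 2 * ζ + ζ ^ 2 * 2 + ζ ^ 3 + ζ ^ 4 * 2 + ζ ^ 5 + ζ ^ 6 + ζ ^ 8) * h11
  rw [h2, h1]
  norm_num

theorem al_ne_be (h3 : (3 : k) = 0) (hζ : IsPrimitiveRoot ζ 11) : al ζ ≠ be ζ := by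
  intro h
  have h1 := al_add_be hζ
  have h2 := al_mul_be hζ
  rw [← h] at h1 h2
  rw [h3] at h2
  have h4 : al ζ = 0 := by simpa using h2
  rw [h4, add_zero] at h1
  have : (1 : k) = 0 := by linear_combination h1
  exact one_ne_zero this

section

variable {V : Type*} [AddCommGroup V] [Module k V] [FiniteDimensional k V] {X : End k V}

/-- the operators of a representation with quadratic residues only are scalars -/
theorem scalar_ops (hζ : IsPrimitiveRoot ζ 11) (hX : X ^ 11 = 1)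
    (h : ∀ c : ℕ, (c = 0 ∨ c = 2 ∨ c = 6 ∨ c = 7 ∨ c = 8 ∨ c = 10) → finrank k (End.eigenspace X (ζ ^ c)) = 0) :
    X ^ 1 + X ^ 3 + X ^ 4 + X ^ 5 + X ^ 9 = al ζ • (1 : End k V) ∧
      X ^ 2 + X ^ 6 + X ^ 7 + X ^ 8 + X ^ 10 = be ζ • (1 : End k V) := by
  have h11 := hζ.pow_eq_one
  have hζ0 : ζ ≠ 0 := hζ.ne_zero (by norm_num)
  have h11k : ((11 : ℕ) : k) ≠ 0 := (hζ.neZero').out
  have hz : ∀ c : ℕ, (c = 0 ∨ c = 2 ∨ c = 6 ∨ c = 7 ∨ c = 8 ∨ c = 10) → sp 11 ζ X c = 0 := by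
    intro c hc
    have hbot : End.eigenspace X (ζ ^ c) = ⊥ := Submodule.finrank_eq_zero.1 (h c hc)
    ext u
    have h1 := (isProj_sp h11k hζ0 h11 hX c).map_mem u
    rw [hbot, Submodule.mem_bot] at h1
    exact h1
  have hp := fun b j => pow_mul_sp (V := V) (X := X) hζ0 h11 hX b j
  have q : ∀ m : ℕ, ζ ^ m = ζ ^ (m % 11) := fun m => pow_eq_pow_mod m h11
  have hs : ∑ b : Fin 11, sp 11 ζ X b = 1 := sum_sp hζ (by norm_num)
  have key : ∀ (Y : End k V) (c : k), (∀ b : Fin 11, Y * sp 11 ζ X b = c • sp 11 ζ X b) → Y = c • (1 : End k V) := by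
    intro Y c hY
    calc Y = Y * ∑ b : Fin 11, sp 11 ζ X b := by rw [hs, mul_one]
      _ = ∑ b : Fin 11, c • sp 11 ζ X b := by rw [Finset.mul_sum]; exact Finset.sum_congr rfl fun b _ => hY b
      _ = _ := by rw [← Finset.smul_sum, hs]
  have hcase : ∀ b : Fin 11, ((b : ℕ) = 0 ∨ (b : ℕ) = 2 ∨ (b : ℕ) = 6 ∨ (b : ℕ) = 7 ∨ (b : ℕ) = 8 ∨ (b : ℕ) = 10) ∨
      ((b : ℕ) = 1 ∨ (b : ℕ) = 3 ∨ (b : ℕ) = 4 ∨ (b : ℕ) = 5 ∨ (b : ℕ) = 9) := by decide
  constructor
  · apply key
    intro b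
    rcases hcase b with hb | hb
    · rw [hz _ hb, mul_zero, smul_zero]
    · simp only [add_mul, hp]
      rw [← add_smul, ← add_smul, ← add_smul, ← add_smul]
      congr 1
      unfold al
      rcases hb with hb | hb | hb | hb | hb <;> rw [hb]
      · norm_num
      · rw [q (3 * 1), q (3 * 3), q (3 * 4), q (3 * 5), q (3 * 9)]; norm_num only [_root_.pow_one]; ring
      · rw [q (4 * 1), q (4 * 3), q (4 * 4), q (4 * 5), q (4 * 9)]; norm_num only [_root_.pow_one]; ring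
      · rw [q (5 * 1), q (5 * 3), q (5 * 4), q (5 * 5), q (5 * 9)]; norm_num only [_root_.pow_one]; ring
      · rw [q (9 * 1), q (9 * 3), q (9 * 4), q (9 * 5), q (9 * 9)]; norm_num only [_root_.pow_one]; ring
  · apply key
    intro b
    rcases hcase b with hb | hb
    · rw [hz _ hb, mul_zero, smul_zero]
    · simp only [add_mul, hp]
      rw [← add_smul, ← add_smul, ← add_smul, ← add_smul]
      congr 1
      unfold be
      rcases hb with hb | hb | hb | hb | hb <;> rw [hb]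
      · norm_num only []; rw [q 18, q 21, q 24, q 30]; norm_num only []; ring
      · norm_num only []; rw [q 24, q 28, q 32, q 40]; norm_num only []; ring
      · norm_num only []; rw [q 30, q 35, q 40, q 50]; norm_num only []; ring
      · norm_num only []; rw [q 18, q 54, q 63, q 72, q 90]; norm_num only []; ring

end

end Cfsg.Agent.H48.M12T

namespace Cfsg.Agent.H48.M12T

open Cfsg Cfsg.Agent.H6.M11 Cfsg.Agent.CoThreeStd.MTwelve Cfsg.Agent.SporadicStructure.M11InvPerms Module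

/-- orders -/
def om (j : ℕ) : ℕ := [1, 4, 6, 5, 10, 3, 8, 8, 8, 6, 8].getD j 1

theorem om_spec : ∀ j : Fin 11, 1 ≤ j.1 → eqW (wpow ([2, 5] ++ wpow (W 5) j.1) (om j.1)) [] = true ∧
    ¬ 11 ∣ om j.1 := by decide +kernel

theorem vH_five : vH 5 = wd (W 5) := rfl

/-- the element `g` and the elements `g x ^ j` -/
theorem good_real {j : ℕ} (hj : 1 ≤ j) (hj' : j ≤ 10) : Rl (wd [2, 5] * vH 5 ^ j) := by
  apply real_H
  intro h
  obtain ⟨h1, h2⟩ := om_spec ⟨j, by omega⟩ hj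
  have h3 := wd_eq h1
  rw [wd_wpow, wd_append, wd_wpow, wd_nil, ← vH_five] at h3
  have h4 := orderOf_dvd_of_pow_eq_one h3
  rw [h] at h4
  exact h2 h4

theorem good_cube : wd [2, 5] ^ 3 = 1 := by
  have h1 : eqW (wpow [2, 5] 3) [] = true := by decide +kernel
  have h2 := wd_eq h1
  rwa [wd_wpow] at h2

theorem x_pow : vH 5 ^ 11 = 1 := by
  have h1 : eqW (wpow (W 5) 11) [] = true := by decide +kernel
  have h2 := wd_eq h1
  rwa [wd_wpow, ← vH_five] at h2

open LinearMap in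
/-- quadratic residues only : the dimension is divisible by 3 -/
theorem no_scalar {k : Type*} [Field k] {ζ : k} (h3 : (3 : k) = 0) (hζ : IsPrimitiveRoot ζ 11) {V : Type*}
    [AddCommGroup V] [Module k V] [FiniteDimensional k V] (R : Spor.M12 →* End k V)
    (h : ∀ c : ℕ, (c = 0 ∨ c = 2 ∨ c = 6 ∨ c = 7 ∨ c = 8 ∨ c = 10) → finrank k (End.eigenspace (R (vH 5)) (ζ ^ c)) = 0) :
    (finrank k V : k) = 0 := by
  have hX : R (vH 5) ^ 11 = 1 := by rw [← map_pow, x_pow, map_one]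
  obtain ⟨e1, e2⟩ := scalar_ops hζ hX h
  set! g := wd [2, 5] with hg
  -- real traces
  have ht : ∀ j : ℕ, 1 ≤ j → j ≤ 10 → LinearMap.trace k V (R g * R (vH 5) ^ j) =
      LinearMap.trace k V (R g⁻¹ * R (vH 5) ^ (11 - j)) := by
    intro j hj hj'
    obtain ⟨c, hc⟩ := good_real hj hj'
    have h1 : LinearMap.trace k V (R (g * vH 5 ^ j)⁻¹) = LinearMap.trace k V (R (g * vH 5 ^ j)) := by
      rw [← hc, map_mul R, LinearMap.trace_mul_comm, ← map_mul R, mul_inv_cancel_left]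
    have h2 : (g * vH 5 ^ j)⁻¹ = vH 5 ^ (11 - j) * g⁻¹ := by
      rw [mul_inv_rev, mul_left_inj, inv_eq_iff_mul_eq_one, ← pow_add, Nat.add_sub_cancel' (by omega), x_pow]
    rw [h2, map_mul R, map_mul R, map_pow R, map_pow R, LinearMap.trace_mul_comm] at h1
    exact h1.symm
  have hcube : ∀ y : Spor.M12, y ^ 3 = 1 → LinearMap.trace k V (R y) = (finrank k V : k) := fun y hy =>
    trace_of_cube h3 (by rw [← map_pow, hy, map_one])
  have t1 := hcube g good_cube
  have t2 := hcube g⁻¹ (by rw [inv_pow, good_cube, inv_one])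
  have s1 : LinearMap.trace k V (R g * (R (vH 5) ^ 1 + R (vH 5) ^ 3 + R (vH 5) ^ 4 + R (vH 5) ^ 5 + R (vH 5) ^ 9)) =
      al ζ * finrank k V := by
    rw [e1, mul_smul_comm, mul_one, map_smul, t1, smul_eq_mul]
  have s2 : LinearMap.trace k V (R g⁻¹ * (R (vH 5) ^ 2 + R (vH 5) ^ 6 + R (vH 5) ^ 7 + R (vH 5) ^ 8 + R (vH 5) ^ 10)) =
      be ζ * finrank k V := by
    rw [e2, mul_smul_comm, mul_one, map_smul, t2, smul_eq_mul]
  simp only [mul_add, map_add] at s1 s2
  rw [ht 1 (by norm_num) (by norm_num), ht 3 (by norm_num) (by norm_num), ht 4 (by norm_num) (by norm_num),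
    ht 5 (by norm_num) (by norm_num), ht 9 (by norm_num) (by norm_num)] at s1
  norm_num only [] at s1 s2
  have h4 : (al ζ - be ζ) * (finrank k V : k) = 0 := by linear_combination s2 - s1
  exact (mul_eq_zero.1 h4).resolve_left (sub_ne_zero.2 (al_ne_be h3 hζ))

open LinearMap in
/-- dimension ten : the trace of `x` is real -/
theorem trace_ten {k : Type u} [Field k] [IsAlgClosed k] (h3 : (3 : k) = 0) {V : Type w} [AddCommGroup V] [Module k V]
    [FiniteDimensional k V] (R : Spor.M12 →* End k V) (hspan : Submodule.span k (Set.range R) = ⊤)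
    (h10 : finrank k V = 10) : LinearMap.trace k V (R (ev vH [5])) =
      LinearMap.trace k V (R (ev vH [5, 5, 5, 5, 5, 5, 5, 5, 5, 5])) := by
  obtain ⟨ζ, hζ⟩ := exists_root k 11 (eleven_ne_of3 h3)
  have hrk := ten_le_rk h3 hζ R hspan (by omega) (by omega)
  have hadd := rk_add (R (vH 5))
  have hop : op vH R [5] = R (vH 5) := by simp only [op, ev_cons, ev_nil, _root_.Cfsg.Agent.H6.M11.op, _root_.Cfsg.Agent.H6.M11.ev_cons, _root_.Cfsg.Agent.H6.M11.ev_nil, _root_.mul_one]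
  obtain ⟨m, a, b, ha, hb, hm, hdim⟩ := sat_H.toL.eigen (R := R) hζ ⊤ (fun _ _ => trivial) (fun _ _ => trivial)
  have top' : ∀ c : k, finrank k (⊤ ⊓ End.eigenspace (op vH R [5]) c : Submodule k V) =
      finrank k (End.eigenspace (op vH R [5]) c) := fun c => by rw [top_inf_eq]
  simp only [top'] at ha hb hm
  rw [finrank_top] at hdim
  have hm0 : m = 0 := by rw [← hm, hop]; omega
  have h10k : (finrank k V : k) ≠ 0 := by
    rw [h10]
    intro h
    push_cast at h
    exact one_ne_zero (α := k) (by linear_combination h - 3 * h3)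
  have hab : a = 1 ∧ b = 1 := by
    rcases (show (a = 2 ∧ b = 0) ∨ (a = 0 ∧ b = 2) ∨ (a = 1 ∧ b = 1) by (clear * - h10 hdim hm0; (solve | lia | omega))) with h | h | h
    · exfalso
      apply h10k
      refine no_scalar h3 hζ R fun c hc => ?_
      rw [← hop]
      rcases hc with rfl | hc
      · rw [pow_zero, hm, hm0]
      · rw [hb c hc, h.2]
    · exfalso
      apply h10k
      have hζ' : IsPrimitiveRoot (ζ ^ 10) 11 := hζ.pow_of_coprime 10 (by norm_num)
      refine no_scalar h3 hζ' R fun c hc => ?_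
      rw [← hop, ← pow_mul]
      have e : ζ ^ (10 * c) = ζ ^ ((10 * c) % 11) := pow_eq_pow_mod _ hζ.pow_eq_one
      rw [e]
      rcases hc with rfl | rfl | rfl | rfl | rfl | rfl
      · rw [Nat.mul_zero, Nat.zero_mod, pow_zero, hm, hm0]
      all_goals rw [ha _ (by norm_num), h.1]
    · exact h
  obtain ⟨h4, h5⟩ := sat_H.toL.trace_five (R := R) hζ ha hb hm
  rw [hab.1, hab.2] at h4 h5
  unfold tw op at h4 h5
  rw [h4, h5]

end Cfsg.Agent.H48.M12T

namespace Cfsg.Agent.H48.M12T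

open Matrix Module Cfsg Cfsg.Geo Cfsg.Agent.H915.LD Cfsg.Agent.H6.M11 Cfsg.Agent.CoThreeStd.MTwelve

variable {ι : Type} [Fintype ι] [DecidableEq ι] {F : Type u} [Field F] {P : Subgroup (GL ι F)}

/-- **the group of degree 12 in characteristic 3, dimension 10** : real traces -/
theorem m12_ten [Finite F] (hC : Core P) (h3 : (3 : F) = 0) (e : P ≃* Spor.M12) (h10 : Fintype.card ι = 10) : SD P := by
  let k := AlgebraicClosure F
  have h3k : (3 : k) = 0 := by
    have h := congrArg (algebraMap F k) h3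
    rwa [map_ofNat, map_zero] at h
  have h0 := trace_ten (k := k) h3k (V := ι → k) ((rep P k).comp e.symm.toMonoidHom) (by
    have h1 : Set.range ((rep P k).comp e.symm.toMonoidHom) = Set.range (rep P k) := by
      ext f
      constructor
      · rintro ⟨g, rfl⟩
        exact ⟨e.symm g, rfl⟩
      · rintro ⟨g, rfl⟩
        exact ⟨e g, by simp only [_root_.MulEquiv.toMonoidHom_eq_coe, _root_.MonoidHom.coe_comp, _root_.MonoidHom.coe_coe, _root_.Function.comp_apply, _root_.MulEquiv.symm_apply_apply]⟩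
    rw [h1]
    exact span_rep k hC) (by rw [Module.finrank_fintype_fun_eq_card, h10])
  have h10' : (ev vH [5])⁻¹ = ev vH [5, 5, 5, 5, 5, 5, 5, 5, 5, 5] := by
    rw [inv_eq_iff_mul_eq_one, ← ev_append, ← ev_nil vH]
    exact sat_H.base (by decide +kernel)
  rw [← h10'] at h0
  have h1 : tr ((e.symm (ev vH [5])⁻¹ : P) : GL ι F) = tr ((e.symm (ev vH [5]) : P) : GL ι F) := by
    apply (algebraMap F k).injective
    rw [← trace_rep, ← trace_rep]
    exact h0.symm
  let χ : Spor.M12 → F := fun g => tr ((e.symm g : P) : GL ι F)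
  have hχ : ∀ g m : Spor.M12, χ (m * g * m⁻¹) = χ g := by
    intro g m
    have h2 : IsConj (e.symm g) (e.symm (m * g * m⁻¹)) := by
      rw [isConj_iff]
      exact ⟨e.symm m, by rw [map_mul, map_mul, map_inv]⟩
    exact (tr_isConj h2).symm
  intro g hg
  have h3 := real_fun χ hχ h1 (e ⟨g, hg⟩)
  have h4 : χ (e ⟨g, hg⟩)⁻¹ = tr g⁻¹ := by
    show tr ((e.symm (e ⟨g, hg⟩)⁻¹ : P) : GL ι F) = _
    rw [map_inv, MulEquiv.symm_apply_apply]
    rfl
  have h5 : χ (e ⟨g, hg⟩) = tr g := by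
    show tr ((e.symm (e ⟨g, hg⟩) : P) : GL ι F) = _
    rw [MulEquiv.symm_apply_apply]
  rw [← h4, ← h5]
  exact h3

end Cfsg.Agent.H48.M12T
end

-- part: H923/Ten/AsmCross
section
/-!
# Dimension ten: the simple groups that are not of Lie type in the characteristic (helper923)
-/

set_option autoImplicit false
set_option linter.unusedSectionVars false
set_option linter.style.haveILetI false

namespace Cfsg.Agent.H923.Ten.Asm

open Cfsg Cfsg.Geo Matrix
open H915.LD (Core Soc tr SD Fr Cj)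
open H912.Bd (IsL IsU IsS IsOP)
open H936.List12

universe u

variable {F : Type u} [Field F] [Fintype F] {P : Subgroup (GL (Fin 10) F)} (p : ℕ) [hp : Fact p.Prime] [hFp : CharP F p]

/-- the cross characteristic possibilities that are not self-dual -/
def Cross10 (p : ℕ) (P : Subgroup (GL (Fin 10) F)) : Prop :=
  (p ≠ 19 ∧ ∃ (K : Type) (_ : Field K) (_ : Fintype K), Fintype.card K = 19 ∧
    Nonempty (Soc P ≃* ProjectiveSpecialLinearGroup (Fin 2) K)) ∨
  (Nonempty (Soc P ≃* alternatingGroup (Fin 7))) ∨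
  (p ≠ 2 ∧ p ≠ 3 ∧ IsU 4 2 (Soc P)) ∨
  (p ≠ 2 ∧ p ≠ 7 ∧ IsL 3 4 (Soc P)) ∨
  (Spor.IsoM11 (Soc P)) ∨
  (Spor.IsoM12 (Soc P) ∧ (((p % 8 = 1 ∨ p % 8 = 3) ∧ Fr P p) ∨ ((p % 8 = 5 ∨ p % 8 = 7) ∧ Cj P p))) ∨
  (Spor.IsoM22 (Soc P) ∧ (((p = 2 ∨ p % 28 = 1 ∨ p % 28 = 9 ∨ p % 28 = 25 ∨ p % 28 = 11 ∨ p % 28 = 15 ∨ p % 28 = 23) ∧
    Fr P p) ∨ ((p % 28 = 5 ∨ p % 28 = 13 ∨ p % 28 = 17 ∨ p % 28 = 3 ∨ p % 28 = 19 ∨ p % 28 = 27) ∧ Cj P p)))

theorem two_ne {p : ℕ} [hp : Fact p.Prime] [CharP F p] (h : p ≠ 2) : (2 : F) ≠ 0 := by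
  intro h0
  have h1 : ((2 : ℕ) : F) = 0 := by exact_mod_cast h0
  rw [CharP.cast_eq_zero_iff F p] at h1
  exact h ((Nat.prime_dvd_prime_iff_eq hp.out Nat.prime_two).1 h1)

theorem zero_or_one {K : Type*} [Field K] [Fintype K] (hK : Fintype.card K = 2) (x : K) : x = 0 ∨ x = 1 := by
  by_cases hx : x = 0
  · exact Or.inl hx
  · right
    have h3 := FiniteField.pow_card_sub_one_eq_one x hx
    rwa [hK, pow_one] at h3

theorem m12_three [CharP F 3] (hC : Core P) (h : Spor.IsoM12 (Soc P)) : SD P ∨ Fr P 3 := by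
  haveI : Fact (Nat.Prime 3) := ⟨Nat.prime_three⟩
  by_cases hZ : (scalars (Fin 10) F).subgroupOf P = ⊥
  · left
    obtain ⟨e⟩ := h
    exact H48.M12T.m12_ten hC (CharP.cast_eq_zero F 3)
      (((QuotientGroup.quotientMulEquivOfEq hZ).trans QuotientGroup.quotientBot).symm.trans e) (by simp)
  · right
    rcases H24.M12.two_m12 (p := 3) hC h (by norm_num) hZ (by simp) with h1 | h1
    · exact h1.2.2
    · exact (h1.1 rfl).elim

include hFp hp in
theorem l2_row (hC : Core P) (hsd : ¬ SD P) (hL : ¬ IsLieTypeChar p (Soc P)) {q : ℕ} (hq : IsL 2 q (Soc P))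
    (h7 : 5 ≤ q) (h9 : q ≠ 9) (h : ¬ p ∣ q) : Cross10 p P := by
  obtain ⟨K, i1, i2, hK, ⟨e⟩⟩ := hq
  rcases H464.Sl2.l2_stage1_le p hC (by omega) (by omega) (by rw [hK]; exact h) e (by simp) with h1 | ⟨h1, -⟩
  · exact (hsd h1).elim
  · rw [Fintype.card_fin] at h1
    have hK19 : Fintype.card K = 19 := by omega
    refine Or.inl ⟨?_, K, i1, i2, hK19, ⟨e⟩⟩
    rintro rfl
    rw [← hK, hK19] at h
    exact h dvd_rfl

include hFp hp in
theorem cross (hC : Core P) (hsd : ¬ SD P) (hk : IsKnownSimple' (Soc P)) (hL : ¬ IsLieTypeChar p (Soc P)) : Cross10 p P := by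
  have h10 : Fintype.card (Fin 10) = 10 := by simp
  have h27 : IsL 2 7 (Soc P) → Cross10 p P := by
    intro h
    refine l2_row p hC hsd hL h (by norm_num) (by norm_num) ?_
    intro hd
    exact hL (lie_of_isL hp.out hd (by norm_num) (fun _ => by norm_num) h)
  have hs62 : p ≠ 2 → IsS 3 2 (Soc P) → False := by
    rintro h2 ⟨K, i1, i2, hK, ⟨e⟩⟩
    have h3 := H916.SpSix.spSix_dim (zero_or_one hK) hC e (two_ne h2) (by simp)
    simp at h3
  have ho82 : p ≠ 2 → IsOP 4 2 (Soc P) → False := by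
    rintro h2 ⟨K, i1, i2, hK, ⟨e⟩⟩
    have h3 := H916.Om.omega_dim (zero_or_one hK) hC e (two_ne h2) (by simp)
    simp at h3
  rcases list₂ (p := p) (n := 10) (by norm_num) hC hk hL with h | h | h | h | h
  · obtain ⟨m, h5, h14, hp5, -, h14', ⟨e⟩⟩ := h
    have hm : m = 5 ∨ m = 6 ∨ m = 7 ∨ 8 ≤ m := by omega
    rcases hm with rfl | rfl | rfl | hm
    · exact (hsd (H937.T2.a5_sd hC e)).elim
    · exact (hsd (H937.T2.a6_sd_of_not_dvd hC e (by simp))).elim
    · exact Or.inr (Or.inl ⟨e⟩)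
    · refine (hsd (H614.AMod.Main.alt_sd_fr hC p e hm (by simp) ?_).1).elim
      rintro ⟨rfl, rfl⟩
      exact hL (H219.HerSmall.lie_alt8 e)
  · rcases h with ⟨q, hq, hpq, -, h⟩ | ⟨h1, -, h⟩ | ⟨h1, -, h⟩ | ⟨-, h1, -⟩ | ⟨h1, h2, -, h⟩ | ⟨h1, -, h⟩ |
      ⟨-, h1, -⟩ | ⟨h1, -, h⟩ | ⟨h1, -, h⟩
    · simp only [Finset.mem_insert, Finset.mem_singleton] at hq
      exact l2_row p hC hsd hL h (by omega) (by omega) hpq
    · exfalso
      obtain ⟨K, i1, i2, hK, ⟨e⟩⟩ := h
      have h3 := (H175.L33.l33 hC p h1 hK e (by simp)).2.2.2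
      simp at h3
    · exfalso
      obtain ⟨K, i1, i2, hK, e⟩ := h
      have h3 := H936.U33All.u33_all hC p h1 (by simp) (by rw [hK]; norm_num) e
      simp at h3
    · omega
    · exact Or.inr (Or.inr (Or.inl ⟨h1, h2, h⟩))
    · obtain ⟨K, i1, i2, hK, ⟨e⟩⟩ := h
      rcases H36.U52.t6 hC p h1 (by norm_num) (by rw [hK]; norm_num) e with h3 | h3
      · exact (hsd h3.2.1).elim
      · omega
    · omega
    · exact (hs62 h1 h).elim
    · exact (ho82 h1 h).elim
  · rcases h with ⟨h2, -, h | h | ⟨h3, h⟩ | h | h | h⟩ | ⟨-, h1, -⟩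
    · exact h27 h
    · by_cases h7 : p = 7
      · subst h7
        obtain ⟨K, i1, i2, hK, ⟨e⟩⟩ := h
        exact (hsd ((H906.T14.l34_ten 7 hC (by norm_num) hK (by simp) e).2.2 rfl).1).elim
      · exact Or.inr (Or.inr (Or.inr (Or.inl ⟨h2, h7, h⟩)))
    · exact Or.inr (Or.inr (Or.inl ⟨h2, h3, h⟩))
    · exact (hs62 h2 h).elim
    · exact (ho82 h2 h).elim
    · exfalso
      have h3 := (H937.G24.row hC h p h2 (by simp)).1
      simp at h3
    · omega
  · exfalso
    have h3 := (H814.Sz8.core_sz8 hC (two_ne h.1) (by simp) h.2.2).1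
    simp at h3
  · rcases h with h | h | h | ⟨⟨e⟩⟩ | ⟨⟨e⟩⟩ | h | ⟨⟨e⟩⟩ | h | h
    · exact Or.inr (Or.inr (Or.inr (Or.inr (Or.inl h))))
    · have h1 : SD P ∨ (((p % 8 = 1 ∨ p % 8 = 3) ∧ Fr P p) ∨ ((p % 8 = 5 ∨ p % 8 = 7) ∧ Cj P p)) := by
        by_cases h3 : p = 3
        · subst h3
          exact (m12_three hC h).imp_right fun h1 => Or.inl ⟨Or.inr rfl, h1⟩
        · exact (H6.M11.m12_small hC p h3 h (by simp)).imp_right fun h1 => h1.2
      rcases h1 with h1 | h1
      · exact (hsd h1).elim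
      · exact Or.inr (Or.inr (Or.inr (Or.inr (Or.inr (Or.inl ⟨h, h1⟩)))))
    · by_cases h2 : p = 2
      · subst h2
        obtain ⟨e⟩ := h
        rcases H921.M22.main e hC (by simp) with h1 | ⟨-, h1, -⟩
        · have := h1.1
          simp at this
        · exact Or.inr (Or.inr (Or.inr (Or.inr (Or.inr (Or.inr ⟨⟨e⟩, Or.inl ⟨Or.inl rfl, h1⟩⟩)))))
      · refine Or.inr (Or.inr (Or.inr (Or.inr (Or.inr (Or.inr ⟨h, ?_⟩)))))
        obtain ⟨e⟩ := h
        obtain ⟨h3, h4, h5⟩ := H13.M22.ten p hC h2 (by simp) e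
        have hodd : p % 2 = 1 := hp.out.eq_two_or_odd.resolve_left h2
        have h7 : p % 7 ≠ 0 := by
          intro h7
          obtain rfl : p = 7 := ((Nat.prime_dvd_prime_iff_eq (by norm_num) hp.out).1 (Nat.dvd_of_mod_eq_zero h7)).symm
          exact hsd (h5 rfl).1
        have h8 : (p % 7 = 1 ∨ p % 7 = 2 ∨ p % 7 = 4) ∨ (p % 7 = 3 ∨ p % 7 = 5 ∨ p % 7 = 6) := by (clear * - h7; (solve | lia | omega))
        rcases h8 with h8 | h8
        · exact Or.inl ⟨by (clear * - hodd h8; solve | lia | omega), h3 h8⟩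
        · exact Or.inr ⟨by (clear * - hodd h8; solve | lia | omega), h4 h8⟩
    · have := (H4.LDM.Stage.m23_low hC e p (by simp)).2.1
      omega
    · have := (H4.LDM.Stage.m24_low hC e p (by simp)).2.1
      omega
    · exact (hsd (H1.TJ1.sd_iso hC h)).elim
    · exact (hsd (H1.TJ2.sd hC e (by simp))).elim
    · have := (H95.JT.j3 p hC h (by simp)).2.1
      omega
    · exfalso
      obtain ⟨e⟩ := h
      by_cases h3 : p = 3
      · subst h3
        have h3 := (H878.Sz.core_Suz_three hC e (by simp)).1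
        simp at h3
      · have h3 := (H878.Sz.core_Suz hC e (by simp) p h3).1
        simp at h3

end Cfsg.Agent.H923.Ten.Asm
end

-- part: H923/Ten/A7Kill
section
/-!
# `A₇` in dimension ten is never maximal (helper923)
-/

set_option autoImplicit false
set_option linter.unusedSectionVars false
set_option maxRecDepth 20000

namespace Cfsg.Agent.H923.Ten

open Module Matrix Cfsg Cfsg.Geo
open Cfsg.Agent.LieClassical.GUOrder

universe u

section gen

variable {F : Type u} [Field F]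

theorem two_le_rank {n : ℕ} {X : Matrix (Fin n) (Fin n) F} (f g : Fin 2 → Fin n)
    (h : (X.submatrix f g).det ≠ 0) : 2 ≤ X.rank := by
  have h1 := Matrix.rank_of_det_ne_zero h
  have h2 := Matrix.rank_submatrix_le X f g
  rw [h1] at h2
  simpa using h2

/-- an element of norm `d` -/
theorem exists_norm [Fintype F] {q : ℕ} (hF : Fintype.card F = q ^ 2) {d : F} (hd0 : d ≠ 0)
    (hd : frob hF d = d) : ∃ α : F, α ≠ 0 ∧ α * frob hF α = d := by
  have hq : 1 < q := two_le hF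
  obtain ⟨g, hg⟩ := IsCyclic.exists_generator (α := Fˣ)
  have hS : (q + 1) * (q - 1) = q ^ 2 - 1 := by
    obtain ⟨m, rfl⟩ : ∃ m, q = m + 1 := ⟨q - 1, by omega⟩
    rw [Nat.add_sub_cancel]
    apply Nat.eq_sub_of_add_eq
    ring
  have hord : orderOf g = (q + 1) * (q - 1) := by
    rw [orderOf_eq_card_of_forall_mem_zpowers hg, Nat.card_units, Nat.card_eq_fintype_card, hF, hS]
  obtain ⟨a, ha⟩ := (mem_powers_iff_mem_zpowers.2 (hg (Units.mk0 d hd0)) : Units.mk0 d hd0 ∈ Submonoid.powers g)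
  have ha' : g ^ a = Units.mk0 d hd0 := ha
  have h1 : (Units.mk0 d hd0) ^ (q - 1) = 1 := by
    apply Units.ext
    rw [Units.val_pow_eq_pow_val, Units.val_mk0, Units.val_one]
    have h2 : d ^ (q - 1) * d = 1 * d := by
      rw [← pow_succ, Nat.sub_add_cancel hq.le, ← frob_apply hF, hd, one_mul]
    exact mul_right_cancel₀ hd0 h2
  rw [← ha', ← pow_mul] at h1
  have h2 := orderOf_dvd_of_pow_eq_one h1
  rw [hord] at h2
  obtain ⟨b, hb⟩ := Nat.dvd_of_mul_dvd_mul_right (by omega) h2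
  refine ⟨((g ^ b : Fˣ) : F), Units.ne_zero _, ?_⟩
  have h3 : (g ^ b) ^ (q + 1) = Units.mk0 d hd0 := by
    rw [← pow_mul, ← ha', hb, mul_comm]
  have := congrArg (Units.val) h3
  rw [Units.val_pow_eq_pow_val, Units.val_mk0, pow_succ'] at this
  rw [frob_apply]
  exact this

end gen

namespace A7

variable {F : Type u} [Field F]

section facts

variable {P : Subgroup (GL (Fin 10) F)} {e : A ≃* P} {v : Fin 10 → F} {ξ : (Fin 10 → F) →ₗ[F] F} {lam : F}

theorem ne_28 (h2 : (2 : F) ≠ 0) (h7 : (7 : F) ≠ 0) : (28 : F) ≠ 0 := by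
  have : (28 : F) = 2 * 2 * 7 := by norm_num
  rw [this]; exact mul_ne_zero (mul_ne_zero h2 h2) h7

theorem lam_ne (h : Sph (rp e) v ξ lam) (h7 : (7 : F) ≠ 0) : -lam ≠ 0 := by
  intro h0
  have h1 := h.sq
  have h2 : lam = 0 := neg_eq_zero.1 h0
  rw [h2] at h1
  apply h7
  linear_combination h1

theorem Phi_sym (r : F) (hr : r * r = ((-7 : ℤ) : F)) (u : Fin 10 → F) : (Phi (rp e) ξ r hr u)ᵀ = Phi (rp e) ξ r hr u := by
  rw [Phi_apply, Matrix.transpose_sum]
  refine Finset.sum_congr rfl fun t _ => ?_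
  rw [Matrix.transpose_smul, MF_transpose]
  congr 2
  funext i j
  exact s_sym t j i

theorem Phi_inj (h : Sph (rp e) v ξ lam) (h7 : (7 : F) ≠ 0)
    (hP : ∀ g : A, ∃ G : GL (Fin 4) F, ∀ u, Phi (rp e) ξ (-lam) h.lam_mul (rp e g u) =
      (G : Matrix (Fin 4) (Fin 4) F) * Phi (rp e) ξ (-lam) h.lam_mul u * (G : Matrix (Fin 4) (Fin 4) F)ᵀ) :
    Function.Injective (Phi (rp e) ξ (-lam) h.lam_mul) := by
  rw [← LinearMap.ker_eq_bot]
  rcases h.irr.irr (LinearMap.ker (Phi (rp e) ξ (-lam) h.lam_mul)) (by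
    intro g u hu
    obtain ⟨G, hG⟩ := hP g
    rw [LinearMap.mem_ker] at hu ⊢
    rw [hG, hu, Matrix.mul_zero, Matrix.zero_mul]) with h1 | h1
  · exact h1
  · exfalso
    have h2 := h.Phi_v
    have h3 : Phi (rp e) ξ (-lam) h.lam_mul v = 0 := by
      rw [← LinearMap.mem_ker, h1]; trivial
    rw [h3, Matrix.zero_apply, mul_zero] at h2
    have h4 : (56 : F) = 2 * 28 := by norm_num
    rw [h4] at h2
    exact mul_ne_zero h.irr.two (ne_28 h.irr.two h7) h2.symm

theorem mdl (h : Sph (rp e) v ξ lam) (h7 : (7 : F) ≠ 0)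
    (hP : ∀ g : A, ∃ G : GL (Fin 4) F, ∀ u, Phi (rp e) ξ (-lam) h.lam_mul (rp e g u) =
      (G : Matrix (Fin 4) (Fin 4) F) * Phi (rp e) ξ (-lam) h.lam_mul u * (G : Matrix (Fin 4) (Fin 4) F)ᵀ) :
    Mdl (Phi (rp e) ξ (-lam) h.lam_mul) where
  inj := Phi_inj h h7 hP
  cl := by
    intro G u
    apply sym_surj (Phi_inj h h7 hP) (Phi_sym _ _)
    rw [Matrix.transpose_mul, Matrix.transpose_mul, Matrix.transpose_transpose, Phi_sym, Matrix.mul_assoc]

theorem scal (h : Sph (rp e) v ξ lam) (h7 : (7 : F) ≠ 0)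
    (hP : ∀ g : A, ∃ G : GL (Fin 4) F, ∀ u, Phi (rp e) ξ (-lam) h.lam_mul (rp e g u) =
      (G : Matrix (Fin 4) (Fin 4) F) * Phi (rp e) ξ (-lam) h.lam_mul u * (G : Matrix (Fin 4) (Fin 4) F)ᵀ)
    (G : GL (Fin 4) F) (c : F) (hG : ∀ v, (G : Matrix (Fin 4) (Fin 4) F) * Phi (rp e) ξ (-lam) h.lam_mul v *
      (G : Matrix (Fin 4) (Fin 4) F)ᵀ = c • Phi (rp e) ξ (-lam) h.lam_mul v) : G ∈ scalars (Fin 4) F := by
  apply sym_scalar (c := c)
  intro X hX
  obtain ⟨u, rfl⟩ := sym_surj (Phi_inj h h7 hP) (Phi_sym _ _) hX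
  exact hG u

end facts

theorem card_aut {P : Subgroup (GL (Fin 10) F)} (e : A ≃* P) : Nat.card (MulAut P) = 5040 := by
  rw [← Nat.card_congr (MulAut.congr e).toEquiv,
    ← Nat.card_congr (Equiv.ofBijective _ (S2119.result 7 (by norm_num) (by norm_num))),
    Nat.card_eq_fintype_card, Fintype.card_perm, Fintype.card_fin]
  rfl

theorem card_scalars_le {ι : Type} [Fintype ι] [DecidableEq ι] [Fintype F] :
    Nat.card (scalars ι F) ≤ Fintype.card F - 1 := by
  classical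
  have h1 : Nat.card (scalars ι F) ≤ Nat.card Fˣ :=
    Nat.card_le_card_of_surjective _ (MonoidHom.rangeRestrict_surjective (Units.map
      (Matrix.scalar ι : F →+* Matrix ι ι F).toMonoidHom))
  rwa [Nat.card_units, Nat.card_eq_fintype_card (α := F)] at h1

/-- **`A₇` is not maximal in `SL₁₀`.** -/
theorem kill_sl [Fintype F] {H P : Subgroup (GL (Fin 10) F)} (hcore : IsResidualCore H P) (e : A ≃* P)
    (h2 : (2 : F) ≠ 0) (h7 : (7 : F) ≠ 0) : ¬ IsMaximalIn (specialLinear (Fin 10) F) H := by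
  obtain ⟨v, ξ, lam, h⟩ := (rp_irr e h2 hcore.absIrred).exists_sph
  have hP : ∀ g : A, ∃ G : GL (Fin 4) F, ∀ u, Phi (rp e) ξ (-lam) h.lam_mul (rp e g u) =
      (G : Matrix (Fin 4) (Fin 4) F) * Phi (rp e) ξ (-lam) h.lam_mul u * (G : Matrix (Fin 4) (Fin 4) F)ᵀ := by
    intro g
    obtain ⟨G, -, hG⟩ := exists_G h h.lam_mul (lam_ne h h7) h2 (ne_28 h2 h7) ⊤ trivial trivial g
    exact ⟨G, hG⟩
  have hsur : ∀ X : Matrix (Fin 4) (Fin 4) F, Xᵀ = X → ∃ u, Phi (rp e) ξ (-lam) h.lam_mul u = X :=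
    fun X hX => sym_surj (Phi_inj h h7 hP) (Phi_sym _ _) hX
  refine not_max_sl (Φ := Phi (rp e) ξ (-lam) h.lam_mul) (r := 1) (mdl h h7 hP) (scal h h7 hP) hcore ?_ ?_ ?_ ?_
  · intro g hg
    obtain ⟨G, hG⟩ := hP (e.symm ⟨g, hg⟩)
    refine ⟨G, fun u => ?_⟩
    have h1 := hG u
    rwa [rp_apply, MulEquiv.apply_symm_apply] at h1
  · intro t ht
    refine eq_mul e h h7 hcore.absIrred t fun x => ⟨fun hx => hcore.normal t ht x hx, fun hx => ?_⟩
    have h1 := hcore.normal t⁻¹ (inv_mem ht) _ hx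
    have h3 : t⁻¹ * (t * x * t⁻¹) * t⁻¹⁻¹ = x := by group
    rwa [h3] at h1
  · have hq : 3 ≤ Fintype.card F := by
      by_contra hlt
      have h1 : 1 < Fintype.card F := Fintype.one_lt_card
      have h3 : Fintype.card F = 2 := by omega
      have h4 : ((Fintype.card F : ℕ) : F) = 0 := FiniteField.cast_card_eq_zero F
      rw [h3] at h4
      exact h2 (by exact_mod_cast h4)
    rw [card_aut e, Matrix.card_GL_field]
    set q := Fintype.card F with hqdef
    have h1 : Nat.card (scalars (Fin 4) F) ≤ q - 1 := card_scalars_le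
    obtain ⟨a, ha⟩ : ∃ a, a = q ^ 3 * (q - 1) := ⟨_, rfl⟩
    have ha1 : 27 * (q - 1) ≤ a := by
      rw [ha]
      exact Nat.mul_le_mul_right _ (Nat.pow_le_pow_left hq 3)
    have ha2 : ∀ i : Fin 4, a ≤ q ^ 4 - q ^ (i : ℕ) := by
      intro i
      have h5 : q ^ (i : ℕ) ≤ q ^ 3 := Nat.pow_le_pow_right (by omega) (by omega)
      have h6 : a = q ^ 4 - q ^ 3 := by
        rw [ha, Nat.mul_sub, mul_one]; rfl
      omega
    have h3 : a ^ 4 ≤ ∏ i : Fin 4, (q ^ 4 - q ^ (i : ℕ)) := by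
      have := Finset.prod_le_prod' (s := Finset.univ) (fun i _ => ha2 i)
      rwa [Finset.prod_const, Finset.card_univ, Fintype.card_fin] at this
    have h4 : 54 ≤ a := by omega
    have h5 : 54 ^ 3 * a ≤ a ^ 4 := by
      have : 54 ^ 3 * a ≤ a ^ 3 * a := Nat.mul_le_mul_right _ (Nat.pow_le_pow_left h4 3)
      calc 54 ^ 3 * a ≤ a ^ 3 * a := this
        _ = a ^ 4 := by ring
    have h6 : 5040 * Nat.card (scalars (Fin 4) F) ≤ 5040 * (q - 1) := Nat.mul_le_mul_left _ h1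
    have h7' : 5040 * (q - 1) < 54 ^ 3 * a := by omega
    omega
  · obtain ⟨d, hd⟩ := hsur (Matrix.single 0 0 1) (by rw [Matrix.transpose_single])
    obtain ⟨x, hx⟩ := hsur (Matrix.single 0 0 1 + Matrix.single 1 1 1) (by
      rw [Matrix.transpose_add, Matrix.transpose_single, Matrix.transpose_single])
    refine ⟨d, x, ?_, ?_, ?_, ?_⟩
    · rintro rfl
      rw [map_zero] at hd
      have := congrFun (congrFun hd 0) 0
      simp at this
    · rintro rfl
      rw [map_zero] at hx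
      have := congrFun (congrFun hx 0) 0
      simp at this
    · rw [hd, show (Matrix.single 0 0 1 : Matrix (Fin 4) (Fin 4) F) =
        Matrix.vecMulVec (Pi.single 0 1) (Pi.single 0 1) by
          rw [Matrix.single_eq_single_vecMulVec_single]]
      exact Matrix.rank_vecMulVec_le _ _
    · rw [hx]
      apply two_le_rank ![0, 1] ![0, 1]
      rw [Matrix.det_fin_two]
      simp

section unitary

variable [Fintype F] {q : ℕ} {P : Subgroup (GL (Fin 10) F)} {e : A ≃* P} {v : Fin 10 → F}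
  {ξ : (Fin 10 → F) →ₗ[F] F} {lam : F}

theorem frob_lam (hF : Fintype.card F = q ^ 2) (h : Sph (rp e) v ξ lam) (hPU : P ≤ Cfsg.GU 10 F q) :
    frob hF lam = -lam := by
  have hinv : ∀ (g : A) x y, hermForm 10 F q (rp e g x) (rp e g y) = hermForm 10 F q x y := by
    intro g x y
    rw [rp_apply, rp_apply]
    exact (mem_GU_iff _).1 (hPU (e g).2) x y
  have hadj : ∀ (g g' : A) (_ : g * g' = 1) x y, hermForm 10 F q (rp e g x) y = hermForm 10 F q x (rp e g' y) := by
    intro g g' hg x y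
    rw [← hinv g x, act, hg, act1]
  have a1 := hadj s1 s1 (by decide)
  have a2 := hadj s2 s2 (by decide)
  have a3' := hadj s3 s3 (by decide)
  have hes : ∀ x y, hermForm 10 F q (es (rp e) x) y = hermForm 10 F q x (es (rp e) y) := by
    intro x y
    rw [es, es, herm_add_left hF, herm_add_left hF, herm_add_left hF, herm_add_right hF, herm_add_right hF,
      herm_add_right hF, a1, a2, a3']
  have hv4 : es (rp e) v = (4 : F) • v := by
    have h1 := h.nfv 1 0 0 0
    have h2 := h.nfv 2 0 0 0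
    have h3 := h.nfv 3 0 0 0
    rw [show nf 1 0 0 0 = s1 by decide, show (-1 : F) ^ ((0 : Fin 2) : ℕ) = 1 from pow_zero _, one_smul] at h1
    rw [show nf 2 0 0 0 = s2 by decide, show (-1 : F) ^ ((0 : Fin 2) : ℕ) = 1 from pow_zero _, one_smul] at h2
    rw [show nf 3 0 0 0 = s3 by decide, show (-1 : F) ^ ((0 : Fin 2) : ℕ) = 1 from pow_zero _, one_smul] at h3
    rw [es, h1, h2, h3, show (4 : F) = 1 + 1 + 1 + 1 by norm_num, add_smul, add_smul, add_smul, one_smul]
  have f4 : frob hF (4 : F) = 4 := map_ofNat _ _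
  have key : ∀ u κ, es (rp e) u = κ • v → 4 * hermForm 10 F q u v = κ * hermForm 10 F q v v := by
    intro u κ hκ
    rw [← herm_smul_left hF κ v v, ← hκ, hes, hv4, herm_smul_right hF, f4]
  set n := hermForm 10 F q v v with hn
  have hn0 : n ≠ 0 := by
    intro h0
    apply h.good.1
    have h1 : ∀ u, hermForm 10 F q v u = 0 := by
      intro u
      obtain ⟨κ, hκ⟩ := h.good.es_eq u
      have h2 := key u κ hκ
      rw [h0, mul_zero] at h2
      rw [← frob_herm hF u v, (mul_eq_zero.1 h2).resolve_left h.four, map_zero]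
    funext j
    rw [← herm_single hF v j, h1]
    rfl
  have fn : frob hF n = n := frob_herm hF v v
  have e1 := key _ lam h.hlam
  set g0 : A := e2 0 5 5 1 * e2 1 4 2 6 with hg0
  have e2' : frob hF (hermForm 10 F q (rp e g0 v) v) = -hermForm 10 F q (rp e g0 v) v := by
    rw [frob_herm hF, ← hadj g0⁻¹ g0 (inv_mul_cancel _), h.good.rel1 (g := g0⁻¹) (g' := g0) 0 0 0 (by rw [hg0]; decide),
      ← neg_one_smul F, herm_smul_left hF, neg_one_mul]
  have e3 := congrArg (frob hF) e1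
  rw [RingHom.map_mul (frob hF), RingHom.map_mul (frob hF), f4, fn, e2'] at e3
  have e4 : (frob hF lam + lam) * n = 0 := by linear_combination -e3 - e1
  exact eq_neg_of_add_eq_zero_left ((mul_eq_zero.1 e4).resolve_right hn0)

theorem gG_mem (hF : Fintype.card F = q ^ 2) {r : F} (hfr : frob hF r = -r)
    (hr : r * r = ((-7 : ℤ) : F)) (h0 : r ≠ 0) (h2 : (2 : F) ≠ 0) (h28 : (28 : F) ≠ 0)
    {M : Fin 4 → Fin 4 → ℤ√(-7)}
    (hM : ∀ i j : Fin 4, mul4 M (fun a b => star (M b a)) i j = if i = j then ⟨28, 0⟩ else 0)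
    (hM' : ∀ i j : Fin 4, mul4 (fun a b => star (M b a)) M i j = if i = j then ⟨28, 0⟩ else 0) :
    gG r hr h0 h2 h28 M hM hM' ∈ Cfsg.GU 4 F q := by
  rw [mem_GU_iff]
  apply (mul_map_eq_one_iff hF _).2
  change ((2 * r)⁻¹ • MF r hr M)ᵀ * ((2 * r)⁻¹ • MF r hr M).map (frob hF) = 1
  have h3 : ((2 * r)⁻¹ • MF r hr M).map (frob hF) = (-(2 * r)⁻¹) • (MF r hr (fun a b => star (M b a)))ᵀ := by
    ext i j
    rw [Matrix.map_apply, Matrix.smul_apply, Matrix.smul_apply, Matrix.transpose_apply, smul_eq_mul, smul_eq_mul,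
      map_mul, map_inv₀, map_mul, hfr, map_ofNat]
    have h4 : frob hF (MF r hr M i j) = MF r hr (fun a b => star (M b a)) j i := by
      change frob hF (ev r hr (M i j)) = ev r hr (star (M i j))
      obtain ⟨a, b⟩ := M i j
      rw [Zsqrtd.star_mk, ev_apply, ev_apply, map_add, map_mul, map_intCast, map_intCast, hfr]
      push_cast; ring
    rw [h4, mul_neg, inv_neg]
  rw [h3, Matrix.transpose_smul, Matrix.smul_mul, Matrix.mul_smul, ← Matrix.transpose_mul, MF_mul, MF_28 hr hM',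
    Matrix.transpose_smul, Matrix.transpose_one, smul_smul, smul_smul]
  have : (2 * r)⁻¹ * -(2 * r)⁻¹ * 28 = 1 := by
    have h3 : (28 : F) = -((2 * r) * (2 * r)) := by
      have : (2 * r) * (2 * r) = 4 * (r * r) := by ring
      rw [this, hr]; push_cast; ring
    rw [h3]
    field_simp
  rw [this, one_smul]

/-- **`A₇` is not maximal in `SU₁₀`.** -/
theorem kill_su {H : Subgroup (GL (Fin 10) F)} (hF : Fintype.card F = q ^ 2) (hcore : IsResidualCore H P) (e : A ≃* P)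
    (h2 : (2 : F) ≠ 0) (h7 : (7 : F) ≠ 0) : ¬ IsMaximalIn (Cfsg.GU 10 F q ⊓ specialLinear (Fin 10) F) H := by
  intro hmax
  have hPU : P ≤ Cfsg.GU 10 F q := hcore.le.trans (hmax.1.le.trans inf_le_left)
  obtain ⟨v, ξ, lam, h⟩ := (rp_irr e h2 hcore.absIrred).exists_sph
  have hfr : frob hF (-lam) = - -lam := by rw [map_neg, frob_lam hF h hPU]
  have hPG : ∀ g : A, ∃ G ∈ Cfsg.GU 4 F q, ∀ u, Phi (rp e) ξ (-lam) h.lam_mul (rp e g u) =
      (G : Matrix (Fin 4) (Fin 4) F) * Phi (rp e) ξ (-lam) h.lam_mul u * (G : Matrix (Fin 4) (Fin 4) F)ᵀ :=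
    fun g => exists_G h h.lam_mul (lam_ne h h7) h2 (ne_28 h2 h7) _ (gG_mem hF hfr _ _ _ _ _ _)
      (gG_mem hF hfr _ _ _ _ _ _) g
  have hP : ∀ g : A, ∃ G : GL (Fin 4) F, ∀ u, Phi (rp e) ξ (-lam) h.lam_mul (rp e g u) =
      (G : Matrix (Fin 4) (Fin 4) F) * Phi (rp e) ξ (-lam) h.lam_mul u * (G : Matrix (Fin 4) (Fin 4) F)ᵀ := by
    intro g
    obtain ⟨G, -, hG⟩ := hPG g
    exact ⟨G, hG⟩
  have hsur : ∀ X : Matrix (Fin 4) (Fin 4) F, Xᵀ = X → ∃ u, Phi (rp e) ξ (-lam) h.lam_mul u = X :=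
    fun X hX => sym_surj (Phi_inj h h7 hP) (Phi_sym _ _) hX
  refine not_max_su hF (Φ := Phi (rp e) ξ (-lam) h.lam_mul) (r := 1) (mdl h h7 hP) (scal h h7 hP) hcore ?_ ?_ ?_ ?_ hmax
  · intro g hg
    obtain ⟨G, hGU, hG⟩ := hPG (e.symm ⟨g, hg⟩)
    refine ⟨G, hGU, fun u => ?_⟩
    have h1 := hG u
    rwa [rp_apply, MulEquiv.apply_symm_apply] at h1
  · intro t ht
    refine eq_mul e h h7 hcore.absIrred t fun x => ⟨fun hx => hcore.normal t ht x hx, fun hx => ?_⟩
    have h1 := hcore.normal t⁻¹ (inv_mem ht) _ hx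
    have h3 : t⁻¹ * (t * x * t⁻¹) * t⁻¹⁻¹ = x := by group
    rwa [h3] at h1
  · have hq : 3 ≤ q := by
      have hq2 := two_le hF
      by_contra hlt
      have h3 : q = 2 := by omega
      have h4 : ((Fintype.card F : ℕ) : F) = 0 := FiniteField.cast_card_eq_zero F
      rw [hF, h3] at h4
      have h5 : (2 : F) * 2 = 0 := by rw [← h4]; norm_num
      exact mul_ne_zero h2 h2 h5
    rw [card_aut e, S0277.result hF]
    have h1 : Nat.card (scalars (Fin 4) F) ≤ q ^ 2 - 1 := by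
      rw [← hF]; exact card_scalars_le
    have h3 : ∏ i ∈ Finset.range 4, (if Even i then q ^ (i + 1) + 1 else q ^ (i + 1) - 1) =
        (q + 1) * (q ^ 2 - 1) * (q ^ 3 + 1) * (q ^ 4 - 1) := by
      simp only [Finset.prod_range_succ, Nat.even_iff, _root_.Nat.even_iff, _root_.Finset.prod_range_succ, _root_.Finset.range_one, _root_.Finset.prod_singleton, _root_.Nat.zero_mod, ↓ _root_.reduceIte, _root_.zero_add, _root_.pow_one, _root_.Nat.mod_succ, _root_.one_ne_zero, _root_.Nat.reduceAdd, _root_.Nat.mod_self, _root_.Nat.reduceMod]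
    rw [h3]
    have h4 : 5040 * Nat.card (scalars (Fin 4) F) ≤ 5040 * (q ^ 2 - 1) := Nat.mul_le_mul_left _ h1
    refine lt_of_le_of_lt h4 ?_
    have h5 : 3 ^ 6 ≤ q ^ 6 := Nat.pow_le_pow_left hq 6
    have h6 : 3 ^ 2 ≤ q ^ 2 := Nat.pow_le_pow_left hq 2
    have h8 : 3 ^ 3 ≤ q ^ 3 := Nat.pow_le_pow_left hq 3
    have h9 : 3 ^ 4 ≤ q ^ 4 := Nat.pow_le_pow_left hq 4
    have h10 : q ^ (4 * (4 - 1) / 2) = q ^ 6 := rfl
    rw [h10]
    have h11 : 0 < q ^ 2 - 1 := by omega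
    calc 5040 * (q ^ 2 - 1) < (3 ^ 6 * (4 * 28 * 80)) * (q ^ 2 - 1) := Nat.mul_lt_mul_of_pos_right (by norm_num) h11
      _ ≤ (q ^ 6 * ((q + 1) * (q ^ 3 + 1) * (q ^ 4 - 1))) * (q ^ 2 - 1) := by
        apply Nat.mul_le_mul_right
        apply Nat.mul_le_mul h5
        apply Nat.mul_le_mul
        · apply Nat.mul_le_mul <;> omega
        · omega
      _ = q ^ 6 * ((q + 1) * (q ^ 2 - 1) * (q ^ 3 + 1) * (q ^ 4 - 1)) := by ring
  · obtain ⟨α, hα0, hα⟩ := exists_norm hF (d := (-1 : F)) (neg_ne_zero.2 one_ne_zero) (by rw [map_neg, map_one])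
    have hone : frob hF (1 : F) = 1 := map_one _
    obtain ⟨d, hd⟩ := hsur (Matrix.single 0 0 1) (by rw [Matrix.transpose_single])
    set! w : Fin 4 → F := ![1, α, 0, 0] with hw
    obtain ⟨x, hx⟩ := hsur (Matrix.vecMulVec w w) (by
      ext i j; rw [Matrix.transpose_apply, Matrix.vecMulVec_apply, Matrix.vecMulVec_apply, mul_comm])
    refine ⟨d, x, ?_, ?_, ?_, ?_⟩
    · rw [hx]
      simp only [hh, Matrix.vecMulVec_apply, Fin.sum_univ_four, hw]
      simp only [map_mul, _root_.Fin.isValue, _root_.Matrix.cons_val_zero, _root_.mul_one, _root_.map_one, _root_.Matrix.cons_val_one, _root_.one_mul, _root_.Matrix.cons_val, _root_.MulZeroClass.mul_zero, _root_.map_zero, _root_.add_zero, _root_.map_mul, _root_.MulZeroClass.zero_mul]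
      linear_combination (1 + α * frob hF α) * hα
    · rw [hx, hd]
      simp only [hh, Matrix.vecMulVec_apply, Fin.sum_univ_four, hw]
      simp
    · rw [hd, show (Matrix.single 0 0 1 : Matrix (Fin 4) (Fin 4) F) =
        Matrix.vecMulVec (Pi.single 0 1) (Pi.single 0 1) by
          rw [Matrix.single_eq_single_vecMulVec_single]]
      exact Matrix.rank_vecMulVec_le _ _
    · intro c hc
      rw [map_add, map_smul, hd, hx]
      apply two_le_rank ![0, 1] ![0, 1]
      rw [Matrix.det_fin_two]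
      simp only [hw, _root_.Fin.isValue, _root_.Matrix.vecMulVec_cons, _root_.Nat.succ_eq_add_one, _root_.Nat.reduceAdd, _root_.Matrix.smul_cons, _root_.smul_eq_mul, _root_.mul_one, _root_.MulZeroClass.mul_zero, _root_.Matrix.smul_empty, _root_.Matrix.smul_of, _root_.Matrix.submatrix_apply, _root_.Matrix.cons_val_zero, _root_.Matrix.add_apply, _root_.Matrix.single_apply_same, _root_.Matrix.of_apply, _root_.Pi.smul_apply, _root_.one_mul, _root_.Matrix.cons_val_one, _root_.Matrix.cons_val_fin_one, _root_.zero_ne_one, _root_.and_self, _root_.not_false_eq_true, _root_.Matrix.single_apply_of_ne, _root_.zero_add, _root_.and_false, _root_.and_true, _root_.ne_eq]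
      intro h0
      apply hc
      have h5 : c * α ^ 2 = 0 := by linear_combination h0
      exact (mul_eq_zero.1 h5).resolve_right (pow_ne_zero 2 hα0)

end unitary

end A7

end Cfsg.Agent.H923.Ten
end

-- part: H840/M11/Idl
section
/-!
# Traces which are combinations of traces of other representations
-/

set_option autoImplicit false
set_option linter.unusedSectionVars false

namespace Cfsg.Agent.H840.M11

open scoped Matrix

/-- a matrix representation with a coefficient -/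
structure Rp (G : Type*) [Group G] (F : Type*) [Field F] where
  /-- dimension -/
  n : ℕ
  /-- the representation -/
  ρ : G →* Matrix (Fin n) (Fin n) F
  /-- the coefficient -/
  c : F

section

variable {G : Type*} [Group G] {F : Type*} [Field F]

/-- the homomorphism of algebras -/
noncomputable def aa {n : ℕ} (ρ : G →* Matrix (Fin n) (Fin n) F) : MonoidAlgebra F G →ₐ[F] Matrix (Fin n) (Fin n) F :=
  MonoidAlgebra.lift F (Matrix (Fin n) (Fin n) F) G ρ

theorem aa_of {n : ℕ} (ρ : G →* Matrix (Fin n) (Fin n) F) (g : G) : aa ρ (MonoidAlgebra.of F G g) = ρ g :=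
  MonoidAlgebra.lift_of _ _

theorem aa_surj {n : ℕ} {ρ : G →* Matrix (Fin n) (Fin n) F} (h : Submodule.span F (Set.range ρ) = ⊤) :
    Function.Surjective (aa ρ) := by
  have : LinearMap.range (aa ρ).toLinearMap = ⊤ := by
    rw [eq_top_iff, ← h, Submodule.span_le]
    rintro _ ⟨g, rfl⟩
    exact ⟨MonoidAlgebra.of F G g, aa_of ρ g⟩
  exact LinearMap.range_eq_top.1 this

theorem prime_mat {n : ℕ} {A B : Matrix (Fin n) (Fin n) F} (hA : A ≠ 0) (hB : B ≠ 0) : ∃ Y, A * Y * B ≠ 0 := by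
  obtain ⟨i, j, hij⟩ : ∃ i j, A i j ≠ 0 := by
    by_contra h
    push Not at h
    exact hA (Matrix.ext h)
  obtain ⟨k, l, hkl⟩ : ∃ i j, B i j ≠ 0 := by
    by_contra h
    push Not at h
    exact hB (Matrix.ext h)
  refine ⟨Matrix.single j k 1, fun h => ?_⟩
  have h1 := congrFun (congrFun h i) l
  have h2 : (A * Matrix.single j k 1 * B : Matrix (Fin n) (Fin n) F) i l = A i j * B k l := by
    rw [Matrix.mul_apply, Finset.sum_eq_single k]
    · rw [Matrix.mul_single_apply_same, mul_one]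
    · intro b _ hb
      rw [Matrix.mul_single_apply_of_ne _ _ _ _ _ hb, zero_mul]
    · intro h; exact absurd (Finset.mem_univ k) h
  rw [h2] at h1
  rcases mul_eq_zero.1 h1 with h3 | h3
  · exact hij h3
  · exact hkl h3

theorem exists_z {n : ℕ} {ρ : G →* Matrix (Fin n) (Fin n) F} (hn : 0 < n) (hs : Function.Surjective (aa ρ)) :
    ∀ L : List (Rp G F), (∀ r ∈ L, ∃ x, aa r.ρ x = 0 ∧ aa ρ x ≠ 0) → ∃ z, aa ρ z ≠ 0 ∧ ∀ r ∈ L, aa r.ρ z = 0 := by
  intro L
  induction L with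
  | nil =>
    intro _
    refine ⟨1, ?_, fun r hr => absurd hr (by simp)⟩
    rw [map_one]
    have : Nonempty (Fin n) := ⟨⟨0, hn⟩⟩
    exact one_ne_zero
  | cons r L ih =>
    intro h
    obtain ⟨z, hz, hz'⟩ := ih fun r' hr' => h r' (List.mem_cons_of_mem _ hr')
    obtain ⟨x, hx, hx'⟩ := h r List.mem_cons_self
    obtain ⟨Y, hY⟩ := prime_mat hz hx'
    obtain ⟨y, rfl⟩ := hs Y
    refine ⟨z * y * x, by rw [map_mul, map_mul]; exact hY, ?_⟩
    intro r' hr'
    rw [map_mul, map_mul]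
    rcases List.mem_cons.1 hr' with rfl | h1
    · rw [hx, mul_zero]
    · rw [hz' r' h1, zero_mul, zero_mul]

/-- one of the kernels is contained in the kernel -/
theorem exists_ker {n : ℕ} {ρ : G →* Matrix (Fin n) (Fin n) F} (hn : 0 < n)
    (hsp : Submodule.span F (Set.range ρ) = ⊤) (L : List (Rp G F))
    (h : ∀ g, (ρ g).trace = (L.map fun r => r.c * (r.ρ g).trace).sum) :
    ∃ r ∈ L, ∀ x, aa r.ρ x = 0 → aa ρ x = 0 := by
  by_contra hcon
  push Not at hcon
  obtain ⟨z, hz, hz'⟩ := exists_z hn (aa_surj hsp) L hcon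
  apply hz
  have h1 : ∀ x : MonoidAlgebra F G, (aa ρ x).trace = (L.map fun r => r.c * (aa r.ρ x).trace).sum := by
    intro x
    induction x using MonoidAlgebra.induction_on with
    | of g => simp only [aa_of, h]
    | add x y hx hy =>
      simp only [map_add, Matrix.trace_add, mul_add, hx, hy]
      rw [List.sum_map_add]
    | smul c x hx =>
      simp only [map_smul, Matrix.trace_smul, hx, smul_eq_mul]
      rw [← List.sum_map_mul_left]
      congr 1
      exact List.map_congr_left fun r _ => by ring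
  apply Cfsg.Agent.H906.eq_zero_of_trace_mul hsp
  rintro _ ⟨g, rfl⟩
  rw [← aa_of ρ g, ← map_mul, h1]
  have h2 : ∀ r ∈ L, r.c * (aa r.ρ (z * MonoidAlgebra.of F G g)).trace = 0 := by
    intro r hr
    rw [map_mul, hz' r hr, zero_mul, Matrix.trace_zero, mul_zero]
  rw [List.map_congr_left (g := fun _ => (0 : F)) h2]
  simp

variable [Finite G]

theorem finrank_mat (n : ℕ) : Module.finrank F (Matrix (Fin n) (Fin n) F) = n * n := by
  rw [Module.finrank_matrix, Fintype.card_fin, Module.finrank_self, mul_one]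

theorem dim_le_of_ker {n m : ℕ} {ρ : G →* Matrix (Fin n) (Fin n) F} {ρ' : G →* Matrix (Fin m) (Fin m) F}
    (hsp : Submodule.span F (Set.range ρ) = ⊤) (h : ∀ x, aa ρ' x = 0 → aa ρ x = 0) :
    n * n ≤ Module.finrank F (LinearMap.range (aa ρ').toLinearMap) := by
  have hfin : Module.Finite F (MonoidAlgebra F G) := inferInstance
  have h1 := LinearMap.finrank_range_add_finrank_ker (aa ρ).toLinearMap
  have h2 := LinearMap.finrank_range_add_finrank_ker (aa ρ').toLinearMap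
  have h3 : Module.finrank F (LinearMap.range (aa ρ).toLinearMap) = n * n := by
    rw [LinearMap.range_eq_top.2 (show Function.Surjective (aa ρ).toLinearMap from aa_surj hsp), finrank_top, finrank_mat]
  have h4 : Module.finrank F (LinearMap.ker (aa ρ').toLinearMap) ≤ Module.finrank F (LinearMap.ker (aa ρ).toLinearMap) :=
    Submodule.finrank_mono fun x hx => h x hx
  omega

/-- the dimension is not larger -/
theorem le_of_ker {n m : ℕ} {ρ : G →* Matrix (Fin n) (Fin n) F} {ρ' : G →* Matrix (Fin m) (Fin m) F}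
    (hsp : Submodule.span F (Set.range ρ) = ⊤) (h : ∀ x, aa ρ' x = 0 → aa ρ x = 0) : n ≤ m := by
  have h1 := dim_le_of_ker hsp h
  have h2 := Submodule.finrank_le (LinearMap.range (aa ρ').toLinearMap)
  rw [finrank_mat] at h2
  exact Nat.mul_self_le_mul_self_iff.1 (h1.trans h2)

/-- equal dimensions : the traces agree -/
theorem trace_of_ker {n : ℕ} {ρ ρ' : G →* Matrix (Fin n) (Fin n) F}
    (hsp : Submodule.span F (Set.range ρ) = ⊤) (h : ∀ x, aa ρ' x = 0 → aa ρ x = 0) (g : G) :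
    (ρ g).trace = (ρ' g).trace := by
  classical
  have h1 := dim_le_of_ker hsp h
  have hs' : Function.Surjective (aa ρ') := by
    have : LinearMap.range (aa ρ').toLinearMap = ⊤ := by
      apply Submodule.eq_top_of_finrank_eq
      apply le_antisymm (Submodule.finrank_le _)
      rw [finrank_mat]
      exact h1
    exact LinearMap.range_eq_top.1 this
  have heq : ∀ x y, aa ρ' x = aa ρ' y → aa ρ x = aa ρ y := by
    intro x y hxy
    have := h (x - y) (by rw [map_sub, hxy, sub_self])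
    rwa [map_sub, sub_eq_zero] at this
  let s : Matrix (Fin n) (Fin n) F → MonoidAlgebra F G := Function.surjInv hs'
  have hs : ∀ X, aa ρ' (s X) = X := Function.surjInv_eq hs'
  let φ : Matrix (Fin n) (Fin n) F →ₐ[F] Matrix (Fin n) (Fin n) F :=
    { toFun := fun X => aa ρ (s X)
      map_one' := by
        have := heq (s 1) 1 (by rw [hs, map_one])
        rw [this, map_one]
      map_mul' := fun X Y => by
        have := heq (s (X * Y)) (s X * s Y) (by rw [hs, map_mul, hs, hs])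
        rw [this, map_mul]
      map_zero' := by
        have := heq (s 0) 0 (by rw [hs, map_zero])
        rw [this, map_zero]
      map_add' := fun X Y => by
        have := heq (s (X + Y)) (s X + s Y) (by rw [hs, map_add, hs, hs])
        rw [this, map_add]
      commutes' := fun c => by
        have := heq (s (algebraMap F _ c)) (algebraMap F _ c) (by rw [hs, AlgHom.commutes])
        rw [this, AlgHom.commutes] }
  have hφ : ∀ x, φ (aa ρ' x) = aa ρ x := fun x => heq _ _ (hs _)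
  have hφs : Function.Surjective φ := by
    intro Y
    obtain ⟨y, rfl⟩ := aa_surj hsp Y
    exact ⟨aa ρ' y, hφ y⟩
  have hφi : Function.Injective φ := (LinearMap.injective_iff_surjective (f := φ.toLinearMap)).2 hφs
  obtain ⟨B, hB⟩ := Cfsg.Agent.H919.exists_conj_of_algEquiv (AlgEquiv.ofBijective φ ⟨hφi, hφs⟩)
  rw [← aa_of ρ g, ← aa_of ρ' g, ← hφ]
  have h3 : φ (aa ρ' (MonoidAlgebra.of F G g)) = _ := hB _
  rw [h3, Matrix.trace_mul_comm, ← Matrix.mul_assoc, ← Units.val_mul, inv_mul_cancel, Units.val_one, Matrix.one_mul]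

end

end Cfsg.Agent.H840.M11
end
end

-- part: H923/Ten/Asm
section
prune_inst 0x4040000040000000000000102000002000002000000000800000000100800004800080040010000a000001000100000000000000000000000000000000000000000000a0080100400010000080000000000000000000000000000000000000000000000
set_option linter.all false
open scoped Cfsg.Agent.FastGrp

-- part: H923/Ten/AsmDC
section
/-!
# Dimension ten: defining characteristic (helper923)
-/

set_option autoImplicit false
set_option linter.unusedSectionVars false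
set_option linter.style.haveILetI false

namespace Cfsg.Agent.H923.Ten.Asm

open Cfsg Cfsg.Geo Matrix
open H915.LD (Core Soc tr SD Fr Cj)

universe u

variable {F : Type u} [Field F] [Fintype F] {P : Subgroup (GL (Fin 10) F)} (p : ℕ) [hp : Fact p.Prime] [hFp : CharP F p]

/-- the possibilities in the defining characteristic -/
def Dc10 (p : ℕ) (P : Subgroup (GL (Fin 10) F)) : Prop :=
  P = specialLinear (Fin 10) F ∨
  (∃ (K : Type) (_ : Field K) (_ : Fintype K) (m : ℕ), Nonempty (Soc P ≃* ProjectiveSpecialLinearGroup (Fin m) K) ∧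
    Nat.card K = Nat.card F ∧ (∀ k, ¬ Cj P (p ^ k)) ∧ ((m = 3 ∧ 5 ≤ p) ∨ (m = 4 ∧ 3 ≤ p) ∨ m = 5)) ∨
  (∃ (K : Type) (_ : Field K) (_ : Fintype K) (_ : CharP K p) (N q : ℕ),
    Fintype.card K = q ^ 2 ∧ 3 ≤ N ∧ N ≤ 11 ∧ ¬ (N = 3 ∧ q = 2) ∧ Nonempty (Soc P ≃* PSU N K q) ∧ Cj P q)

include hFp hp in
theorem dc (hC : Core P) (hsd : ¬ SD P) (h : IsLieTypeChar p (Soc P)) : Dc10 p P := by
  have hs := hC.simple
  have h10 : Fintype.card (Fin 10) = 10 := by simp
  haveI : Nonempty (Fin 10) := ⟨0⟩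
  have h2p := hp.out.two_le
  rcases H218.SdDC.sd_dc p hC (by simp) h with h1 | ⟨K, i1, i2, i3, l, hl, h4, ⟨e⟩⟩ |
    ⟨K, i1, i2, i3, N, q, hK, hN, hN9, h32, ⟨e⟩⟩ | ⟨-, h2, h3⟩
  · exact (hsd h1).elim
  · rcases (show l = 1 ∨ 2 ≤ l by omega) with rfl | hl2
    · exact (hsd fun g hg => H905.Md.psl_two p hC.absIrred hC.perfect (h4 rfl) e hg).elim
    · have h5 := H905.Md.psl_rank p hC.absIrred hC.perfect hl h4 e
      rw [h10] at h5
      rcases (show l + 1 = 10 ∨ l + 1 < 10 by omega) with h6 | h6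
      · exact Or.inl (H905.Md.psl_eq p hC.absIrred hC.perfect hl h4 e hC.no_subfield h6.symm).2
      · have h7 := H887.DS.dim_cases p hC (m := l + 1) (by omega) (by rw [h10]; exact h6) (by rw [h10]; norm_num) e
        rw [h10] at h7
        have h8 : l = 2 ∨ l = 3 ∨ l = 4 := by omega
        rcases h8 with rfl | rfl | rfl
        · rcases H887.DS.field3 p hC e (Or.inr h10) with h9 | ⟨-, h9, h10', h11⟩
          · exact (hsd h9).elim
          · exact Or.inr (Or.inl ⟨K, i1, i2, 3, ⟨e⟩, h10', h11, Or.inl ⟨rfl, h9 h10⟩⟩)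
        · obtain ⟨h9, h10', h11⟩ := H887.DS.field4 p hC e h10
          exact Or.inr (Or.inl ⟨K, i1, i2, 4, ⟨e⟩, h10', h11, Or.inr (Or.inl ⟨rfl, h9⟩)⟩)
        · obtain ⟨h10', h11⟩ := H887.DS.ten5 p hC e h10
          exact Or.inr (Or.inl ⟨K, i1, i2, 5, ⟨e⟩, h10', h11, Or.inr (Or.inr rfl)⟩)
  · rw [h10] at hN9
    refine Or.inr (Or.inr ⟨K, i1, i2, i3, N, q, hK, hN, by omega, h32, ⟨e⟩, fun g hg => ?_⟩)
    exact ((H905.Md.psu_both p hC.absIrred hC.perfect hN hK h32 e hg).2).symm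
  · have h4 := H927.LDTwF4.card_le_iso h2 hC.perfect h3
    rw [h10] at h4
    omega

end Cfsg.Agent.H923.Ten.Asm
end

-- part: H923/Ten/A7Ten
section
/-!
# Cores with socle `A₇` in dimension ten (helper923)
-/

set_option autoImplicit false
set_option linter.unusedSectionVars false

namespace Cfsg.Agent.H923.Ten.A7

open Module Matrix Cfsg Cfsg.Geo
open Cfsg.Agent.LieClassical.GUOrder Cfsg.Agent.H915.LD

universe u

variable {F : Type u} [Field F] [Fintype F]

theorem exists_equiv (p : ℕ) [Fact p.Prime] [CharP F p] {P : Subgroup (GL (Fin 10) F)} (hC : Core P) (hSD : ¬ SD P)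
    (e : Soc P ≃* alternatingGroup (Fin 7)) : (2 : F) ≠ 0 ∧ (7 : F) ≠ 0 ∧ Nonempty (A ≃* P) := by
  have hp : p.Prime := Fact.out
  obtain ⟨h1, h7, -⟩ := (H637.A7Main.coprime_three p hC e (by rw [Fintype.card_fin]; norm_num)).resolve_left hSD
  have h2 : p ≠ 2 := by
    rcases h1 with h1 | h1
    · rw [Fintype.card_fin] at h1; omega
    · exact h1.2
  have n2 : (2 : F) ≠ 0 := by
    intro h0
    have h3 := (CharP.cast_eq_zero_iff F p 2).1 (by exact_mod_cast h0)
    exact h2 ((Nat.prime_dvd_prime_iff_eq hp Nat.prime_two).1 h3)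
  have n7 : (7 : F) ≠ 0 := by
    intro h0
    have h3 := (CharP.cast_eq_zero_iff F p 7).1 (by exact_mod_cast h0)
    exact h7 ((Nat.prime_dvd_prime_iff_eq hp (by norm_num)).1 h3)
  refine ⟨n2, n7, ?_⟩
  have hZ : ∀ g ∈ P, g ∈ scalars (Fin 10) F → g * g = 1 := by
    intro g hg hs
    have h1 := hC.card_scalars_dvd e (S2116.result 7 (Or.inr rfl))
    rw [show Nat.card (Multiplicative (ZMod 6)) = 6 from Nat.card_zmod 6] at h1
    have hz : (⟨g, hg⟩ : P) ∈ (scalars (Fin 10) F).subgroupOf P := hs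
    have h2 : (⟨g, hg⟩ : P) ^ 6 = 1 := by
      have h4 : (⟨⟨g, hg⟩, hz⟩ : (scalars (Fin 10) F).subgroupOf P) ^ Nat.card ((scalars (Fin 10) F).subgroupOf P) = 1 :=
        pow_card_eq_one'
      have h5 : (⟨g, hg⟩ : P) ^ Nat.card ((scalars (Fin 10) F).subgroupOf P) = 1 := congrArg Subtype.val h4
      obtain ⟨m, hm⟩ := h1
      rw [hm, pow_mul, h5, one_pow]
    have h4 := hC.pow_card hz
    have h5 : orderOf (⟨g, hg⟩ : P) ∣ 2 := by
      have h6 := Nat.dvd_gcd (orderOf_dvd_of_pow_eq_one h2) (orderOf_dvd_of_pow_eq_one h4)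
      rwa [Fintype.card_fin] at h6
    have h6 := orderOf_dvd_iff_pow_eq_one.1 h5
    rw [pow_two] at h6
    exact congrArg Subtype.val h6
  have hbot := (H637.A7Main.ten_scalars p hC e hZ (Fintype.card_fin 10)).resolve_left hSD
  exact ⟨(((QuotientGroup.quotientMulEquivOfEq hbot).trans QuotientGroup.quotientBot).symm.trans e).symm⟩

/-- **A core with socle `A₇` is not that of a maximal subgroup of `SL₁₀`.** -/
theorem ten_sl (p : ℕ) [Fact p.Prime] [CharP F p] {H P : Subgroup (GL (Fin 10) F)} (hcore : IsResidualCore H P)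
    (hSD : ¬ SD P) (e : Soc P ≃* alternatingGroup (Fin 7)) : ¬ IsMaximalIn (specialLinear (Fin 10) F) H := by
  obtain ⟨n2, n7, ⟨e'⟩⟩ := exists_equiv p (core_of_residual hcore) hSD e
  exact kill_sl hcore e' n2 n7

/-- **A core with socle `A₇` is not that of a maximal subgroup of `SU₁₀`.** -/
theorem ten_su (p : ℕ) [Fact p.Prime] [CharP F p] {q : ℕ} (hF : Fintype.card F = q ^ 2)
    {H P : Subgroup (GL (Fin 10) F)} (hcore : IsResidualCore H P)
    (hSD : ¬ SD P) (e : Soc P ≃* alternatingGroup (Fin 7)) :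
    ¬ IsMaximalIn (Cfsg.GU 10 F q ⊓ specialLinear (Fin 10) F) H := by
  obtain ⟨n2, n7, ⟨e'⟩⟩ := exists_equiv p (core_of_residual hcore) hSD e
  exact kill_su hF hcore e' n2 n7

end Cfsg.Agent.H923.Ten.A7
end

-- part: H923/Ten/U42Kill
section
/-!
# `PSp₄(3)` in dimension ten is never maximal (helper923)
-/

set_option autoImplicit false
set_option linter.unusedSectionVars false
set_option maxRecDepth 20000

namespace Cfsg.Agent.H923.Ten.U42

open Module Matrix Cfsg Cfsg.Geo Cfsg.Agent.H659.Sp4 Cfsg.Agent.H659.SevenU42 Cfsg.Agent.H659.Ac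
open Cfsg.Agent.LieClassical.GUOrder

universe u v

section gen

variable {F : Type u} [Field F]

theorem MF_12 {r : F} (hr : r * r = ((-3 : ℤ) : F)) {a : Fin 4 → Fin 4 → ℤ√(-3)}
    (h : ∀ i j, a i j = if i = j then ⟨12, 0⟩ else 0) : MF r hr a = (12 : F) • 1 := by
  ext i j
  rw [MF, Matrix.of_apply, h, Matrix.smul_apply, Matrix.one_apply, smul_eq_mul]
  by_cases hij : i = j
  · rw [if_pos hij, if_pos hij, ev_apply]; norm_num
  · rw [if_neg hij, if_neg hij, map_zero, mul_zero]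

/-- the generator attached to a table -/
noncomputable def gG (r : F) (hr : r * r = ((-3 : ℤ) : F)) (h0 : r ≠ 0) (h2 : (2 : F) ≠ 0) (h12 : (12 : F) ≠ 0)
    (M : Fin 4 → Fin 4 → ℤ√(-3))
    (hM : ∀ i j : Fin 4, mul4 M (fun a b => star (M b a)) i j = if i = j then ⟨12, 0⟩ else 0)
    (hM' : ∀ i j : Fin 4, mul4 (fun a b => star (M b a)) M i j = if i = j then ⟨12, 0⟩ else 0) : GL (Fin 4) F where
  val := (2 * r)⁻¹ • MF r hr M
  inv := ((2 * r) * 12⁻¹) • MF r hr (fun a b => star (M b a))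
  val_inv := by
    rw [Matrix.smul_mul, Matrix.mul_smul, MF_mul, MF_12 hr hM, smul_smul, smul_smul]
    have : (2 * r)⁻¹ * (2 * r * 12⁻¹ * 12) = 1 := by
      field_simp
    rw [mul_assoc, this, one_smul]
  inv_val := by
    rw [Matrix.smul_mul, Matrix.mul_smul, MF_mul, MF_12 hr hM', smul_smul, smul_smul]
    have : (2 * r) * 12⁻¹ * (2 * r)⁻¹ * 12 = 1 := by
      field_simp
    rw [this, one_smul]

theorem gG_conj {r : F} (hr : r * r = ((-3 : ℤ) : F)) (h0 : r ≠ 0) (h2 : (2 : F) ≠ 0) (h12 : (12 : F) ≠ 0)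
    {M : Fin 4 → Fin 4 → ℤ√(-3)}
    (hM : ∀ i j : Fin 4, mul4 M (fun a b => star (M b a)) i j = if i = j then ⟨12, 0⟩ else 0)
    (hM' : ∀ i j : Fin 4, mul4 (fun a b => star (M b a)) M i j = if i = j then ⟨12, 0⟩ else 0)
    {X Y : Matrix (Fin 4) (Fin 4) F} (h : (-12 : F) • Y = MF r hr M * X * (MF r hr M)ᵀ) :
    Y = (gG r hr h0 h2 h12 M hM hM' : Matrix (Fin 4) (Fin 4) F) * X *
      (gG r hr h0 h2 h12 M hM hM' : Matrix (Fin 4) (Fin 4) F)ᵀ := by
  change Y = ((2 * r)⁻¹ • MF r hr M) * X * ((2 * r)⁻¹ • MF r hr M)ᵀ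
  rw [Matrix.transpose_smul, Matrix.smul_mul, Matrix.smul_mul, Matrix.mul_smul, ← h, smul_smul, smul_smul]
  have : (2 * r)⁻¹ * (2 * r)⁻¹ * -12 = 1 := by
    have h3 : (-12 : F) = (2 * r) * (2 * r) := by
      have : (2 * r) * (2 * r) = 4 * (r * r) := by ring
      rw [this, hr]; push_cast; ring
    rw [h3]
    field_simp
  rw [this, one_smul]

/-- the generators -/
theorem exists_G {V : Type v} [AddCommGroup V] [Module F V] [FiniteDimensional F V]
    {ρ : Sp →* Module.End F V} {v : V} {ξ : V →ₗ[F] F} {ζ : F} (h : Sph ρ v ξ ζ)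
    (h0 : -1 - 2 * ζ ≠ 0) (h2 : (2 : F) ≠ 0) (h12 : (12 : F) ≠ 0) (K : Subgroup (GL (Fin 4) F))
    (k1 : gG _ (rr h.zq) h0 h2 h12 (Mz Ml_y) u_y u_y' ∈ K) (k2 : gG _ (rr h.zq) h0 h2 h12 (Mz Ml_s) u_s u_s' ∈ K)
    (k3 : gG _ (rr h.zq) h0 h2 h12 (Mz Ml_j) u_j u_j' ∈ K) (g : Sp) :
    ∃ G ∈ K, ∀ u, Phi ρ ξ _ (rr h.zq) (ρ g u) =
      (G : Matrix (Fin 4) (Fin 4) F) * Phi ρ ξ _ (rr h.zq) u * (G : Matrix (Fin 4) (Fin 4) F)ᵀ := by
  let S : Subgroup Sp :=
    { carrier := {g | ∃ G ∈ K, ∀ u, Phi ρ ξ _ (rr h.zq) (ρ g u) =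
        (G : Matrix (Fin 4) (Fin 4) F) * Phi ρ ξ _ (rr h.zq) u * (G : Matrix (Fin 4) (Fin 4) F)ᵀ}
      one_mem' := ⟨1, one_mem _, fun u => by
        rw [act1, Units.val_one, Matrix.transpose_one, Matrix.one_mul, Matrix.mul_one]⟩
      mul_mem' := by
        rintro x y ⟨G, hG, hx⟩ ⟨G', hG', hy⟩
        refine ⟨G * G', mul_mem hG hG', fun u => ?_⟩
        rw [← mul_app, hx, hy, Units.val_mul, Matrix.transpose_mul]
        simp only [Matrix.mul_assoc]
      inv_mem' := by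
        rintro x ⟨G, hG, hx⟩
        refine ⟨G⁻¹, inv_mem hG, fun u => ?_⟩
        have h1 := hx (ρ x⁻¹ u)
        rw [mul_app, mul_inv_cancel, act1] at h1
        rw [h1]
        have e1 : ((G⁻¹ : GL (Fin 4) F) : Matrix (Fin 4) (Fin 4) F) * (G : Matrix (Fin 4) (Fin 4) F) = 1 := by
          rw [← Units.val_mul, inv_mul_cancel, Units.val_one]
        have e2 : (G : Matrix (Fin 4) (Fin 4) F)ᵀ * ((G⁻¹ : GL (Fin 4) F) : Matrix (Fin 4) (Fin 4) F)ᵀ = 1 := by
          rw [← Matrix.transpose_mul, e1, Matrix.transpose_one]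
        generalize Phi ρ ξ _ (rr h.zq) (ρ x⁻¹ u) = X
        symm
        calc ((G⁻¹ : GL (Fin 4) F) : Matrix (Fin 4) (Fin 4) F) * ((G : Matrix (Fin 4) (Fin 4) F) * X *
              (G : Matrix (Fin 4) (Fin 4) F)ᵀ) * ((G⁻¹ : GL (Fin 4) F) : Matrix (Fin 4) (Fin 4) F)ᵀ =
            (((G⁻¹ : GL (Fin 4) F) : Matrix (Fin 4) (Fin 4) F) * (G : Matrix (Fin 4) (Fin 4) F)) * X *
              ((G : Matrix (Fin 4) (Fin 4) F)ᵀ * ((G⁻¹ : GL (Fin 4) F) : Matrix (Fin 4) (Fin 4) F)ᵀ) := by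
              simp only [Matrix.mul_assoc]
          _ = X := by rw [e1, e2, Matrix.one_mul, Matrix.mul_one] }
  have m1 : U 5 1 ∈ S := ⟨_, k1, fun u => gG_conj _ h0 h2 h12 u_y u_y' (h.step chk_y inj_y m_y u)⟩
  have m2 : sG ∈ S := ⟨_, k2, fun u => gG_conj _ h0 h2 h12 u_s u_s' (h.step chk_s inj_s m_s u)⟩
  have m3 : jG ∈ S := ⟨_, k3, fun u => gG_conj _ h0 h2 h12 u_j u_j' (h.step chk_j inj_j m_j u)⟩
  have hS : S = ⊤ := gen_ysj S m1 m2 m3
  have : g ∈ S := by rw [hS]; exact Subgroup.mem_top g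
  exact this

end gen

variable {F : Type u} [Field F]

section facts

variable {P : Subgroup (GL (Fin 10) F)} {φ : Sp →* GL (Fin 10) F} {v : Fin 10 → F} {ξ : (Fin 10 → F) →ₗ[F] F} {ζ : F}

theorem ne_12 (h2 : (2 : F) ≠ 0) (h3 : (3 : F) ≠ 0) : (12 : F) ≠ 0 := by
  have : (12 : F) = 2 * 2 * 3 := by norm_num
  rw [this]; exact mul_ne_zero (mul_ne_zero h2 h2) h3

theorem r_ne (h : Sph (rq φ) v ξ ζ) : -1 - 2 * ζ ≠ 0 := by
  intro h0
  have h1 := rr h.zq
  rw [h0, mul_zero] at h1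
  push_cast at h1
  exact h.irr.three (neg_eq_zero.1 h1.symm)

theorem Phi_sym (r : F) (hr : r * r = ((-3 : ℤ) : F)) (u : Fin 10 → F) :
    (Phi (rq φ) ξ r hr u)ᵀ = Phi (rq φ) ξ r hr u := by
  rw [Phi_apply, Matrix.transpose_sum]
  refine Finset.sum_congr rfl fun t _ => ?_
  rw [Matrix.transpose_smul, MF_transpose]
  congr 2
  funext i j
  exact s_sym t j i

theorem Phi_inj (h : Sph (rq φ) v ξ ζ)
    (hP : ∀ g : Sp, ∃ G : GL (Fin 4) F, ∀ u, Phi (rq φ) ξ _ (rr h.zq) (rq φ g u) =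
      (G : Matrix (Fin 4) (Fin 4) F) * Phi (rq φ) ξ _ (rr h.zq) u * (G : Matrix (Fin 4) (Fin 4) F)ᵀ) :
    Function.Injective (Phi (rq φ) ξ _ (rr h.zq)) := by
  rw [← LinearMap.ker_eq_bot]
  rcases h.irr.irr (LinearMap.ker (Phi (rq φ) ξ _ (rr h.zq))) (by
    intro g u hu
    obtain ⟨G, hG⟩ := hP g
    rw [LinearMap.mem_ker] at hu ⊢
    rw [hG, hu, Matrix.mul_zero, Matrix.zero_mul]) with h1 | h1
  · exact h1
  · exfalso
    have h2 := h.Phi_v
    have h3 : Phi (rq φ) ξ _ (rr h.zq) v = 0 := by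
      rw [← LinearMap.mem_ker, h1]; trivial
    rw [h3, Matrix.zero_apply, mul_zero] at h2
    have h4 : (144 : F) = 12 * 12 := by norm_num
    rw [h4] at h2
    have h12 := ne_12 h.irr.two h.irr.three
    exact mul_ne_zero h12 h12 h2.symm

theorem mdl (h : Sph (rq φ) v ξ ζ)
    (hP : ∀ g : Sp, ∃ G : GL (Fin 4) F, ∀ u, Phi (rq φ) ξ _ (rr h.zq) (rq φ g u) =
      (G : Matrix (Fin 4) (Fin 4) F) * Phi (rq φ) ξ _ (rr h.zq) u * (G : Matrix (Fin 4) (Fin 4) F)ᵀ) :
    Mdl (Phi (rq φ) ξ _ (rr h.zq)) where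
  inj := Phi_inj h hP
  cl := by
    intro G u
    apply A7.sym_surj (Phi_inj h hP) (Phi_sym _ _)
    rw [Matrix.transpose_mul, Matrix.transpose_mul, Matrix.transpose_transpose, Phi_sym, Matrix.mul_assoc]

theorem scal (h : Sph (rq φ) v ξ ζ)
    (hP : ∀ g : Sp, ∃ G : GL (Fin 4) F, ∀ u, Phi (rq φ) ξ _ (rr h.zq) (rq φ g u) =
      (G : Matrix (Fin 4) (Fin 4) F) * Phi (rq φ) ξ _ (rr h.zq) u * (G : Matrix (Fin 4) (Fin 4) F)ᵀ)
    (G : GL (Fin 4) F) (c : F) (hG : ∀ v, (G : Matrix (Fin 4) (Fin 4) F) * Phi (rq φ) ξ _ (rr h.zq) v *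
      (G : Matrix (Fin 4) (Fin 4) F)ᵀ = c • Phi (rq φ) ξ _ (rr h.zq) v) : G ∈ scalars (Fin 4) F := by
  apply A7.sym_scalar (c := c)
  intro X hX
  obtain ⟨u, rfl⟩ := A7.sym_surj (Phi_inj h hP) (Phi_sym _ _) hX
  exact hG u

end facts

/-- **`PSp₄(3)` is not maximal in `SL₁₀`.** -/
theorem kill_sl [Fintype F] {H P : Subgroup (GL (Fin 10) F)} {φ : Sp →* GL (Fin 10) F} (hcore : IsResidualCore H P)
    (hcov : Cov P φ) (hbot : ∀ x ∈ P, x ∈ scalars (Fin 10) F → x = 1)
    (h2 : (2 : F) ≠ 0) (h3 : (3 : F) ≠ 0) : ¬ IsMaximalIn (specialLinear (Fin 10) F) H := by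
  obtain ⟨v, ξ, ζ, h⟩ := (hcov.irr1 hcore.absIrred h2 h3).exists_sph
  have hP : ∀ g : Sp, ∃ G : GL (Fin 4) F, ∀ u, Phi (rq φ) ξ _ (rr h.zq) (rq φ g u) =
      (G : Matrix (Fin 4) (Fin 4) F) * Phi (rq φ) ξ _ (rr h.zq) u * (G : Matrix (Fin 4) (Fin 4) F)ᵀ := by
    intro g
    obtain ⟨G, -, hG⟩ := exists_G h (r_ne h) h2 (ne_12 h2 h3) ⊤ trivial trivial trivial g
    exact ⟨G, hG⟩
  have hsur : ∀ X : Matrix (Fin 4) (Fin 4) F, Xᵀ = X → ∃ u, Phi (rq φ) ξ _ (rr h.zq) u = X :=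
    fun X hX => A7.sym_surj (Phi_inj h hP) (Phi_sym _ _) hX
  refine not_max_sl (Φ := Phi (rq φ) ξ _ (rr h.zq)) (r := 1) (mdl h hP) (scal h hP) hcore ?_ ?_ ?_ ?_
  · intro g hg
    rw [← hcov.range] at hg
    obtain ⟨w, rfl⟩ := hg
    obtain ⟨G, hG⟩ := hP w
    refine ⟨G, fun u => ?_⟩
    have h1 := hG u
    rwa [rq_apply] at h1
  · intro t ht
    refine hcov.eq_mul h.good hbot hcore.absIrred t fun x => ⟨fun hx => hcore.normal t ht x hx, fun hx => ?_⟩
    have h1 := hcore.normal t⁻¹ (inv_mem ht) _ hx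
    have h3 : t⁻¹ * (t * x * t⁻¹) * t⁻¹⁻¹ = x := by group
    rwa [h3] at h1
  · have hq : 4 ≤ Fintype.card F := by
      by_contra hlt
      have h1 : 1 < Fintype.card F := Fintype.one_lt_card
      have h4 : ((Fintype.card F : ℕ) : F) = 0 := FiniteField.cast_card_eq_zero F
      rcases (by omega : Fintype.card F = 2 ∨ Fintype.card F = 3) with h5 | h5
      · rw [h5] at h4
        exact h2 (by exact_mod_cast h4)
      · rw [h5] at h4
        exact h3 (by exact_mod_cast h4)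
    rw [hcov.card_aut, Matrix.card_GL_field]
    set q := Fintype.card F with hqdef
    have h1 : Nat.card (scalars (Fin 4) F) ≤ q - 1 := A7.card_scalars_le
    obtain ⟨a, ha⟩ : ∃ a, a = q ^ 3 * (q - 1) := ⟨_, rfl⟩
    have ha1 : 64 * (q - 1) ≤ a := by
      rw [ha]
      exact Nat.mul_le_mul_right _ (Nat.pow_le_pow_left hq 3)
    have ha2 : ∀ i : Fin 4, a ≤ q ^ 4 - q ^ (i : ℕ) := by
      intro i
      have h5 : q ^ (i : ℕ) ≤ q ^ 3 := Nat.pow_le_pow_right (by omega) (by omega)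
      have h6 : a = q ^ 4 - q ^ 3 := by
        rw [ha, Nat.mul_sub, mul_one]; rfl
      omega
    have h3 : a ^ 4 ≤ ∏ i : Fin 4, (q ^ 4 - q ^ (i : ℕ)) := by
      have := Finset.prod_le_prod' (s := Finset.univ) (fun i _ => ha2 i)
      rwa [Finset.prod_const, Finset.card_univ, Fintype.card_fin] at this
    have h4 : 192 ≤ a := by omega
    have h5 : 192 ^ 3 * a ≤ a ^ 4 := by
      have : 192 ^ 3 * a ≤ a ^ 3 * a := Nat.mul_le_mul_right _ (Nat.pow_le_pow_left h4 3)
      calc 192 ^ 3 * a ≤ a ^ 3 * a := this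
        _ = a ^ 4 := by ring
    have h6 : 51840 * Nat.card (scalars (Fin 4) F) ≤ 51840 * (q - 1) := Nat.mul_le_mul_left _ h1
    have h7' : 51840 * (q - 1) < 192 ^ 3 * a := by omega
    omega
  · obtain ⟨d, hd⟩ := hsur (Matrix.single 0 0 1) (by rw [Matrix.transpose_single])
    obtain ⟨x, hx⟩ := hsur (Matrix.single 0 0 1 + Matrix.single 1 1 1) (by
      rw [Matrix.transpose_add, Matrix.transpose_single, Matrix.transpose_single])
    refine ⟨d, x, ?_, ?_, ?_, ?_⟩
    · rintro rfl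
      rw [map_zero] at hd
      have := congrFun (congrFun hd 0) 0
      simp at this
    · rintro rfl
      rw [map_zero] at hx
      have := congrFun (congrFun hx 0) 0
      simp at this
    · rw [hd, show (Matrix.single 0 0 1 : Matrix (Fin 4) (Fin 4) F) =
        Matrix.vecMulVec (Pi.single 0 1) (Pi.single 0 1) by
          rw [Matrix.single_eq_single_vecMulVec_single]]
      exact Matrix.rank_vecMulVec_le _ _
    · rw [hx]
      apply two_le_rank ![0, 1] ![0, 1]
      rw [Matrix.det_fin_two]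
      simp

section unitary

variable [Fintype F] {q : ℕ} {P : Subgroup (GL (Fin 10) F)} {φ : Sp →* GL (Fin 10) F} {v : Fin 10 → F}
  {ξ : (Fin 10 → F) →ₗ[F] F} {ζ : F}

theorem frob_r (hF : Fintype.card F = q ^ 2) (h : Sph (rq φ) v ξ ζ) (hcov : Cov P φ) (hPU : P ≤ Cfsg.GU 10 F q) :
    frob hF (-1 - 2 * ζ) = -(-1 - 2 * ζ) := by
  have hinv : ∀ (g : Sp) x y, hermForm 10 F q (rq φ g x) (rq φ g y) = hermForm 10 F q x y := by
    intro g x y
    rw [rq_apply, rq_apply]
    refine (mem_GU_iff _).1 (hPU ?_) x y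
    rw [← hcov.range]; exact ⟨g, rfl⟩
  have hz1 : rq φ (U 7 2) v = v := h.good.z1
  have hz2 : rq φ (U 4 1) v = ζ • v := h.good.z2
  set n := hermForm 10 F q v v with hn
  have hn0 : n ≠ 0 := by
    intro h0
    apply h.good.ne
    have h1 : ∀ u, hermForm 10 F q u v = 0 := by
      intro u
      obtain ⟨κ, hκ⟩ := h.good.es_eq u
      have e1 : ∀ w, hermForm 10 F q (rq φ (U 7 2) w) v = hermForm 10 F q w v := by
        intro w
        conv_lhs => rw [← hz1]
        exact hinv (U 7 2) w v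
      have e2 : hermForm 10 F q (es (rq φ) u) v = 3 * hermForm 10 F q u v := by
        rw [es, herm_add_left hF, herm_add_left hF]
        change hermForm 10 F q u v + hermForm 10 F q (rq φ (U 7 2) u) v +
          hermForm 10 F q (rq φ (U 7 2) (rq φ (U 7 2) u)) v = _
        rw [e1, e1, e1]; ring
      rw [hκ, herm_smul_left hF, ← hn, h0, mul_zero] at e2
      exact (mul_eq_zero.1 e2.symm).resolve_left h.irr.three
    have h2 : ∀ u, hermForm 10 F q v u = 0 := by
      intro u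
      rw [← frob_herm hF u v, h1, map_zero]
    funext j
    rw [← herm_single hF v j, h2]
    rfl
  have e1 := hinv (U 4 1) v v
  rw [hz2, herm_smul_left hF, herm_smul_right hF, ← hn, ← mul_assoc] at e1
  have e2 : ζ * frob hF ζ = 1 := mul_right_cancel₀ hn0 (e1.trans (one_mul n).symm)
  have h3 := h.good.cube
  have e3 : frob hF ζ = ζ ^ 2 := by
    have : frob hF ζ = ζ ^ 3 * frob hF ζ := by rw [h3, one_mul]
    rw [this, show ζ ^ 3 * frob hF ζ = ζ ^ 2 * (ζ * frob hF ζ) by ring, e2, mul_one]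
  have h4 := h.zq
  rw [map_sub, map_neg, map_one, map_mul, e3, map_ofNat]
  linear_combination (-2 : F) * h4

theorem gG_mem (hF : Fintype.card F = q ^ 2) {r : F} (hfr : frob hF r = -r)
    (hr : r * r = ((-3 : ℤ) : F)) (h0 : r ≠ 0) (h2 : (2 : F) ≠ 0) (h12 : (12 : F) ≠ 0)
    {M : Fin 4 → Fin 4 → ℤ√(-3)}
    (hM : ∀ i j : Fin 4, mul4 M (fun a b => star (M b a)) i j = if i = j then ⟨12, 0⟩ else 0)
    (hM' : ∀ i j : Fin 4, mul4 (fun a b => star (M b a)) M i j = if i = j then ⟨12, 0⟩ else 0) :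
    gG r hr h0 h2 h12 M hM hM' ∈ Cfsg.GU 4 F q := by
  rw [mem_GU_iff]
  apply (mul_map_eq_one_iff hF _).2
  change ((2 * r)⁻¹ • MF r hr M)ᵀ * ((2 * r)⁻¹ • MF r hr M).map (frob hF) = 1
  have h3 : ((2 * r)⁻¹ • MF r hr M).map (frob hF) = (-(2 * r)⁻¹) • (MF r hr (fun a b => star (M b a)))ᵀ := by
    ext i j
    rw [Matrix.map_apply, Matrix.smul_apply, Matrix.smul_apply, Matrix.transpose_apply, smul_eq_mul, smul_eq_mul,
      map_mul, map_inv₀, map_mul, hfr, map_ofNat]
    have h4 : frob hF (MF r hr M i j) = MF r hr (fun a b => star (M b a)) j i := by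
      change frob hF (ev r hr (M i j)) = ev r hr (star (M i j))
      obtain ⟨a, b⟩ := M i j
      rw [Zsqrtd.star_mk, ev_apply, ev_apply, map_add, map_mul, map_intCast, map_intCast, hfr]
      push_cast; ring
    rw [h4, mul_neg, inv_neg]
  rw [h3, Matrix.transpose_smul, Matrix.smul_mul, Matrix.mul_smul, ← Matrix.transpose_mul, MF_mul, MF_12 hr hM',
    Matrix.transpose_smul, Matrix.transpose_one, smul_smul, smul_smul]
  have : (2 * r)⁻¹ * -(2 * r)⁻¹ * 12 = 1 := by
    have h3 : (12 : F) = -((2 * r) * (2 * r)) := by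
      have : (2 * r) * (2 * r) = 4 * (r * r) := by ring
      rw [this, hr]; push_cast; ring
    rw [h3]
    field_simp
  rw [this, one_smul]

/-- **`PSp₄(3)` is not maximal in `SU₁₀`.** -/
theorem kill_su {H : Subgroup (GL (Fin 10) F)} (hF : Fintype.card F = q ^ 2) (hcore : IsResidualCore H P)
    (hcov : Cov P φ) (hbot : ∀ x ∈ P, x ∈ scalars (Fin 10) F → x = 1)
    (h2 : (2 : F) ≠ 0) (h3 : (3 : F) ≠ 0) : ¬ IsMaximalIn (Cfsg.GU 10 F q ⊓ specialLinear (Fin 10) F) H := by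
  intro hmax
  have hPU : P ≤ Cfsg.GU 10 F q := hcore.le.trans (hmax.1.le.trans inf_le_left)
  obtain ⟨v, ξ, ζ, h⟩ := (hcov.irr1 hcore.absIrred h2 h3).exists_sph
  have hfr := frob_r hF h hcov hPU
  have hPG : ∀ g : Sp, ∃ G ∈ Cfsg.GU 4 F q, ∀ u, Phi (rq φ) ξ _ (rr h.zq) (rq φ g u) =
      (G : Matrix (Fin 4) (Fin 4) F) * Phi (rq φ) ξ _ (rr h.zq) u * (G : Matrix (Fin 4) (Fin 4) F)ᵀ :=
    fun g => exists_G h (r_ne h) h2 (ne_12 h2 h3) _ (gG_mem hF hfr _ _ _ _ _ _)
      (gG_mem hF hfr _ _ _ _ _ _) (gG_mem hF hfr _ _ _ _ _ _) g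
  have hP : ∀ g : Sp, ∃ G : GL (Fin 4) F, ∀ u, Phi (rq φ) ξ _ (rr h.zq) (rq φ g u) =
      (G : Matrix (Fin 4) (Fin 4) F) * Phi (rq φ) ξ _ (rr h.zq) u * (G : Matrix (Fin 4) (Fin 4) F)ᵀ := by
    intro g
    obtain ⟨G, -, hG⟩ := hPG g
    exact ⟨G, hG⟩
  have hsur : ∀ X : Matrix (Fin 4) (Fin 4) F, Xᵀ = X → ∃ u, Phi (rq φ) ξ _ (rr h.zq) u = X :=
    fun X hX => A7.sym_surj (Phi_inj h hP) (Phi_sym _ _) hX
  refine not_max_su hF (Φ := Phi (rq φ) ξ _ (rr h.zq)) (r := 1) (mdl h hP) (scal h hP) hcore ?_ ?_ ?_ ?_ hmax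
  · intro g hg
    rw [← hcov.range] at hg
    obtain ⟨w, rfl⟩ := hg
    obtain ⟨G, hGU, hG⟩ := hPG w
    refine ⟨G, hGU, fun u => ?_⟩
    have h1 := hG u
    rwa [rq_apply] at h1
  · intro t ht
    refine hcov.eq_mul h.good hbot hcore.absIrred t fun x => ⟨fun hx => hcore.normal t ht x hx, fun hx => ?_⟩
    have h1 := hcore.normal t⁻¹ (inv_mem ht) _ hx
    have h3 : t⁻¹ * (t * x * t⁻¹) * t⁻¹⁻¹ = x := by group
    rwa [h3] at h1
  · have hq : 4 ≤ q := by
      have hq2 := two_le hF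
      by_contra hlt
      have h4 : ((Fintype.card F : ℕ) : F) = 0 := FiniteField.cast_card_eq_zero F
      rcases (by omega : q = 2 ∨ q = 3) with h5 | h5
      · rw [hF, h5] at h4
        have h6 : (2 : F) * 2 = 0 := by rw [← h4]; norm_num
        exact mul_ne_zero h2 h2 h6
      · rw [hF, h5] at h4
        have h6 : (3 : F) * 3 = 0 := by rw [← h4]; norm_num
        exact mul_ne_zero h3 h3 h6
    rw [hcov.card_aut, S0277.result hF]
    have h1 : Nat.card (scalars (Fin 4) F) ≤ q ^ 2 - 1 := by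
      rw [← hF]; exact A7.card_scalars_le
    have h3 : ∏ i ∈ Finset.range 4, (if Even i then q ^ (i + 1) + 1 else q ^ (i + 1) - 1) =
        (q + 1) * (q ^ 2 - 1) * (q ^ 3 + 1) * (q ^ 4 - 1) := by
      simp only [Finset.prod_range_succ, Nat.even_iff, _root_.Finset.range_one, _root_.Finset.prod_singleton, _root_.Nat.zero_mod, ↓ _root_.reduceIte, _root_.zero_add, _root_.pow_one, _root_.Nat.mod_succ, _root_.one_ne_zero, _root_.Nat.reduceAdd, _root_.Nat.mod_self, _root_.Nat.reduceMod]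
    rw [h3]
    have h4 : 51840 * Nat.card (scalars (Fin 4) F) ≤ 51840 * (q ^ 2 - 1) := Nat.mul_le_mul_left _ h1
    refine lt_of_le_of_lt h4 ?_
    have h5 : 4 ^ 6 ≤ q ^ 6 := Nat.pow_le_pow_left hq 6
    have h6 : 4 ^ 2 ≤ q ^ 2 := Nat.pow_le_pow_left hq 2
    have h8 : 4 ^ 3 ≤ q ^ 3 := Nat.pow_le_pow_left hq 3
    have h9 : 4 ^ 4 ≤ q ^ 4 := Nat.pow_le_pow_left hq 4
    have h10 : q ^ (4 * (4 - 1) / 2) = q ^ 6 := rfl
    rw [h10]
    have h11 : 0 < q ^ 2 - 1 := by omega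
    calc 51840 * (q ^ 2 - 1) < (4 ^ 6 * (5 * 65 * 255)) * (q ^ 2 - 1) := Nat.mul_lt_mul_of_pos_right (by norm_num) h11
      _ ≤ (q ^ 6 * ((q + 1) * (q ^ 3 + 1) * (q ^ 4 - 1))) * (q ^ 2 - 1) := by
        apply Nat.mul_le_mul_right
        apply Nat.mul_le_mul h5
        apply Nat.mul_le_mul
        · apply Nat.mul_le_mul <;> omega
        · omega
      _ = q ^ 6 * ((q + 1) * (q ^ 2 - 1) * (q ^ 3 + 1) * (q ^ 4 - 1)) := by ring
  · obtain ⟨α, hα0, hα⟩ := exists_norm hF (d := (-1 : F)) (neg_ne_zero.2 one_ne_zero) (by rw [map_neg, map_one])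
    have hone : frob hF (1 : F) = 1 := map_one _
    obtain ⟨d, hd⟩ := hsur (Matrix.single 0 0 1) (by rw [Matrix.transpose_single])
    set w : Fin 4 → F := ![1, α, 0, 0] with hw
    obtain ⟨x, hx⟩ := hsur (Matrix.vecMulVec w w) (by
      ext i j; rw [Matrix.transpose_apply, Matrix.vecMulVec_apply, Matrix.vecMulVec_apply, mul_comm])
    refine ⟨d, x, ?_, ?_, ?_, ?_⟩
    · rw [hx]
      simp only [hh, Matrix.vecMulVec_apply, Fin.sum_univ_four, hw]
      simp only [map_mul, _root_.Fin.isValue, _root_.Matrix.cons_val_zero, _root_.mul_one, _root_.map_one, _root_.Matrix.cons_val_one, _root_.one_mul, _root_.Matrix.cons_val, _root_.MulZeroClass.mul_zero, _root_.map_zero, _root_.add_zero, _root_.MulZeroClass.zero_mul]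
      linear_combination (1 + α * frob hF α) * hα
    · rw [hx, hd]
      simp only [hh, Matrix.vecMulVec_apply, Fin.sum_univ_four, hw]
      simp
    · rw [hd, show (Matrix.single 0 0 1 : Matrix (Fin 4) (Fin 4) F) =
        Matrix.vecMulVec (Pi.single 0 1) (Pi.single 0 1) by
          rw [Matrix.single_eq_single_vecMulVec_single]]
      exact Matrix.rank_vecMulVec_le _ _
    · intro c hc
      rw [map_add, map_smul, hd, hx]
      apply two_le_rank ![0, 1] ![0, 1]
      rw [Matrix.det_fin_two]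
      simp only [hw, _root_.Fin.isValue, _root_.Matrix.vecMulVec_cons, _root_.Nat.succ_eq_add_one, _root_.Nat.reduceAdd, _root_.Matrix.smul_cons, _root_.smul_eq_mul, _root_.mul_one, _root_.MulZeroClass.mul_zero, _root_.Matrix.smul_empty, _root_.Matrix.smul_of, _root_.Matrix.submatrix_apply, _root_.Matrix.cons_val_zero, _root_.Matrix.add_apply, _root_.Matrix.single_apply_same, _root_.Matrix.of_apply, _root_.Pi.smul_apply, _root_.one_mul, _root_.Matrix.cons_val_one, _root_.Matrix.cons_val_fin_one, _root_.zero_ne_one, _root_.and_self, _root_.not_false_eq_true, _root_.Matrix.single_apply_of_ne, _root_.zero_add, _root_.and_false, _root_.and_true, _root_.ne_eq]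
      intro h0
      apply hc
      have h5 : c * α ^ 2 = 0 := by linear_combination h0
      exact (mul_eq_zero.1 h5).resolve_right (pow_ne_zero 2 hα0)

end unitary

end Cfsg.Agent.H923.Ten.U42
end

-- part: H923/Ten/U42Ten
section
/-!
# Cores with socle `PSp₄(3)` in dimension ten (helper923)
-/

set_option autoImplicit false
set_option linter.unusedSectionVars false

namespace Cfsg.Agent.H923.Ten.U42

open Module Matrix Cfsg Cfsg.Geo Cfsg.Agent.H659.Sp4 Cfsg.Agent.H659.SevenU42 Cfsg.Agent.H659.Ac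
open Cfsg.Agent.LieClassical.GUOrder Cfsg.Agent.H915.LD

universe u

variable {F : Type u} [Field F] [Fintype F]

theorem exists_cov (p : ℕ) [hp : Fact p.Prime] [CharP F p] (hp2 : p ≠ 2) (hp3 : p ≠ 3)
    {P : Subgroup (GL (Fin 10) F)} (hC : Core P) {k : Type*} [Field k] [Fintype k] (hk : Fintype.card k = 3)
    (e : Soc P ≃* PSp 2 k) : (2 : F) ≠ 0 ∧ (3 : F) ≠ 0 ∧ (∀ x ∈ P, x ∈ scalars (Fin 10) F → x = 1) ∧
      ∃ φ : Sp →* GL (Fin 10) F, Cov P φ := by
  have hne : ∀ q : ℕ, q.Prime → q ≠ p → (q : F) ≠ 0 := by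
    intro q hq hqp h0
    rw [CharP.cast_eq_zero_iff F p] at h0
    exact hqp ((Nat.prime_dvd_prime_iff_eq hp.out hq).1 h0).symm
  have h2 : (2 : F) ≠ 0 := by exact_mod_cast hne 2 Nat.prime_two (Ne.symm hp2)
  have h3 : (3 : F) ≠ 0 := by exact_mod_cast hne 3 Nat.prime_three (Ne.symm hp3)
  have hbot : (scalars (Fin 10) F).subgroupOf P = ⊥ := by
    rcases u42_stage hC p hp2 hp3 (by rw [Fintype.card_fin]; norm_num) hk e with h | h | h
    · rw [Fintype.card_fin] at h; omega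
    · exact h.2.1
    · exact h.2.1
  have hb : ∀ x ∈ P, x ∈ scalars (Fin 10) F → x = 1 := by
    intro x hx hs
    have h1 : (⟨x, hx⟩ : P) ∈ (scalars (Fin 10) F).subgroupOf P := hs
    rw [hbot, Subgroup.mem_bot] at h1
    exact congrArg Subtype.val h1
  refine ⟨h2, h3, hb, ?_⟩
  let e0 : ZMod 3 ≃+* k := ZMod.ringEquivOfPrime k Nat.prime_three hk
  let E : Soc P ≃* PSp 2 (ZMod 3) := e.trans (Cfsg.Agent.LieClassical.FieldTransfer.pspCongr 2 e0).symm
  let π : P →* PSp 2 (ZMod 3) := E.toMonoidHom.comp (toSoc P)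
  have hπ : Function.Surjective π := E.surjective.comp (toSoc_surjective P)
  have hker : π.ker = (scalars (Fin 10) F).subgroupOf P := ker_comp E
  have hkc : π.ker ≤ Subgroup.center P := by rw [hker]; exact scalars_le_center
  obtain ⟨φ, hφ, hφπ⟩ := H95.StemCover.exists_cover_of_trivial
    (H62.SpMult.perfect_Sp (F := ZMod 3) (m := 2) le_rfl (fun _ => le_refl 3))
    (H62.SpMult.hasTrivial_Sp (F := ZMod 3) (m := 2) le_rfl (fun _ => le_refl 3) (by decide))
    (QuotientGroup.mk' (Subgroup.center Sp)) (QuotientGroup.mk'_surjective _) (by rw [QuotientGroup.ker_mk'])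
    hC.commutator_top π hπ hkc
  have hφc : ∀ w, φ w = 1 → w = 1 ∨ w = negG := by
    intro w hw
    have h4 := hφπ w
    rw [hw, map_one] at h4
    exact center_sp ((QuotientGroup.eq_one_iff w).1 h4.symm)
  refine ⟨P.subtype.comp φ, ?_, ?_, ?_⟩
  · ext g
    constructor
    · rintro ⟨w, rfl⟩
      exact (φ w).2
    · intro hg
      obtain ⟨w, hw⟩ := hφ ⟨g, hg⟩
      exact ⟨w, congrArg Subtype.val hw⟩
  · apply hb _ (φ negG).2
    have h4 : φ negG ∈ (scalars (Fin 10) F).subgroupOf P := by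
      rw [← hker, MonoidHom.mem_ker, hφπ]
      refine (QuotientGroup.eq_one_iff negG).2 ?_
      rw [Subgroup.mem_center_iff]
      intro g
      apply Subtype.ext
      change g.1 * negG.1 = negG.1 * g.1
      rw [negG_val, mul_neg, neg_mul, mul_one, one_mul]
    exact h4
  · intro w hw
    exact hφc w (Subtype.ext hw)

/-- **A core with socle `PSp₄(3)` is not that of a maximal subgroup of `SL₁₀`.** -/
theorem ten_sl (p : ℕ) [Fact p.Prime] [CharP F p] (hp2 : p ≠ 2) (hp3 : p ≠ 3) {H P : Subgroup (GL (Fin 10) F)}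
    (hcore : IsResidualCore H P) {k : Type*} [Field k] [Fintype k] (hk : Fintype.card k = 3)
    (e : Soc P ≃* PSp 2 k) : ¬ IsMaximalIn (specialLinear (Fin 10) F) H := by
  obtain ⟨h2, h3, hb, φ, hφ⟩ := exists_cov p hp2 hp3 (core_of_residual hcore) hk e
  exact kill_sl hcore hφ hb h2 h3

/-- **A core with socle `PSp₄(3)` is not that of a maximal subgroup of `SU₁₀`.** -/
theorem ten_su (p : ℕ) [Fact p.Prime] [CharP F p] (hp2 : p ≠ 2) (hp3 : p ≠ 3) {q : ℕ} (hF : Fintype.card F = q ^ 2)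
    {H P : Subgroup (GL (Fin 10) F)}
    (hcore : IsResidualCore H P) {k : Type*} [Field k] [Fintype k] (hk : Fintype.card k = 3)
    (e : Soc P ≃* PSp 2 k) : ¬ IsMaximalIn (Cfsg.GU 10 F q ⊓ specialLinear (Fin 10) F) H := by
  obtain ⟨h2, h3, hb, φ, hφ⟩ := exists_cov p hp2 hp3 (core_of_residual hcore) hk e
  exact kill_su hF hcore hφ hb h2 h3

theorem ten_sl' (p : ℕ) [Fact p.Prime] [CharP F p] (hp2 : p ≠ 2) (hp3 : p ≠ 3) {H P : Subgroup (GL (Fin 10) F)}
    (hcore : IsResidualCore H P) {k : Type*} [Field k] [Fintype k] (hk : Fintype.card k = 4)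
    (e : Soc P ≃* PSU 4 k 2) : ¬ IsMaximalIn (specialLinear (Fin 10) F) H := by
  obtain ⟨e4⟩ := Cfsg.Agent.S0822.result (F := k) (K := ZMod 3) hk rfl
  exact ten_sl p hp2 hp3 hcore (k := ZMod 3) rfl (e.trans e4)

theorem ten_su' (p : ℕ) [Fact p.Prime] [CharP F p] (hp2 : p ≠ 2) (hp3 : p ≠ 3) {q : ℕ} (hF : Fintype.card F = q ^ 2)
    {H P : Subgroup (GL (Fin 10) F)}
    (hcore : IsResidualCore H P) {k : Type*} [Field k] [Fintype k] (hk : Fintype.card k = 4)
    (e : Soc P ≃* PSU 4 k 2) : ¬ IsMaximalIn (Cfsg.GU 10 F q ⊓ specialLinear (Fin 10) F) H := by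
  obtain ⟨e4⟩ := Cfsg.Agent.S0822.result (F := k) (K := ZMod 3) hk rfl
  exact ten_su p hp2 hp3 hF hcore (k := ZMod 3) rfl (e.trans e4)

end Cfsg.Agent.H923.Ten.U42
end

-- part: H840/M11/K3
section
/-!
# `M11` in degree ten, characteristic three
-/

set_option autoImplicit false
set_option linter.constructorNameAsVariable false
set_option linter.unusedSectionVars false
set_option linter.unusedVariables false

namespace Cfsg.Agent.H840.M11

open Cfsg Cfsg.Geo H915.LD Cfsg.Agent.CoThreeStd.MTwelve Cfsg.Agent.H6.M11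
open Cfsg.Agent.H840.L34 (spf sgl_det)
open scoped Matrix MatrixGroups

universe u

/-- the dual representation -/
def dual {G : Type*} [Group G] {F : Type*} [Field F] {n : ℕ} (ρ : G →* Matrix (Fin n) (Fin n) F) :
    G →* Matrix (Fin n) (Fin n) F where
  toFun g := (ρ g⁻¹)ᵀ
  map_one' := by rw [inv_one, map_one, Matrix.transpose_one]
  map_mul' a b := by rw [mul_inv_rev, map_mul, Matrix.transpose_mul]

theorem dual_trace {G : Type*} [Group G] {F : Type*} [Field F] {n : ℕ} (ρ : G →* Matrix (Fin n) (Fin n) F) (g : G) :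
    (dual ρ g).trace = (ρ g⁻¹).trace := Matrix.trace_transpose _

theorem trace_cls {G : Type*} [Group G] {F : Type*} [Field F] {n : ℕ} (ρ : G →* Matrix (Fin n) (Fin n) F) {g r : G}
    (h : IsConj r g) : (ρ g).trace = (ρ r).trace := by
  obtain ⟨c, hc⟩ := isConj_iff.1 h
  rw [← hc, map_mul, map_mul, Matrix.trace_mul_comm, ← Matrix.mul_assoc, ← map_mul, inv_mul_cancel, map_one,
    Matrix.one_mul]

variable {F : Type u} [Field F] [Finite F] {P : Subgroup (GL (Fin 10) F)}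

/-- the relations between the traces -/
theorem rels (hC : Core P) [Fact (Nat.Prime 3)] [CharP F 3] (e : P ≃* Spor.M11) (T : ℕ → F)
    (hT : ∀ i, T i = tr ((e.symm (ev v11 (rv i)) : P) : GL (Fin 10) F)) :
    T 0 + 5 * T 8 + 5 * T 9 = 0 ∧ T 1 + 2 * T 2 + 4 * T 4 + 2 * T 5 + T 8 + T 9 = 0 ∧
      T 2 + 2 * T 4 + T 8 + T 9 + 2 * T 6 + 2 * T 7 + T 3 + T 5 = 0 ∧ T 2 - T 0 = 0 ∧ T 5 - T 1 = 0 := by
  let v : ℕ → P := fun i => e.symm (v11 i)
  have hv : Sat v := sat_11.map e.symm.toMonoidHom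
  have hev : ∀ w, ev v w = e.symm (ev v11 w) := fun w => (map_ev v11 e.symm.toMonoidHom w).symm
  have hv5 : v 5 ≠ 1 := by
    intro h0
    have h1 : ev v [5] = 1 := by rw [ev_cons, ev_nil, mul_one, h0]
    have h2 : orderOf (ev v [5]) = 11 := by
      rw [hev]
      exact (MulEquiv.orderOf_eq _ _).trans orders_11.2.2.2
    rw [h1, orderOf_one] at h2
    exact absurd h2 (by norm_num)
  have hcl : Subgroup.closure ({v 5, v 8} : Set P) = ⊤ := by
    have h2 := congrArg (Subgroup.map e.symm.toMonoidHom) closure_11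
    rw [MonoidHom.map_closure, Set.image_pair, Subgroup.map_top_of_surjective _ e.symm.surjective] at h2
    exact h2
  have hck : CharP (AlgebraicClosure F) 3 := charP_of_injective_algebraMap (algebraMap F _).injective 3
  obtain ⟨ξ, hξ⟩ := exists_root (AlgebraicClosure F) 5 (cast_ne _ Nat.prime_three Nat.prime_five (by norm_num))
  obtain ⟨ζ, hζ⟩ := exists_root (AlgebraicClosure F) 11 (cast_ne _ Nat.prime_three (by norm_num) (by norm_num))
  have h3 : (3 : AlgebraicClosure F) = 0 := by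
    have := CharP.cast_eq_zero (AlgebraicClosure F) 3
    exact_mod_cast this
  have hfix := fix_eleven (h := hv) (R := rep P (AlgebraicClosure F)) h3 hζ hξ (irr_rep hC hv hcl _) (by
    intro h
    have h1 := rep_eq_one _ h
    rw [ev_cons, ev_nil, mul_one] at h1
    exact hv5 h1) (by rw [Module.finrank_fintype_fun_eq_card]; exact hC.two_le)
    (by rw [Module.finrank_fintype_fun_eq_card, Fintype.card_fin]; norm_num)
  have hop : op v (rep P (AlgebraicClosure F)) [5] = op v11 (repM e (AlgebraicClosure F)) [5] := by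
    unfold op
    rw [hev]
    rfl
  rw [hop] at hfix
  have h11 : ((11 : ℕ) : AlgebraicClosure F) ≠ 0 := cast_ne _ Nat.prime_three (by norm_num) (by norm_num)
  have ra := rel_a (R := repM e (AlgebraicClosure F)) h11 hfix
  have rb := rel_b (R := repM e (AlgebraicClosure F)) h11 hfix
  have rc := rel_c (R := repM e (AlgebraicClosure F)) h11 hfix
  have c1 : tw v11 (repM e (AlgebraicClosure F)) [3] = tw v11 (repM e (AlgebraicClosure F)) [3, 0, 3, 0, 3, 0] :=
    tw_conj [] (by decide +kernel)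
  have c2 : tw v11 (repM e (AlgebraicClosure F)) [0] = tw v11 (repM e (AlgebraicClosure F)) [3, 0, 3, 0] :=
    (tw_conj [7] (by decide +kernel)).symm
  rw [c1, c2] at rb
  rw [c2] at rc
  simp only [tw_repM] at ra rb rc
  have inj := (algebraMap F (AlgebraicClosure F)).injective
  have t0 : T 0 = tr ((e.symm (ev v11 []) : P) : GL (Fin 10) F) := hT 0
  have t1 : T 1 = tr ((e.symm (ev v11 [3, 0, 3, 0, 3, 0]) : P) : GL (Fin 10) F) := hT 1
  have t2 : T 2 = tr ((e.symm (ev v11 [3, 0, 3, 0]) : P) : GL (Fin 10) F) := hT 2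
  have t3 : T 3 = tr ((e.symm (ev v11 [2, 2]) : P) : GL (Fin 10) F) := hT 3
  have t4 : T 4 = tr ((e.symm (ev v11 [6]) : P) : GL (Fin 10) F) := hT 4
  have t5 : T 5 = tr ((e.symm (ev v11 [3, 0]) : P) : GL (Fin 10) F) := hT 5
  have t6 : T 6 = tr ((e.symm (ev v11 [2]) : P) : GL (Fin 10) F) := hT 6
  have t7 : T 7 = tr ((e.symm (ev v11 [2, 2, 2, 2, 2, 2, 2]) : P) : GL (Fin 10) F) := hT 7
  have t8 : T 8 = tr ((e.symm (ev v11 [5]) : P) : GL (Fin 10) F) := hT 8
  have t9 : T 9 = tr ((e.symm (ev v11 [5, 5, 5, 5, 5, 5, 5, 5, 5, 5]) : P) : GL (Fin 10) F) := hT 9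
  rw [← t0, ← t8, ← t9] at ra
  rw [← t1, ← t2, ← t4, ← t5, ← t8, ← t9] at rb
  rw [← t2, ← t4, ← t8, ← t9, ← t6, ← t7, ← t3, ← t5] at rc
  -- elements of order 3 and 6
  have cube : ∀ g : GL (Fin 10) F, tr (g ^ 3) = tr g ^ 3 := fun g => by
    have := tr_pow_char 3 g 1
    rwa [pow_one] at this
  have cinj : ∀ a b : F, a ^ 3 = b ^ 3 → a = b := by
    intro a b h
    exact iterateFrobenius_inj F 3 1 (by rw [iterateFrobenius_def, iterateFrobenius_def, pow_one]; exact h)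
  have hpw : ∀ w : List ℕ, (((e.symm (ev v11 w) : P) : GL (Fin 10) F)) ^ 3 =
      ((e.symm (ev v11 (w ++ (w ++ w))) : P) : GL (Fin 10) F) := by
    intro w
    rw [ev_append, ev_append, map_mul, map_mul, Subgroup.coe_mul, Subgroup.coe_mul, pow_succ', pow_two]
  refine ⟨?_, ?_, ?_, ?_, ?_⟩
  · apply inj
    rw [map_zero, ← ra]
    simp only [map_add, map_mul, map_ofNat]
  · apply inj
    rw [map_zero, ← rb]
    simp only [map_add, map_mul, map_ofNat]
  · apply inj
    rw [map_zero, ← rc]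
    simp only [map_add, map_mul, map_ofNat]
  · have h4 : ev v11 ([3, 0, 3, 0] ++ ([3, 0, 3, 0] ++ [3, 0, 3, 0])) = ev v11 [] := ev_eq (by decide +kernel)
    have h5 := cube ((e.symm (ev v11 [3, 0, 3, 0]) : P) : GL (Fin 10) F)
    rw [hpw, h4, ← t0, ← t2] at h5
    have h6 := cube ((e.symm (ev v11 []) : P) : GL (Fin 10) F)
    rw [hpw, List.nil_append, List.nil_append, ← t0] at h6
    rw [sub_eq_zero]
    apply cinj
    rw [← h5, ← h6]
  · have h4 : ev v11 ([3, 0] ++ ([3, 0] ++ [3, 0])) = ev v11 [3, 0, 3, 0, 3, 0] := rfl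
    have h5 := cube ((e.symm (ev v11 [3, 0]) : P) : GL (Fin 10) F)
    rw [hpw, h4, ← t1, ← t5] at h5
    have h6 := cube ((e.symm (ev v11 [3, 0, 3, 0, 3, 0]) : P) : GL (Fin 10) F)
    have h7 : ev v11 ([3, 0, 3, 0, 3, 0] ++ ([3, 0, 3, 0, 3, 0] ++ [3, 0, 3, 0, 3, 0])) = ev v11 [3, 0, 3, 0, 3, 0] :=
      ev_eq (by decide +kernel)
    rw [hpw, h7, ← t1] at h6
    rw [sub_eq_zero]
    apply cinj
    rw [← h5, ← h6]

/-- **the trace hypothesis in characteristic three** -/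
theorem htr_three (hC : Core P) [Fact (Nat.Prime 3)] [CharP F 3] (e : P ≃* Spor.M11) (hSD : ¬ SD P) :
    ∃ s : F, s * s = -2 ∧ HTr e s := by
  have h3 : (3 : F) = 0 := by
    have := CharP.cast_eq_zero F 3
    exact_mod_cast this
  have h2 : (2 : F) ≠ 0 := by
    intro h
    apply one_ne_zero (α := F)
    linear_combination h3 - h
  have hs : (1 : F) * 1 = -2 := by linear_combination h3
  have hs' : (-1 : F) * -1 = -2 := by linear_combination h3
  have hq3 : ((3 : ℤ) : F) = 0 := by exact_mod_cast h3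
  have hq0 : ((0 : ℤ) : F) = 0 := Int.cast_zero
  obtain ⟨ρb, hb⟩ := exists_rho hs h2
  obtain ⟨ρc, hc⟩ := exists_rho hs' h2
  obtain ⟨ρd, hd⟩ := pm10.exists_rho hs hq0
  obtain ⟨ρ6, h6⟩ := pm6.exists_rho hs hq3
  let T : ℕ → F := fun i => tr ((e.symm (ev v11 (rv i)) : P) : GL (Fin 10) F)
  obtain ⟨hA, hB, hCc, hD, hE⟩ := rels hC e T (fun i => rfl)
  have hy : (ev v11 [2])⁻¹ = ev v11 [2, 2, 2, 2, 2, 2, 2] := by
    rw [inv_eq_iff_mul_eq_one, ← ev_append, ← ev_nil v11]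
    exact sat_11.base (by decide +kernel)
  have hx : (ev v11 [5])⁻¹ = ev v11 [5, 5, 5, 5, 5, 5, 5, 5, 5, 5] := by
    rw [inv_eq_iff_mul_eq_one, ← ev_append, ← ev_nil v11]
    exact sat_11.base (by decide +kernel)
  -- the traces of the models
  have tb : ∀ i < 10, (ρb (ev v11 (rv i))).trace = zf 1 (rt i) := fun i hi => trace_rho hs hb hi
  have tc : ∀ i < 10, (ρc (ev v11 (rv i))).trace = zf (-1) (rt i) := fun i hi => trace_rho hs' hc hi
  have td : ∀ i < 10, (ρd (ev v11 (rv i))).trace = zf 1 (rtD i) := fun i hi => by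
    rw [pm10.trace hs hd hi, rtD_spec i hi]
  have t6 : ∀ i < 10, (ρ6 (ev v11 (rv i))).trace = zf 1 (rt6 i) := fun i hi => by
    rw [pm6.trace hs h6 hi, ← rt6_spec i hi, zf_red hq3]
  -- inverses of the representatives
  have hinv : ∀ i < 10, IsConj (ev v11 (rv ([0, 1, 2, 3, 4, 5, 7, 6, 9, 8].getD i 0))) (ev v11 (rv i))⁻¹ := by
    intro i hi
    have key : ∀ (c w r w' : List ℕ), eqW ((w ++ w').flatMap W) (([] : List ℕ).flatMap W) = true →
        eqW ((c ++ r).flatMap W) ((w' ++ c).flatMap W) = true → IsConj (ev v11 r) (ev v11 w)⁻¹ := by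
      intro c w r w' h1 h2
      have e1 : (ev v11 w)⁻¹ = ev v11 w' := by
        rw [inv_eq_iff_mul_eq_one, ← ev_append, ← ev_nil v11]
        exact ev_eq h1
      have e2 := ev_eq h2
      rw [ev_append, ev_append] at e2
      rw [e1, isConj_iff]
      exact ⟨ev v11 c, by rw [e2, mul_inv_cancel_right]⟩
    interval_cases i
    · exact key [] [] [] [] (by decide +kernel) (by decide +kernel)
    · exact key [] [3, 0, 3, 0, 3, 0] [3, 0, 3, 0, 3, 0] [3, 0, 3, 0, 3, 0] (by decide +kernel) (by decide +kernel)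
    · exact key [7] [3, 0, 3, 0] [3, 0, 3, 0] [3, 0, 3, 0, 3, 0, 3, 0] (by decide +kernel) (by decide +kernel)
    · exact key [3] [2, 2] [2, 2] [2, 2, 2, 2, 2, 2] (by decide +kernel) (by decide +kernel)
    · exact key [7] [6] [6] [6, 6, 6, 6] (by decide +kernel) (by decide +kernel)
    · exact key [8] [3, 0] [3, 0] [3, 0, 3, 0, 3, 0, 3, 0, 3, 0] (by decide +kernel) (by decide +kernel)
    · exact key [] [2] [2, 2, 2, 2, 2, 2, 2] [2, 2, 2, 2, 2, 2, 2] (by decide +kernel) (by decide +kernel)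
    · exact key [] [2, 2, 2, 2, 2, 2, 2] [2] [2] (by decide +kernel) (by decide +kernel)
    · exact key [] [5] [5, 5, 5, 5, 5, 5, 5, 5, 5, 5] [5, 5, 5, 5, 5, 5, 5, 5, 5, 5] (by decide +kernel) (by decide +kernel)
    · exact key [] [5, 5, 5, 5, 5, 5, 5, 5, 5, 5] [5] [5] (by decide +kernel) (by decide +kernel)
  have t6d : ∀ i < 10, (dual ρ6 (ev v11 (rv i))).trace = zf 1 (rt6 ([0, 1, 2, 3, 4, 5, 7, 6, 9, 8].getD i 0)) := by
    intro i hi
    rw [dual_trace, trace_cls ρ6 (hinv i hi), t6]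
    interval_cases i <;> norm_num
  let L : List (Rp Spor.M11 F) := [
    ⟨1, 1, -(T 0 - T 6 - T 7 + T 8) - (-T 0 - T 6 - T 7 - T 8)⟩,
    ⟨6, ρ6, T 0 - T 6 - T 7 + T 8⟩,
    ⟨6, dual ρ6, -T 0 - T 6 - T 7 - T 8⟩,
    ⟨10, ρd, -T 0 + T 1 + T 6 + T 7⟩,
    ⟨10, ρb, -T 0 + T 1 + T 6 - T 7 + T 8⟩,
    ⟨10, ρc, T 1 - T 6 + T 7 - T 8⟩]
  have hsum : ∀ g, (rhoP e g).trace = (L.map fun r => r.c * (r.ρ g).trace).sum := by
    intro g
    obtain ⟨i, hi, -⟩ := exists_rep ⟨MulEquiv.refl Spor.M11⟩ orders_11.1 orders_11.2.1 orders_11.2.2.1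
      orders_11.2.2.2 g
    rw [repsOf_eq] at hi
    have e1 : (rhoP e g).trace = T i := trace_cls _ hi
    rw [e1]
    simp only [L, List.map_cons, List.map_nil, List.sum_cons, List.sum_nil, trace_cls _ hi, tb i i.2, tc i i.2, td i i.2,
      t6 i i.2, t6d i i.2, MonoidHom.one_apply, Matrix.trace_one, Fintype.card_fin]
    fin_cases i
    · simp only [zf, rt, rt6, rtD, _root_.neg_add_rev, _root_.neg_sub, _root_.Nat.cast_one, _root_.mul_one, _root_.List.getD_eq_getElem?_getD, _root_.List.length_cons, _root_.List.length_nil, _root_.zero_add, _root_.Nat.reduceAdd, _root_.Nat.ofNat_pos, _root_.getElem?_pos, _root_.List.getElem_cons_zero, _root_.Option.getD_some, _root_.Int.cast_zero, _root_.add_zero, _root_.MulZeroClass.mul_zero, _root_.Int.reduceNeg, _root_.Int.cast_ofNat, _root_.mul_neg, _root_.neg_zero]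
      linear_combination (7 * T 0 - 10 * T 1 - 4 * T 6 - 4 * T 7) * h3
    · simp only [zf, rt, rt6, rtD, _root_.neg_add_rev, _root_.neg_sub, _root_.Nat.cast_one, _root_.mul_one, _root_.List.getD_eq_getElem?_getD, _root_.List.length_cons, _root_.List.length_nil, _root_.zero_add, _root_.Nat.reduceAdd, _root_.Nat.one_lt_ofNat, _root_.getElem?_pos, _root_.List.getElem_cons_succ, _root_.List.getElem_cons_zero, _root_.Option.getD_some, _root_.Int.cast_ofNat, _root_.Int.cast_zero, _root_.add_zero, _root_.Int.reduceNeg, _root_.Int.cast_neg, _root_.mul_neg, _root_.neg_zero]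
      linear_combination (1 * T 1) * h3
    · simp only [zf, rt, rt6, rtD, _root_.neg_add_rev, _root_.neg_sub, _root_.Nat.cast_one, _root_.mul_one, _root_.List.getD_eq_getElem?_getD, _root_.List.length_cons, _root_.List.length_nil, _root_.zero_add, _root_.Nat.reduceAdd, _root_.Nat.reduceLT, _root_.getElem?_pos, _root_.List.getElem_cons_succ, _root_.List.getElem_cons_zero, _root_.Option.getD_some, _root_.Int.cast_zero, _root_.add_zero, _root_.MulZeroClass.mul_zero, _root_.Int.reduceNeg, _root_.Int.cast_one, _root_.mul_neg, _root_.neg_zero, _root_.add_add_sub_cancel, _root_.sub_add_add_cancel]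
      linear_combination hD + (1 * T 0 - 1 * T 1 - 1 * T 6 - 1 * T 7) * h3
    · simp only [zf, rt, rt6, rtD, _root_.neg_add_rev, _root_.neg_sub, _root_.Nat.cast_one, _root_.mul_one, _root_.List.getD_eq_getElem?_getD, _root_.List.length_cons, _root_.List.length_nil, _root_.zero_add, _root_.Nat.reduceAdd, _root_.Nat.reduceLT, _root_.getElem?_pos, _root_.List.getElem_cons_succ, _root_.List.getElem_cons_zero, _root_.Option.getD_some, _root_.Int.cast_zero, _root_.add_zero, _root_.MulZeroClass.mul_zero, _root_.Int.reduceNeg, _root_.Int.cast_ofNat, _root_.mul_neg, _root_.neg_zero]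
      linear_combination - hA + hB + hCc + (1 * T 0 - 1 * T 1 - 1 * T 2 - 2 * T 4 - 1 * T 5 - 2 * T 6 - 2 * T 7 + 1 * T 8 + 1 * T 9) * h3
    · simp only [zf, rt, rt6, rtD, _root_.neg_add_rev, _root_.neg_sub, _root_.Nat.cast_one, _root_.mul_one, _root_.List.getD_eq_getElem?_getD, _root_.List.length_cons, _root_.List.length_nil, _root_.zero_add, _root_.Nat.reduceAdd, _root_.Nat.reduceLT, _root_.getElem?_pos, _root_.List.getElem_cons_succ, _root_.List.getElem_cons_zero, _root_.Option.getD_some, _root_.Int.cast_one, _root_.Int.cast_zero, _root_.add_zero, _root_.Int.reduceNeg, _root_.MulZeroClass.mul_zero, _root_.mul_neg, _root_.neg_zero, _root_.add_add_sub_cancel]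
      linear_combination hA + hB + hD + hE + (- 1 * T 2 - 1 * T 4 - 1 * T 5 - 2 * T 8 - 2 * T 9) * h3
    · simp only [zf, rt, rt6, rtD, _root_.neg_add_rev, _root_.neg_sub, _root_.Nat.cast_one, _root_.mul_one, _root_.List.getD_eq_getElem?_getD, _root_.List.length_cons, _root_.List.length_nil, _root_.zero_add, _root_.Nat.reduceAdd, _root_.Nat.reduceLT, _root_.getElem?_pos, _root_.List.getElem_cons_succ, _root_.List.getElem_cons_zero, _root_.Option.getD_some, _root_.Int.cast_ofNat, _root_.Int.cast_zero, _root_.add_zero, _root_.Int.reduceNeg, _root_.Int.cast_neg, _root_.Int.cast_one, _root_.mul_neg, _root_.neg_neg, _root_.neg_zero, _root_.add_add_sub_cancel, _root_.sub_add_add_cancel]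
      linear_combination hE + (1 * T 6 + 1 * T 7) * h3
    · simp only [zf, rt, rt6, rtD, _root_.neg_add_rev, _root_.neg_sub, _root_.Nat.cast_one, _root_.mul_one, _root_.List.getD_eq_getElem?_getD, _root_.List.length_cons, _root_.List.length_nil, _root_.zero_add, _root_.Nat.reduceAdd, _root_.Nat.reduceLT, _root_.getElem?_pos, _root_.List.getElem_cons_succ, _root_.List.getElem_cons_zero, _root_.Option.getD_some, _root_.Int.cast_ofNat, _root_.Int.cast_zero, _root_.add_zero, _root_.Int.cast_one, _root_.Int.reduceNeg, _root_.MulZeroClass.mul_zero, _root_.mul_neg]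
      linear_combination (1 * T 7 - 1 * T 8) * h3
    · simp only [zf, rt, rt6, rtD, _root_.neg_add_rev, _root_.neg_sub, _root_.Nat.cast_one, _root_.mul_one, _root_.List.getD_eq_getElem?_getD, _root_.List.length_cons, _root_.List.length_nil, _root_.zero_add, _root_.Nat.reduceAdd, _root_.Nat.reduceLT, _root_.getElem?_pos, _root_.List.getElem_cons_succ, _root_.List.getElem_cons_zero, _root_.Option.getD_some, _root_.Int.cast_one, _root_.Int.cast_zero, _root_.add_zero, _root_.Int.cast_ofNat, _root_.Int.reduceNeg, _root_.MulZeroClass.mul_zero, _root_.Int.cast_neg, _root_.mul_neg, _root_.neg_neg]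
      linear_combination (1 * T 6 + 1 * T 8) * h3
    · simp only [zf, rt, rt6, rtD, _root_.neg_add_rev, _root_.neg_sub, _root_.Nat.cast_one, _root_.mul_one, _root_.List.getD_eq_getElem?_getD, _root_.List.length_cons, _root_.List.length_nil, _root_.zero_add, _root_.Nat.reduceAdd, _root_.Nat.reduceLT, _root_.getElem?_pos, _root_.List.getElem_cons_succ, _root_.List.getElem_cons_zero, _root_.Option.getD_some, _root_.Int.cast_one, _root_.Int.cast_zero, _root_.add_zero, _root_.Nat.lt_add_one, _root_.MulZeroClass.mul_zero, _root_.Int.reduceNeg, _root_.Int.cast_neg, _root_.mul_neg, _root_.neg_neg, _root_.neg_zero]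
      linear_combination (- 1 * T 0 + 1 * T 1) * h3
    · simp only [zf, rt, rt6, rtD, _root_.neg_add_rev, _root_.neg_sub, _root_.Nat.cast_one, _root_.mul_one, _root_.List.getD_eq_getElem?_getD, _root_.List.length_cons, _root_.List.length_nil, _root_.zero_add, _root_.Nat.reduceAdd, _root_.Nat.lt_add_one, _root_.getElem?_pos, _root_.List.getElem_cons_succ, _root_.List.getElem_cons_zero, _root_.Option.getD_some, _root_.Int.cast_zero, _root_.add_zero, _root_.MulZeroClass.mul_zero, _root_.Nat.reduceLT, _root_.Int.cast_one, _root_.Int.reduceNeg, _root_.Int.cast_neg, _root_.mul_neg, _root_.neg_neg, _root_.neg_zero]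
      linear_combination - hA + (1 * T 1 + 2 * T 8 + 2 * T 9) * h3
  have hsp := span_rhoP hC e
  obtain ⟨r, hr, hker⟩ := exists_ker (by norm_num) hsp L hsum
  have hle := le_of_ker hsp hker
  simp only [L, List.mem_cons, List.not_mem_nil, or_false] at hr
  rcases hr with rfl | rfl | rfl | rfl | rfl | rfl
  · exact absurd hle (by norm_num)
  · exact absurd hle (by norm_num)
  · exact absurd hle (by norm_num)
  · exfalso
    apply hSD
    have ht : ∀ i < 10, T i = zf 1 (rtD i) := fun i hi => by rw [← td i hi]; exact trace_of_ker hsp hker _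
    apply sd_of_real e
    · exact (ht 7 (by norm_num)).trans (ht 6 (by norm_num)).symm
    · exact (ht 9 (by norm_num)).trans (ht 8 (by norm_num)).symm
  · exact ⟨1, hs, fun i hi => by rw [← tb i hi]; exact trace_of_ker hsp hker _⟩
  · exact ⟨-1, hs', fun i hi => by rw [← tc i hi]; exact trace_of_ker hsp hker _⟩

/-- **`SL_10(F)` : cores with socle `M11` are not maximal.** -/
theorem kill_linear {H P : Subgroup (GL (Fin 10) F)}
    (hH : IsMaximalIn (specialLinear (Fin 10) F) H)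
    (hR : IsResidualCore H P) (h : Spor.IsoM11 (Soc P)) (h2 : (2 : F) ≠ 0) (hSD : ¬ SD P) : False := by
  by_cases h3 : (3 : F) = 0
  · have hC := core_of_residual hR
    obtain ⟨e, -⟩ := exists_letters hC h
    have : Fact (Nat.Prime 3) := ⟨Nat.prime_three⟩
    have : CharP F 3 := by
      obtain ⟨p, hp⟩ := CharP.exists F
      have h4 : p ∣ 3 := (CharP.cast_eq_zero_iff F p 3).1 (by exact_mod_cast h3)
      rcases (Nat.dvd_prime Nat.prime_three).1 h4 with h5 | h5
      · subst h5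
        exact absurd (CharP.cast_eq_zero F 1) (by rw [Nat.cast_one]; exact one_ne_zero)
      · subst h5
        exact hp
    obtain ⟨s, hs, htr⟩ := htr_three hC e hSD
    exact kill_core hH hR e hs h2 htr (fun _ => sgl_det _ _ _) (fun _ h _ => h)
  · exact kill_linear_ne_three hH hR h h2 h3 hSD

end Cfsg.Agent.H840.M11
end

-- part: H923/Ten/Asm
section
/-!
# Dimension ten: assembly of the linear and the unitary row (helper923)
-/

set_option autoImplicit false
set_option linter.unusedSectionVars false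
set_option linter.style.haveILetI false

namespace Cfsg.Agent.H923.Ten.Asm

open Cfsg Cfsg.Geo Matrix
open H915.LD (Core Soc tr SD Fr Cj linear_core unitary_core not_fr_of_card q_eq_of_fr q_eq_of_cj)

universe u

variable {F : Type u} [Field F] [Fintype F] {H P : Subgroup (GL (Fin 10) F)}

theorem seven_ne {p : ℕ} [hp : Fact p.Prime] [CharP F p] (h : p ≠ 7) : (7 : F) ≠ 0 := by
  intro h0
  have h1 : ((7 : ℕ) : F) = 0 := by exact_mod_cast h0
  rw [CharP.cast_eq_zero_iff F p] at h1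
  exact h ((Nat.prime_dvd_prime_iff_eq hp.out (by norm_num)).1 h1)

theorem m11_two (hC : Core P) (p : ℕ) [hp : Fact p.Prime] [CharP F p] (hsd : ¬ SD P) (h : Spor.IsoM11 (Soc P)) : p ≠ 2 := by
  rcases H6.M11.m11 hC p h (by simp) with h1 | ⟨-, h1, -⟩ | ⟨-, ⟨h1, -⟩ | ⟨h1, -⟩⟩
  · exact (hsd h1).elim
  all_goals omega

theorem m11_sl (p : ℕ) [hp : Fact p.Prime] [CharP F p] (hR : IsResidualCore H P) (hC : Core P) (hsd : ¬ SD P)
    (h : Spor.IsoM11 (Soc P)) (hH : IsMaximalIn (specialLinear (Fin 10) F) H) : False :=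
  H840.M11.kill_linear hH hR h (two_ne (m11_two hC p hsd h)) hsd

theorem m11_su (p : ℕ) [hp : Fact p.Prime] [CharP F p] {q : ℕ} (hF : Fintype.card F = q ^ 2) (hR : IsResidualCore H P)
    (hC : Core P) (hsd : ¬ SD P)
    (h : Spor.IsoM11 (Soc P)) (hH : IsMaximalIn (Cfsg.GU 10 F q ⊓ specialLinear (Fin 10) F) H) : False :=
  H840.M11.kill_unitary hF hH hR h (two_ne (m11_two hC p hsd h)) hsd

/-- **The linear row.** -/
theorem lin (hk : ∀ P : Subgroup (GL (Fin 10) F), Core P → IsKnownSimple' (Soc P))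
    (H : Subgroup (GL (Fin 10) F)) (hH : IsMaximalIn (specialLinear (Fin 10) F) H) (hS : InLinearResidualClass H) :
    ∃ (P : Subgroup (GL (Fin 10) F)) (p : ℕ), IsResidualCore H P ∧ p.Prime ∧ CharP F p ∧
    ((Nonempty (Soc P ≃* ProjectiveSpecialLinearGroup (Fin 2) (ZMod 19)) ∧ Fintype.card F = p ∧
      (p % 19 = 1 ∨ p % 19 = 4 ∨ p % 19 = 5 ∨ p % 19 = 6 ∨ p % 19 = 7 ∨ p % 19 = 9 ∨ p % 19 = 11 ∨ p % 19 = 16 ∨ p % 19 = 17)) ∨
     (Cfsg.Spor.IsoM12 (Soc P) ∧ Fintype.card F = p ∧ (p % 8 = 1 ∨ p % 8 = 3)) ∨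
     (Cfsg.Spor.IsoM22 (Soc P) ∧ Fintype.card F = p ∧
      (p = 2 ∨ p % 28 = 1 ∨ p % 28 = 9 ∨ p % 28 = 25 ∨ p % 28 = 11 ∨ p % 28 = 15 ∨ p % 28 = 23)) ∨
     (Nonempty (Soc P ≃* ProjectiveSpecialLinearGroup (Fin 3) F) ∧ 5 ≤ p) ∨
     (Nonempty (Soc P ≃* ProjectiveSpecialLinearGroup (Fin 4) F) ∧ 3 ≤ p) ∨
     Nonempty (Soc P ≃* ProjectiveSpecialLinearGroup (Fin 5) F)) := by
  obtain ⟨p, hFp⟩ := CharP.exists F
  have hpp := CharP.char_is_prime F p
  haveI hp : Fact p.Prime := ⟨hpp⟩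
  obtain ⟨P, hR, hC, hsd, hcj⟩ := linear_core hS
  have hcj1 : ¬ Cj P p := by
    have := hcj p hp hFp 1
    rwa [pow_one] at this
  refine ⟨P, p, hR, hpp, hFp, ?_⟩
  by_cases hL : IsLieTypeChar p (Soc P)
  · rcases dc p hC hsd hL with h | ⟨K, i1, i2, m, ⟨e⟩, hKF, -, h⟩ | ⟨K, i1, i2, i3, N, q, hK, -, -, -, -, h⟩
    · exact absurd (h ▸ hR.le) (not_le_of_gt hH.1)
    · have hKF' : Fintype.card K = Fintype.card F := by
        rwa [Nat.card_eq_fintype_card, Nat.card_eq_fintype_card] at hKF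
      have e' := e.trans (LieClassical.SmallIso.pslCongr (Fin m) (FiniteField.ringEquivOfCardEq hKF'))
      rcases h with ⟨rfl, h5⟩ | ⟨rfl, h3⟩ | rfl
      · exact Or.inr (Or.inr (Or.inr (Or.inl ⟨⟨e'⟩, h5⟩)))
      · exact Or.inr (Or.inr (Or.inr (Or.inr (Or.inl ⟨⟨e'⟩, h3⟩))))
      · exact Or.inr (Or.inr (Or.inr (Or.inr (Or.inr ⟨e'⟩))))
    · exfalso
      obtain ⟨k, rfl⟩ := H920.Nine.exists_q_pow (F := K) p hK
      exact hcj p hp hFp k h
  · rcases cross p hC hsd (hk P hC) hL with ⟨h19, K, i1, i2, hK, ⟨e⟩⟩ | ⟨⟨e⟩⟩ | ⟨h2, h3, K, i1, i2, hK, ⟨e⟩⟩ |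
      ⟨h2, h7, K, i1, i2, hK, ⟨e⟩⟩ | h | ⟨h, h' | h'⟩ | ⟨h, h' | h'⟩
    · rcases (H464.Sl2.l2_19_10 p hC hK h19 e (by simp)).2.2 with ⟨h1, h2⟩ | ⟨-, h1, -⟩
      · exact Or.inl ⟨H912.Five.psl_zmod (by norm_num) ⟨K, i1, i2, hK, ⟨e⟩⟩, h1, h2⟩
      · exact (hcj1 h1).elim
    · exact (A7.ten_sl p hR hsd e hH).elim
    · exact (U42.ten_sl' p h2 h3 hR hK e hH).elim
    · exact (H840.L34.kill_linear hH hR hK e (two_ne h2) (seven_ne h7)).elim
    · exact (m11_sl p hR hC hsd h hH).elim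
    · exact Or.inr (Or.inl ⟨h, hC.card_eq p h'.2, h'.1⟩)
    · exact (hcj1 h'.2).elim
    · exact Or.inr (Or.inr (Or.inl ⟨h, hC.card_eq p h'.2, h'.1⟩))
    · exact (hcj1 h'.2).elim

/-- **The unitary row.** -/
theorem uni (hk : ∀ P : Subgroup (GL (Fin 10) F), Core P → IsKnownSimple' (Soc P))
    (q : ℕ) (hF : Fintype.card F = q ^ 2)
    (H : Subgroup (GL (Fin 10) F)) (hH : IsMaximalIn (Cfsg.GU 10 F q ⊓ specialLinear (Fin 10) F) H)
    (hS : InUnitaryResidualClass H) :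
    ∃ (P : Subgroup (GL (Fin 10) F)) (p : ℕ), IsResidualCore H P ∧ p.Prime ∧ CharP F p ∧
    ((Nonempty (Soc P ≃* ProjectiveSpecialLinearGroup (Fin 2) (ZMod 19)) ∧ q = p ∧ p ≠ 2 ∧
      (p % 19 = 2 ∨ p % 19 = 3 ∨ p % 19 = 8 ∨ p % 19 = 10 ∨ p % 19 = 12 ∨ p % 19 = 13 ∨ p % 19 = 14 ∨ p % 19 = 15 ∨ p % 19 = 18)) ∨
     (Cfsg.Spor.IsoM12 (Soc P) ∧ q = p ∧ (p % 8 = 5 ∨ p % 8 = 7)) ∨
     (Cfsg.Spor.IsoM22 (Soc P) ∧ q = p ∧
      (p % 28 = 5 ∨ p % 28 = 13 ∨ p % 28 = 17 ∨ p % 28 = 3 ∨ p % 28 = 19 ∨ p % 28 = 27)) ∨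
     (Nonempty (Soc P ≃* Cfsg.PSU 3 F q) ∧ 5 ≤ p) ∨
     (Nonempty (Soc P ≃* Cfsg.PSU 4 F q) ∧ 3 ≤ p) ∨
     Nonempty (Soc P ≃* Cfsg.PSU 5 F q)) := by
  obtain ⟨p, hFp⟩ := CharP.exists F
  have hpp := CharP.char_is_prime F p
  haveI hp : Fact p.Prime := ⟨hpp⟩
  obtain ⟨P, hR, hC, hsd⟩ := unitary_core hS
  have hPU : P ≤ Cfsg.GU 10 F q := fun g hg => (hH.1.le (hR.le hg)).1
  have hcjq : Cj P q := H920.Nine.cj_of_le_GU hF hPU
  have hnfr : ¬ Fr P p := not_fr_of_card hC p hF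
  refine ⟨P, p, hR, hpp, hFp, ?_⟩
  by_cases hL : IsLieTypeChar p (Soc P)
  · rcases dc p hC hsd hL with h | ⟨K, i1, i2, m, -, -, h, -⟩ | ⟨K, i1, i2, i3, N, q₀, hK, hN3, hN10, h32, ⟨e⟩, h⟩
    · exact absurd (le_trans inf_le_right (h ▸ hR.le)) (not_le_of_gt hH.1)
    · exfalso
      obtain ⟨k, rfl⟩ := H920.Nine.exists_q_pow (F := F) p hF
      exact h k hcjq
    · have hq2 := H48.NatSU.two_le_of_sq hK
      have fin : ∀ M : ℕ, (Soc P ≃* PSU M K q₀) → Fintype.card F = q₀ ^ 2 → Nonempty (Soc P ≃* PSU M F q) := by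
        intro M e hc
        obtain rfl : q = q₀ := by
          rw [hF] at hc
          exact Nat.pow_left_injective (n := 2) (by norm_num) hc
        exact ⟨e.trans (LieClassical.FieldTransfer.psuCongr M q (FiniteField.ringEquivOfCardEq (hK.trans hF.symm)))⟩
      have hN : N = 3 ∨ N = 4 ∨ N = 5 ∨ (6 ≤ N ∧ N ≠ 10) ∨ N = 10 := by omega
      rcases hN with rfl | rfl | rfl | hN | rfl
      · rcases H929.U3.core_psu3 p hC (by omega) hK e (by simp) with h1 | ⟨h1, h2⟩
        · exact (hsd h1).elim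
        · rw [Fintype.card_fin] at h2
          exact Or.inr (Or.inr (Or.inr (Or.inl ⟨fin 3 e (by rwa [Nat.card_eq_fintype_card] at h1), by omega⟩)))
      · have h1 := H876.D3.core_psu_four p K (by simp) hK hC e
        rw [Fintype.card_fin] at h1
        have h2p := hpp.two_le
        have h3 := (H887.D3.psu4_ten p K hK hC e (by simp)).1
        rw [Nat.card_eq_fintype_card] at h3
        exact Or.inr (Or.inr (Or.inr (Or.inr (Or.inl ⟨fin 4 e h3, by omega⟩))))
      · have h3 := (H887.D3.psu5_ten p K hK hC e (by simp)).1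
        rw [Nat.card_eq_fintype_card] at h3
        exact Or.inr (Or.inr (Or.inr (Or.inr (Or.inr (fin 5 e h3)))))
      · exfalso
        have h1 := H876.D3.core_psu_six p K hN.1 (by simp) hK hC e
        rw [Fintype.card_fin] at h1
        omega
      · exfalso
        have h1 := H48.NatSU.psu_eq hC p hF hPU hK (by norm_num) (by norm_num) e rfl
        exact absurd (h1.2 ▸ hR.le) (not_le_of_gt hH.1)
  · rcases cross p hC hsd (hk P hC) hL with ⟨h19, K, i1, i2, hK, ⟨e⟩⟩ | ⟨⟨e⟩⟩ | ⟨h2, h3, K, i1, i2, hK, ⟨e⟩⟩ |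
      ⟨h2, h7, K, i1, i2, hK, ⟨e⟩⟩ | h | ⟨h, h' | h'⟩ | ⟨h, h' | h'⟩
    · obtain ⟨⟨-, hp2⟩, -, h4⟩ := H464.Sl2.l2_19_10 p hC hK h19 e (by simp)
      rcases h4 with ⟨h1, -⟩ | ⟨-, h1, h2⟩
      · exfalso
        refine hnfr ?_
        intro g hg
        rw [← h1]
        exact FiniteField.pow_card _
      · exact Or.inl ⟨H912.Five.psl_zmod (by norm_num) ⟨K, i1, i2, hK, ⟨e⟩⟩, q_eq_of_cj hC p hF h1, hp2, h2⟩
    · exact (A7.ten_su p hF hR hsd e hH).elim
    · exact (U42.ten_su' p h2 h3 hF hR hK e hH).elim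
    · exact (H840.L34.kill_unitary hF hH hR hK e (two_ne h2) (seven_ne h7)).elim
    · exact (m11_su p hF hR hC hsd h hH).elim
    · exact (hnfr h'.2).elim
    · exact Or.inr (Or.inl ⟨h, q_eq_of_cj hC p hF h'.2, h'.1⟩)
    · exact (hnfr h'.2).elim
    · exact Or.inr (Or.inr (Or.inl ⟨h, q_eq_of_cj hC p hF h'.2, h'.1⟩))

end Cfsg.Agent.H923.Ten.Asm
end

private theorem dce_b5e77efc876d : _root_.True := by
  try have : _root_.True := by simp only [_root_.Cfsg.Agent.H840.M11.rt6.eq_1]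
  try have : _root_.True := by simp only [_root_.Cfsg.Agent.H840.M11.rt.eq_1]
  try have : _root_.True := by simp only [_root_.Cfsg.Agent.H923.Ten.U42.Phi.congr_simp]
  try have : _root_.True := by simp only [_root_.Cfsg.Agent.H840.M11.rtD.eq_1]
  exact _root_.True.intro
end
end
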