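import Cfsg.Agent.H937.T2Rep_m3
import Mathlib.NumberTheory.Zsqrtd.Basic
import Cfsg.Agent.Lib.FinFast
import Cfsg.Agent.S0814
import Cfsg.Agent.S0245
import Cfsg.Agent.H840.M11.Rho_m3
import Cfsg.Agent.H6.M11.Main11
import Cfsg.Agent.FastGrp
import Cfsg.Agent.Prune
set_option linter.all false

section
prune_inst 0x7f00000000000000000000000000000000000000000000000000000000000000000000000000000000000000000000000000000000000000000000000000000000000000000000000000000000000000003fffffffffffffffffffffffffffbeffbdffffffff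

-- part: H923/Ten/U42Chk
section
set_option linter.all false
open scoped Cfsg.Agent.FastGrp

-- part: H923/Ten/U42Tab
section
/-!
# Tables for the ten-dimensional module of `PSp₄(3)` (helper923)
-/

set_option autoImplicit false
set_option maxRecDepth 20000
set_option maxHeartbeats 2000000

namespace Cfsg.Agent.H923.Ten.U42

open Cfsg.Agent.H659.Sp4 Cfsg.Agent.H659.SevenU42

/-- points: class -/
def cls : Fin 40 → Fin 3 := ![0, 1, 1, 1, 1, 1, 1, 1, 1, 1, 1, 1, 1, 2, 2, 2, 2, 2, 2, 2, 2, 2, 2, 2, 2, 2, 2, 2, 2, 2, 2, 2, 2, 2, 2, 2, 2, 2, 2, 2]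

/-- points: first part of the representative -/
def lT : Fin 40 → Fin 3 × Fin 3 × Fin 3 × Fin 4 × Fin 2 × Fin 3 × Fin 2 := ![(0, 0, 0, 0, 0, 0, 0), (0, 0, 0, 1, 0, 0, 0), (0, 0, 0, 0, 0, 0, 0), (0, 0, 0, 2, 0, 0, 0), (0, 0, 0, 3, 0, 0, 0), (1, 0, 0, 1, 0, 0, 0), (2, 0, 0, 1, 0, 0, 0), (0, 1, 0, 0, 0, 0, 0), (0, 1, 0, 2, 0, 0, 0), (0, 1, 0, 3, 0, 0, 0), (0, 2, 0, 0, 0, 0, 0), (0, 2, 0, 3, 0, 0, 0), (0, 2, 0, 2, 0, 0, 0), (0, 0, 0, 0, 0, 0, 0), (0, 2, 0, 0, 0, 0, 0), (0, 1, 0, 0, 0, 0, 0), (1, 0, 0, 0, 0, 0, 0), (1, 2, 2, 0, 0, 0, 0), (1, 1, 1, 0, 0, 0, 0), (2, 0, 0, 0, 0, 0, 0), (2, 1, 2, 0, 0, 0, 0), (2, 2, 1, 0, 0, 0, 0), (0, 0, 1, 0, 0, 0, 0), (0, 2, 1, 0, 0, 0, 0), (0, 1, 1, 0, 0, 0, 0), (0, 0, 2, 0, 0, 0, 0), (0, 1, 2, 0, 0, 0, 0), (0, 2, 2, 0, 0, 0, 0), (1, 0, 1, 0, 0, 0, 0), (1, 2, 0, 0, 0, 0, 0), (1, 1, 2, 0, 0, 0, 0), (2, 0, 2, 0, 0, 0, 0), (2, 1, 1, 0, 0, 0, 0), (2, 2, 0, 0, 0, 0, 0),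 (2, 0, 1, 0, 0, 0, 0), (2, 2, 2, 0, 0, 0, 0), (2, 1, 0, 0, 0, 0, 0), (1, 0, 2, 0, 0, 0, 0), (1, 1, 0, 0, 0, 0, 0), (1, 2, 1, 0, 0, 0, 0)]

def pi_y : Fin 40 → Fin 40 := ![0, 1, 7, 8, 9, 5, 6, 10, 12, 11, 2, 4, 3, 15, 13, 14, 30, 28, 29, 32, 33, 31, 24, 22, 23, 26, 27, 25, 38, 37, 39, 36, 35, 34, 20, 19, 21, 18, 17, 16]

def nl_y : Fin 40 → Fin 3 × Fin 3 × Fin 3 × Fin 4 × Fin 2 × Fin 3 × Fin 2 := ![(0, 1, 0, 0, 0, 0, 0), (2, 0, 0, 0, 0, 0, 0), (0, 0, 0, 0, 0, 0, 0), (0, 0, 0, 0, 0, 0, 0), (0, 0, 0, 0, 0, 0, 0), (2, 0, 0, 0, 0, 2, 0), (2, 0, 0, 0, 0, 1, 0), (0, 0, 0, 0, 0, 0, 0), (0, 0, 0, 0, 0, 0, 0), (0, 0, 0, 0, 0, 0, 0), (0, 0, 0, 0, 0, 0, 0), (0, 0, 0, 0, 0, 0, 0), (0, 0, 0, 0, 0, 0, 0), (0, 0, 0, 0, 0, 0, 0), (0, 0, 0, 0, 0, 0, 0), (0, 0, 0, 0, 0, 0, 0), (0, 0, 0, 0, 0, 0, 0), (0, 0, 0, 0, 0, 0, 0), (0, 0, 0, 0, 0, 0, 0), (0, 0, 0, 0, 0, 0, 0), (0, 0, 0, 0, 0, 0, 0), (0, 0, 0, 0, 0, 0, 0),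 (0, 0, 0, 0, 0, 0, 0), (0, 0, 0, 0, 0, 0, 0), (0, 0, 0, 0, 0, 0, 0), (0, 0, 0, 0, 0, 0, 0), (0, 0, 0, 0, 0, 0, 0), (0, 0, 0, 0, 0, 0, 0), (0, 0, 0, 0, 0, 0, 0), (0, 0, 0, 0, 0, 0, 0), (0, 0, 0, 0, 0, 0, 0), (0, 0, 0, 0, 0, 0, 0), (0, 0, 0, 0, 0, 0, 0), (0, 0, 0, 0, 0, 0, 0), (0, 0, 0, 0, 0, 0, 0), (0, 0, 0, 0, 0, 0, 0), (0, 0, 0, 0, 0, 0, 0), (0, 0, 0, 0, 0, 0, 0), (0, 0, 0, 0, 0, 0, 0), (0, 0, 0, 0, 0, 0, 0)]

def pi_s : Fin 40 → Fin 40 := ![2, 13, 0, 22, 25, 16, 19, 7, 28, 31, 10, 37, 34, 1, 14, 15, 5, 23, 26, 6, 24, 27, 3, 17, 20, 4, 18, 21, 8, 29, 32, 9, 30, 33, 12, 39, 36, 11, 38, 35]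

def nl_s : Fin 40 → Fin 3 × Fin 3 × Fin 3 × Fin 4 × Fin 2 × Fin 3 × Fin 2 := ![(0, 0, 0, 0, 0, 0, 0), (0, 0, 0, 0, 0, 0, 0), (0, 0, 0, 0, 0, 0, 0), (0, 0, 2, 0, 0, 0, 0), (0, 0, 1, 0, 0, 0, 0), (0, 0, 0, 0, 0, 0, 0), (0, 0, 0, 0, 0, 0, 0), (0, 2, 0, 0, 1, 0, 0), (2, 0, 2, 0, 0, 1, 0), (2, 0, 1, 0, 0, 2, 0), (0, 1, 0, 0, 0, 0, 1), (1, 0, 1, 0, 0, 2, 0), (1, 0, 2, 0, 0, 1, 0), (0, 0, 0, 0, 0, 0, 0), (2, 0, 0, 0, 1, 0, 0), (1, 0, 0, 0, 0, 0, 1), (0, 0, 0, 0, 0, 0, 0), (2, 0, 0, 0, 1, 2, 0), (1, 0, 0, 0, 0, 1, 1), (0, 0, 0, 0, 0, 0, 0), (1, 0, 0, 0, 0, 2, 1), (2, 0, 0, 0, 1, 1, 0), (0, 0, 1, 0, 0, 0, 0), (2, 0, 0, 0, 1, 1, 0), (1, 0, 0, 0, 0, 1, 1), (0, 0, 2, 0, 0, 0, 0), (1, 0, 0, 0, 0, 2, 1), (2, 0, 0, 0, 1, 2, 0), (1, 0, 1, 0, 0, 2, 0), (2, 0, 0, 0, 1, 0, 0), (1, 0, 0, 0, 0, 2, 1), (1, 0, 2, 0, 0, 1, 0), (1, 0, 0, 0, 0, 1, 1), (2, 0, 0, 0, 1, 0, 0), (2, 0, 1, 0, 0, 2, 0), (2, 0, 0, 0, 1, 2, 0),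 (1, 0, 0, 0, 0, 0, 1), (2, 0, 2, 0, 0, 1, 0), (1, 0, 0, 0, 0, 0, 1), (2, 0, 0, 0, 1, 1, 0)]

def pi_j : Fin 40 → Fin 40 := ![0, 2, 1, 4, 3, 10, 7, 5, 11, 8, 6, 12, 9, 13, 19, 16, 14, 21, 17, 15, 18, 20, 22, 34, 28, 25, 37, 31, 23, 35, 29, 26, 38, 32, 24, 36, 30, 27, 39, 33]

def nl_j : Fin 40 → Fin 3 × Fin 3 × Fin 3 × Fin 4 × Fin 2 × Fin 3 × Fin 2 := ![(0, 0, 0, 1, 0, 0, 0), (0, 0, 0, 0, 0, 0, 1), (0, 0, 0, 0, 0, 0, 0), (0, 0, 0, 0, 0, 0, 0), (0, 0, 0, 0, 0, 0, 1), (0, 0, 0, 0, 0, 0, 1), (0, 0, 0, 0, 0, 0, 1), (0, 0, 0, 0, 0, 0, 0), (2, 0, 0, 0, 0, 1, 0), (1, 0, 0, 0, 0, 2, 1), (0, 0, 0, 0, 0, 0, 0), (2, 0, 0, 0, 0, 2, 1), (1, 0, 0, 0, 0, 1, 0), (0, 0, 0, 1, 0, 0, 0), (0, 0, 0, 1, 0, 0, 0), (0, 0, 0, 1, 0, 0, 0), (0, 0, 0, 1, 0, 0, 0), (0, 0, 0, 1, 0, 0, 0), (0, 0, 0, 1, 0, 0, 0), (0, 0, 0, 1, 0, 0, 0), (0, 0, 0, 1, 0, 0, 0), (0, 0, 0, 1, 0, 0, 0), (0, 0, 0, 1, 0, 0, 0), (0, 0, 0, 1, 0, 0, 0),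 (0, 0, 0, 1, 0, 0, 0), (0, 0, 0, 1, 0, 0, 0), (0, 0, 0, 1, 0, 0, 0), (0, 0, 0, 1, 0, 0, 0), (0, 0, 0, 1, 0, 0, 0), (0, 0, 0, 1, 0, 0, 0), (0, 0, 0, 1, 0, 0, 0), (0, 0, 0, 1, 0, 0, 0), (0, 0, 0, 1, 0, 0, 0), (0, 0, 0, 1, 0, 0, 0), (0, 0, 0, 1, 0, 0, 0), (0, 0, 0, 1, 0, 0, 0), (0, 0, 0, 1, 0, 0, 0), (0, 0, 0, 1, 0, 0, 0), (0, 0, 0, 1, 0, 0, 0), (0, 0, 0, 1, 0, 0, 0)]

/-- entries `p + q √-3` -/
def Sl : List (List (List (ℤ × ℤ))) := [
  ([[(0, 0), (0, 0), (0, 0), (0, 0)], [(0, 0), (6, 0), (0, 0), (0, 0)], [(0, 0), (0, 0), (0, 0), (0, 0)], [(0, 0), (0, 0), (0, 0), (0, 0)]] : List (List (ℤ × ℤ))),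
  ([[(-2, 0), (0, 0), (-2, 0), (-2, 0)], [(0, 0), (0, 0), (0, 0), (0, 0)], [(-2, 0), (0, 0), (-2, 0), (-2, 0)], [(-2, 0), (0, 0), (-2, 0), (-2, 0)]] : List (List (ℤ × ℤ))),
  ([[(6, 0), (0, 0), (0, 0), (0, 0)], [(0, 0), (0, 0), (0, 0), (0, 0)], [(0, 0), (0, 0), (0, 0), (0, 0)], [(0, 0), (0, 0), (0, 0), (0, 0)]] : List (List (ℤ × ℤ))),
  ([[(-2, 0), (0, 0), (1, -1), (1, -1)], [(0, 0), (0, 0), (0, 0), (0, 0)], [(1, -1), (0, 0), (1, 1), (1, 1)], [(1, -1), (0, 0), (1, 1), (1, 1)]] : List (List (ℤ × ℤ))),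
  ([[(-2, 0), (0, 0), (1, 1), (1, 1)], [(0, 0), (0, 0), (0, 0), (0, 0)], [(1, 1), (0, 0), (1, -1), (1, -1)], [(1, 1), (0, 0), (1, -1), (1, -1)]] : List (List (ℤ × ℤ))),
  ([[(-2, 0), (0, 0), (1, 1), (1, -1)], [(0, 0), (0, 0), (0, 0), (0, 0)], [(1, 1), (0, 0), (1, -1), (-2, 0)], [(1, -1), (0, 0), (-2, 0), (1, 1)]] : List (List (ℤ × ℤ))),
  ([[(-2, 0), (0, 0), (1, -1), (1, 1)], [(0, 0), (0, 0), (0, 0), (0, 0)], [(1, -1), (0, 0), (1, 1), (-2, 0)], [(1, 1), (0, 0), (-2, 0), (1, -1)]] : List (List (ℤ × ℤ))),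
  ([[(0, 0), (0, 0), (0, 0), (0, 0)], [(0, 0), (0, 0), (0, 0), (0, 0)], [(0, 0), (0, 0), (0, 0), (0, 0)], [(0, 0), (0, 0), (0, 0), (6, 0)]] : List (List (ℤ × ℤ))),
  ([[(1, 1), (0, 0), (1, 1), (1, -1)], [(0, 0), (0, 0), (0, 0), (0, 0)], [(1, 1), (0, 0), (1, 1), (1, -1)], [(1, -1), (0, 0), (1, -1), (-2, 0)]] : List (List (ℤ × ℤ))),
  ([[(1, -1), (0, 0), (1, -1), (1, 1)], [(0, 0), (0, 0), (0, 0), (0, 0)], [(1, -1), (0, 0), (1, -1), (1, 1)], [(1, 1), (0, 0), (1, 1), (-2, 0)]] : List (List (ℤ × ℤ))),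
  ([[(0, 0), (0, 0), (0, 0), (0, 0)], [(0, 0), (0, 0), (0, 0), (0, 0)], [(0, 0), (0, 0), (6, 0), (0, 0)], [(0, 0), (0, 0), (0, 0), (0, 0)]] : List (List (ℤ × ℤ))),
  ([[(1, -1), (0, 0), (1, 1), (1, -1)], [(0, 0), (0, 0), (0, 0), (0, 0)], [(1, 1), (0, 0), (-2, 0), (1, 1)], [(1, -1), (0, 0), (1, 1), (1, -1)]] : List (List (ℤ × ℤ))),
  ([[(1, 1), (0, 0), (1, -1), (1, 1)], [(0, 0), (0, 0), (0, 0), (0, 0)], [(1, -1), (0, 0), (-2, 0), (1, -1)], [(1, 1), (0, 0), (1, -1), (1, 1)]] : List (List (ℤ × ℤ))),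
  ([[(0, 0), (0, 0), (0, 0), (0, 0)], [(0, 0), (-2, 0), (-2, 0), (2, 0)], [(0, 0), (-2, 0), (-2, 0), (2, 0)], [(0, 0), (2, 0), (2, 0), (-2, 0)]] : List (List (ℤ × ℤ))),
  ([[(-2, 0), (2, 0), (0, 0), (2, 0)], [(2, 0), (-2, 0), (0, 0), (-2, 0)], [(0, 0), (0, 0), (0, 0), (0, 0)], [(2, 0), (-2, 0), (0, 0), (-2, 0)]] : List (List (ℤ × ℤ))),
  ([[(-2, 0), (-2, 0), (2, 0), (0, 0)], [(-2, 0), (-2, 0), (2, 0), (0, 0)], [(2, 0), (2, 0), (-2, 0), (0, 0)], [(0, 0), (0, 0), (0, 0), (0, 0)]] : List (List (ℤ × ℤ))),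
  ([[(0, 0), (0, 0), (0, 0), (0, 0)], [(0, 0), (-2, 0), (1, 1), (-1, 1)], [(0, 0), (1, 1), (1, -1), (2, 0)], [(0, 0), (-1, 1), (2, 0), (1, 1)]] : List (List (ℤ × ℤ))),
  ([[(1, -1), (-1, -1), (0, 0), (-1, -1)], [(-1, -1), (-2, 0), (0, 0), (-2, 0)], [(0, 0), (0, 0), (0, 0), (0, 0)], [(-1, -1), (-2, 0), (0, 0), (-2, 0)]] : List (List (ℤ × ℤ))),
  ([[(1, 1), (1, -1), (-1, 1), (0, 0)], [(1, -1), (-2, 0), (2, 0), (0, 0)], [(-1, 1), (2, 0), (-2, 0), (0, 0)], [(0, 0), (0, 0), (0, 0), (0, 0)]] : List (List (ℤ × ℤ))),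
  ([[(0, 0), (0, 0), (0, 0), (0, 0)], [(0, 0), (-2, 0), (1, -1), (-1, -1)], [(0, 0), (1, -1), (1, 1), (2, 0)], [(0, 0), (-1, -1), (2, 0), (1, -1)]] : List (List (ℤ × ℤ))),
  ([[(1, -1), (1, 1), (-1, -1), (0, 0)], [(1, 1), (-2, 0), (2, 0), (0, 0)], [(-1, -1), (2, 0), (-2, 0), (0, 0)], [(0, 0), (0, 0), (0, 0), (0, 0)]] : List (List (ℤ × ℤ))),
  ([[(1, 1), (-1, 1), (0, 0), (-1, 1)], [(-1, 1), (-2, 0), (0, 0), (-2, 0)], [(0, 0), (0, 0), (0, 0), (0, 0)], [(-1, 1), (-2, 0), (0, 0), (-2, 0)]] : List (List (ℤ × ℤ))),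
  ([[(0, 0), (0, 0), (0, 0), (0, 0)], [(0, 0), (-2, 0), (1, -1), (-1, 1)], [(0, 0), (1, -1), (1, 1), (-1, -1)], [(0, 0), (-1, 1), (-1, -1), (1, 1)]] : List (List (ℤ × ℤ))),
  ([[(1, 1), (-1, 1), (0, 0), (-1, -1)], [(-1, 1), (-2, 0), (0, 0), (1, -1)], [(0, 0), (0, 0), (0, 0), (0, 0)], [(-1, -1), (1, -1), (0, 0), (1, 1)]] : List (List (ℤ × ℤ))),
  ([[(1, 1), (1, -1), (-1, -1), (0, 0)], [(1, -1), (-2, 0), (-1, 1), (0, 0)], [(-1, -1), (-1, 1), (1, 1), (0, 0)], [(0, 0), (0, 0), (0, 0), (0, 0)]] : List (List (ℤ × ℤ))),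
  ([[(0, 0), (0, 0), (0, 0), (0, 0)], [(0, 0), (-2, 0), (1, 1), (-1, -1)], [(0, 0), (1, 1), (1, -1), (-1, 1)], [(0, 0), (-1, -1), (-1, 1), (1, -1)]] : List (List (ℤ × ℤ))),
  ([[(1, -1), (1, 1), (-1, 1), (0, 0)], [(1, 1), (-2, 0), (-1, -1), (0, 0)], [(-1, 1), (-1, -1), (1, -1), (0, 0)], [(0, 0), (0, 0), (0, 0), (0, 0)]] : List (List (ℤ × ℤ))),
  ([[(1, -1), (-1, -1), (0, 0), (-1, 1)], [(-1, -1), (-2, 0), (0, 0), (1, 1)], [(0, 0), (0, 0), (0, 0), (0, 0)], [(-1, 1), (1, 1), (0, 0), (1, -1)]] : List (List (ℤ × ℤ))),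
  ([[(0, 0), (0, 0), (0, 0), (0, 0)], [(0, 0), (-2, 0), (-2, 0), (-1, -1)], [(0, 0), (-2, 0), (-2, 0), (-1, -1)], [(0, 0), (-1, -1), (-1, -1), (1, -1)]] : List (List (ℤ × ℤ))),
  ([[(-2, 0), (2, 0), (0, 0), (-1, 1)], [(2, 0), (-2, 0), (0, 0), (1, -1)], [(0, 0), (0, 0), (0, 0), (0, 0)], [(-1, 1), (1, -1), (0, 0), (1, 1)]] : List (List (ℤ × ℤ))),
  ([[(1, -1), (1, 1), (2, 0), (0, 0)], [(1, 1), (-2, 0), (-1, 1), (0, 0)], [(2, 0), (-1, 1), (1, 1), (0, 0)], [(0, 0), (0, 0), (0, 0), (0, 0)]] : List (List (ℤ × ℤ))),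
  ([[(0, 0), (0, 0), (0, 0), (0, 0)], [(0, 0), (-2, 0), (-2, 0), (-1, 1)], [(0, 0), (-2, 0), (-2, 0), (-1, 1)], [(0, 0), (-1, 1), (-1, 1), (1, 1)]] : List (List (ℤ × ℤ))),
  ([[(1, 1), (1, -1), (2, 0), (0, 0)], [(1, -1), (-2, 0), (-1, -1), (0, 0)], [(2, 0), (-1, -1), (1, -1), (0, 0)], [(0, 0), (0, 0), (0, 0), (0, 0)]] : List (List (ℤ × ℤ))),
  ([[(-2, 0), (2, 0), (0, 0), (-1, -1)], [(2, 0), (-2, 0), (0, 0), (1, 1)], [(0, 0), (0, 0), (0, 0), (0, 0)], [(-1, -1), (1, 1), (0, 0), (1, -1)]] : List (List (ℤ × ℤ))),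
  ([[(0, 0), (0, 0), (0, 0), (0, 0)], [(0, 0), (-2, 0), (1, 1), (2, 0)], [(0, 0), (1, 1), (1, -1), (-1, -1)], [(0, 0), (2, 0), (-1, -1), (-2, 0)]] : List (List (ℤ × ℤ))),
  ([[(1, -1), (-1, -1), (0, 0), (2, 0)], [(-1, -1), (-2, 0), (0, 0), (1, -1)], [(0, 0), (0, 0), (0, 0), (0, 0)], [(2, 0), (1, -1), (0, 0), (1, 1)]] : List (List (ℤ × ℤ))),
  ([[(-2, 0), (-2, 0), (-1, 1), (0, 0)], [(-2, 0), (-2, 0), (-1, 1), (0, 0)], [(-1, 1), (-1, 1), (1, 1), (0, 0)], [(0, 0), (0, 0), (0, 0), (0, 0)]] : List (List (ℤ × ℤ))),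
  ([[(0, 0), (0, 0), (0, 0), (0, 0)], [(0, 0), (-2, 0), (1, -1), (2, 0)], [(0, 0), (1, -1), (1, 1), (-1, 1)], [(0, 0), (2, 0), (-1, 1), (-2, 0)]] : List (List (ℤ × ℤ))),
  ([[(-2, 0), (-2, 0), (-1, -1), (0, 0)], [(-2, 0), (-2, 0), (-1, -1), (0, 0)], [(-1, -1), (-1, -1), (1, -1), (0, 0)], [(0, 0), (0, 0), (0, 0), (0, 0)]] : List (List (ℤ × ℤ))),
  ([[(1, 1), (-1, 1), (0, 0), (2, 0)], [(-1, 1), (-2, 0), (0, 0), (1, 1)], [(0, 0), (0, 0), (0, 0), (0, 0)], [(2, 0), (1, 1), (0, 0), (1, -1)]] : List (List (ℤ × ℤ)))]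

def Ml_y : List (List (ℤ × ℤ)) := [[(0, 0), (0, 0), (0, 2), (0, 0)], [(0, 0), (0, 2), (0, 0), (0, 0)], [(0, 0), (0, 0), (0, 0), (0, 2)], [(0, 2), (0, 0), (0, 0), (0, 0)]]

def Ml_s : List (List (ℤ × ℤ)) := [[(0, 0), (0, -2), (0, 0), (0, 0)], [(0, -2), (0, 0), (0, 0), (0, 0)], [(0, 0), (0, 0), (0, -2), (0, 0)], [(0, 0), (0, 0), (0, 0), (0, 2)]]

def Ml_j : List (List (ℤ × ℤ)) := [[(2, 0), (0, 0), (2, 0), (2, 0)], [(0, 0), (0, 2), (0, 0), (0, 0)], [(2, 0), (0, 0), (-1, 1), (-1, -1)], [(2, 0), (0, 0), (-1, -1), (-1, 1)]]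

end Cfsg.Agent.H923.Ten.U42
end

-- part: H923/Ten/U42Chk
section
/-!
# Checks on the tables (helper923)
-/

set_option autoImplicit false
set_option maxRecDepth 20000

namespace Cfsg.Agent.H923.Ten.U42

open Cfsg.Agent.H659.Sp4 Cfsg.Agent.H659.SevenU42

def p3 (g : Sp) (a : Fin 3) : Sp := ![1, g, g * g] a
def p2 (g : Sp) (a : Fin 2) : Sp := ![1, g] a

/-- the quaternion part -/
def qT : Fin 4 → Sp := ![1, jG, U 4 1 * jG * (U 4 1 * U 4 1), (U 4 1 * U 4 1) * jG * U 4 1]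

/-- normal form of the elements of the stabiliser of a point -/
def nf (q : Fin 3 × Fin 3 × Fin 3 × Fin 4 × Fin 2 × Fin 3 × Fin 2) : Sp :=
  p3 (U 6 2) q.1 * p3 (U 5 1) q.2.1 * p3 (U 7 2) q.2.2.1 * qT q.2.2.2.1 * p2 (jG * jG) q.2.2.2.2.1 *
    p3 (U 4 1) q.2.2.2.2.2.1 * p2 hG q.2.2.2.2.2.2

/-- representatives of the double cosets -/
def rep : Fin 3 → Sp := ![1, sG, nG]

/-- representatives of the cosets -/
def gT (t : Fin 40) : Sp := nf (lT t) * rep (cls t)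

set_option genSizeOf false in
set_option genInjectivity false in
private structure KM where
  (a00 a01 a02 a03 a10 a11 a12 a13 a20 a21 a22 a23 a30 a31 a32 a33 : ℕ)

private noncomputable def KM.mul (a b : KM) : KM :=
  KM.rec (fun a00 a01 a02 a03 a10 a11 a12 a13 a20 a21 a22 a23 a30 a31 a32 a33 => KM.rec (fun b00 b01 b02 b03 b10 b11 b12 b13 b20 b21 b22 b23 b30 b31 b32 b33 => KM.mk
    (Nat.mod (Nat.add (Nat.add (Nat.mul a00 b00) (Nat.mul a01 b10)) (Nat.add (Nat.mul a02 b20) (Nat.mul a03 b30))) 3)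
    (Nat.mod (Nat.add (Nat.add (Nat.mul a00 b01) (Nat.mul a01 b11)) (Nat.add (Nat.mul a02 b21) (Nat.mul a03 b31))) 3)
    (Nat.mod (Nat.add (Nat.add (Nat.mul a00 b02) (Nat.mul a01 b12)) (Nat.add (Nat.mul a02 b22) (Nat.mul a03 b32))) 3)
    (Nat.mod (Nat.add (Nat.add (Nat.mul a00 b03) (Nat.mul a01 b13)) (Nat.add (Nat.mul a02 b23) (Nat.mul a03 b33))) 3)
    (Nat.mod (Nat.add (Nat.add (Nat.mul a10 b00) (Nat.mul a11 b10)) (Nat.add (Nat.mul a12 b20) (Nat.mul a13 b30))) 3)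
    (Nat.mod (Nat.add (Nat.add (Nat.mul a10 b01) (Nat.mul a11 b11)) (Nat.add (Nat.mul a12 b21) (Nat.mul a13 b31))) 3)
    (Nat.mod (Nat.add (Nat.add (Nat.mul a10 b02) (Nat.mul a11 b12)) (Nat.add (Nat.mul a12 b22) (Nat.mul a13 b32))) 3)
    (Nat.mod (Nat.add (Nat.add (Nat.mul a10 b03) (Nat.mul a11 b13)) (Nat.add (Nat.mul a12 b23) (Nat.mul a13 b33))) 3)
    (Nat.mod (Nat.add (Nat.add (Nat.mul a20 b00) (Nat.mul a21 b10)) (Nat.add (Nat.mul a22 b20) (Nat.mul a23 b30))) 3)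
    (Nat.mod (Nat.add (Nat.add (Nat.mul a20 b01) (Nat.mul a21 b11)) (Nat.add (Nat.mul a22 b21) (Nat.mul a23 b31))) 3)
    (Nat.mod (Nat.add (Nat.add (Nat.mul a20 b02) (Nat.mul a21 b12)) (Nat.add (Nat.mul a22 b22) (Nat.mul a23 b32))) 3)
    (Nat.mod (Nat.add (Nat.add (Nat.mul a20 b03) (Nat.mul a21 b13)) (Nat.add (Nat.mul a22 b23) (Nat.mul a23 b33))) 3)
    (Nat.mod (Nat.add (Nat.add (Nat.mul a30 b00) (Nat.mul a31 b10)) (Nat.add (Nat.mul a32 b20) (Nat.mul a33 b30))) 3)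
    (Nat.mod (Nat.add (Nat.add (Nat.mul a30 b01) (Nat.mul a31 b11)) (Nat.add (Nat.mul a32 b21) (Nat.mul a33 b31))) 3)
    (Nat.mod (Nat.add (Nat.add (Nat.mul a30 b02) (Nat.mul a31 b12)) (Nat.add (Nat.mul a32 b22) (Nat.mul a33 b32))) 3)
    (Nat.mod (Nat.add (Nat.add (Nat.mul a30 b03) (Nat.mul a31 b13)) (Nat.add (Nat.mul a32 b23) (Nat.mul a33 b33))) 3)) b) a

private noncomputable def KM.eqB (a b : KM) : Bool :=
  KM.rec (fun a00 a01 a02 a03 a10 a11 a12 a13 a20 a21 a22 a23 a30 a31 a32 a33 => KM.rec (fun b00 b01 b02 b03 b10 b11 b12 b13 b20 b21 b22 b23 b30 b31 b32 b33 =>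
    (and (Nat.beq a00 b00) (and (Nat.beq a01 b01) (and (Nat.beq a02 b02) (and (Nat.beq a03 b03) (and (Nat.beq a10 b10) (and (Nat.beq a11 b11) (and (Nat.beq a12 b12) (and (Nat.beq a13 b13) (and (Nat.beq a20 b20) (and (Nat.beq a21 b21) (and (Nat.beq a22 b22) (and (Nat.beq a23 b23) (and (Nat.beq a30 b30) (and (Nat.beq a31 b31) (and (Nat.beq a32 b32) (Nat.beq a33 b33))))))))))))))))) b) a

private theorem KM.eq_of {a b : KM} (h : KM.eqB a b = true) : a = b := by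
  obtain ⟨a00, a01, a02, a03, a10, a11, a12, a13, a20, a21, a22, a23, a30, a31, a32, a33⟩ := a
  obtain ⟨b00, b01, b02, b03, b10, b11, b12, b13, b20, b21, b22, b23, b30, b31, b32, b33⟩ := b
  have h' : (and (Nat.beq a00 b00) (and (Nat.beq a01 b01) (and (Nat.beq a02 b02) (and (Nat.beq a03 b03) (and (Nat.beq a10 b10) (and (Nat.beq a11 b11) (and (Nat.beq a12 b12) (and (Nat.beq a13 b13) (and (Nat.beq a20 b20) (and (Nat.beq a21 b21) (and (Nat.beq a22 b22) (and (Nat.beq a23 b23) (and (Nat.beq a30 b30) (and (Nat.beq a31 b31) (and (Nat.beq a32 b32) (Nat.beq a33 b33)))))))))))))))) = true := h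
  simp only [Bool.and_eq_true, Nat.beq_eq] at h'
  obtain ⟨rfl, rfl, rfl, rfl, rfl, rfl, rfl, rfl, rfl, rfl, rfl, rfl, rfl, rfl, rfl, rfl⟩ := h'
  rfl

private noncomputable def KM.s2 (i : Fin 2) (x y : ℕ) : ℕ := Nat.rec x (fun _ _ => y) i.val

private noncomputable def KM.ent (a : KM) (i j : Fin 2 ⊕ Fin 2) : ℕ :=
  Sum.rec (fun i => Sum.rec (fun j => KM.s2 i (KM.s2 j a.a00 a.a01) (KM.s2 j a.a10 a.a11))
      (fun j => KM.s2 i (KM.s2 j a.a02 a.a03) (KM.s2 j a.a12 a.a13)) j)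
    (fun i => Sum.rec (fun j => KM.s2 i (KM.s2 j a.a20 a.a21) (KM.s2 j a.a30 a.a31))
      (fun j => KM.s2 i (KM.s2 j a.a22 a.a23) (KM.s2 j a.a32 a.a33)) j) i

private def KM.Rp (g : Sp) (a : KM) : Prop := ∀ i j, g.1 i j = ((a.ent i j : ℕ) : ZMod 3)

private theorem KM.all4 {P : Fin 2 ⊕ Fin 2 → Prop} (h0 : P (Sum.inl 0)) (h1 : P (Sum.inl 1)) (h2 : P (Sum.inr 0))
    (h3 : P (Sum.inr 1)) (i : Fin 2 ⊕ Fin 2) : P i :=
  Sum.rec (Fin.forall_fin_two.2 ⟨h0, h1⟩) (Fin.forall_fin_two.2 ⟨h2, h3⟩) i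

private def KM.enc (g : Sp) : KM := KM.mk
    (g.1 (Sum.inl 0) (Sum.inl 0)).val (g.1 (Sum.inl 0) (Sum.inl 1)).val (g.1 (Sum.inl 0) (Sum.inr 0)).val (g.1 (Sum.inl 0) (Sum.inr 1)).val
    (g.1 (Sum.inl 1) (Sum.inl 0)).val (g.1 (Sum.inl 1) (Sum.inl 1)).val (g.1 (Sum.inl 1) (Sum.inr 0)).val (g.1 (Sum.inl 1) (Sum.inr 1)).val
    (g.1 (Sum.inr 0) (Sum.inl 0)).val (g.1 (Sum.inr 0) (Sum.inl 1)).val (g.1 (Sum.inr 0) (Sum.inr 0)).val (g.1 (Sum.inr 0) (Sum.inr 1)).val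
    (g.1 (Sum.inr 1) (Sum.inl 0)).val (g.1 (Sum.inr 1) (Sum.inl 1)).val (g.1 (Sum.inr 1) (Sum.inr 0)).val (g.1 (Sum.inr 1) (Sum.inr 1)).val

private theorem KM.rp_enc (g : Sp) : KM.Rp g (KM.enc g) := by
  refine KM.all4 ?_ ?_ ?_ ?_ <;> refine KM.all4 ?_ ?_ ?_ ?_ <;> exact (ZMod.natCast_zmod_val _).symm

private theorem KM.cst (a b c d e f g h : ℕ) : (a : ZMod 3) * b + c * d + (e * f + g * h) =
    ((Nat.mod (Nat.add (Nat.add (Nat.mul a b) (Nat.mul c d)) (Nat.add (Nat.mul e f) (Nat.mul g h))) 3 : ℕ) : ZMod 3) := by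
  show _ = (((a * b + c * d + (e * f + g * h)) % 3 : ℕ) : ZMod 3)
  rw [ZMod.natCast_mod, Nat.cast_add, Nat.cast_add, Nat.cast_add, Nat.cast_mul, Nat.cast_mul, Nat.cast_mul, Nat.cast_mul]

private theorem KM.Rp.mul {x y : Sp} {a b : KM} (hx : KM.Rp x a) (hy : KM.Rp y b) : KM.Rp (x * y) (a.mul b) := by
  have e : ∀ i j, (x * y).1 i j = (a.ent i (Sum.inl 0) : ZMod 3) * b.ent (Sum.inl 0) j + a.ent i (Sum.inl 1) * b.ent (Sum.inl 1) j +
      (a.ent i (Sum.inr 0) * b.ent (Sum.inr 0) j + a.ent i (Sum.inr 1) * b.ent (Sum.inr 1) j) := by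
    intro i j
    rw [← hx, ← hx, ← hx, ← hx, ← hy, ← hy, ← hy, ← hy]
    refine (Matrix.mul_apply (M := x.1) (N := y.1)).trans ?_
    rw [Fintype.sum_sum_type, Fin.sum_univ_two, Fin.sum_univ_two]
  obtain ⟨a00, a01, a02, a03, a10, a11, a12, a13, a20, a21, a22, a23, a30, a31, a32, a33⟩ := a
  obtain ⟨b00, b01, b02, b03, b10, b11, b12, b13, b20, b21, b22, b23, b30, b31, b32, b33⟩ := b
  refine KM.all4 ?_ ?_ ?_ ?_ <;> refine KM.all4 ?_ ?_ ?_ ?_ <;> exact (e _ _).trans (KM.cst _ _ _ _ _ _ _ _)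

private theorem KM.Rp.eq {x y : Sp} {a b : KM} (hx : KM.Rp x a) (hy : KM.Rp y b) (h : KM.eqB a b = true) : x = y := by
  rw [KM.eq_of h] at hx
  exact Subtype.ext (Matrix.ext fun i j => (hx i j).trans (hy i j).symm)

private noncomputable def KM.c2 (a g : KM) (k : ℕ) : KM := Nat.rec a (fun _ _ => a.mul g) k
private noncomputable def KM.c3 (a g h : KM) (k : ℕ) : KM := Nat.rec a (fun n _ => Nat.rec (a.mul g) (fun _ _ => a.mul h) n) k
private noncomputable def KM.c4 (a g h l : KM) (k : ℕ) : KM :=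
  Nat.rec a (fun n _ => Nat.rec (a.mul g) (fun m _ => Nat.rec (a.mul h) (fun _ _ => a.mul l) m) n) k

private theorem KM.Rp.v2 {x y : Sp} {a : KM} (hx : KM.Rp x a) :
    ∀ k : Fin 2, KM.Rp (x * ![1, y] k) (KM.c2 a (KM.enc y) k.val)
  | ⟨0, _⟩ => (mul_one x).symm ▸ hx
  | ⟨1, _⟩ => hx.mul (KM.rp_enc y)

private theorem KM.Rp.v3 {x y z : Sp} {a : KM} (hx : KM.Rp x a) :
    ∀ k : Fin 3, KM.Rp (x * ![1, y, z] k) (KM.c3 a (KM.enc y) (KM.enc z) k.val)
  | ⟨0, _⟩ => (mul_one x).symm ▸ hx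
  | ⟨1, _⟩ => hx.mul (KM.rp_enc y)
  | ⟨2, _⟩ => hx.mul (KM.rp_enc z)

private theorem KM.Rp.v4 {x y z w : Sp} {a : KM} (hx : KM.Rp x a) :
    ∀ k : Fin 4, KM.Rp (x * ![1, y, z, w] k) (KM.c4 a (KM.enc y) (KM.enc z) (KM.enc w) k.val)
  | ⟨0, _⟩ => (mul_one x).symm ▸ hx
  | ⟨1, _⟩ => hx.mul (KM.rp_enc y)
  | ⟨2, _⟩ => hx.mul (KM.rp_enc z)
  | ⟨3, _⟩ => hx.mul (KM.rp_enc w)

/-- `a * nf q` -/
private noncomputable def KM.nfc (a : KM) (q : Fin 3 × Fin 3 × Fin 3 × Fin 4 × Fin 2 × Fin 3 × Fin 2) : KM :=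
  KM.c2 (KM.c3 (KM.c2 (KM.c4 (KM.c3 (KM.c3 (KM.c3 a (KM.enc (U 6 2)) (KM.enc (U 6 2 * U 6 2)) q.1.val)
    (KM.enc (U 5 1)) (KM.enc (U 5 1 * U 5 1)) q.2.1.val) (KM.enc (U 7 2)) (KM.enc (U 7 2 * U 7 2)) q.2.2.1.val)
    (KM.enc jG) (KM.enc (U 4 1 * jG * (U 4 1 * U 4 1))) (KM.enc ((U 4 1 * U 4 1) * jG * U 4 1)) q.2.2.2.1.val)
    (KM.enc (jG * jG)) q.2.2.2.2.1.val) (KM.enc (U 4 1)) (KM.enc (U 4 1 * U 4 1)) q.2.2.2.2.2.1.val)
    (KM.enc hG) q.2.2.2.2.2.2.val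

private theorem KM.Rp.nfc {x : Sp} {a : KM} (hx : KM.Rp x a) (q : Fin 3 × Fin 3 × Fin 3 × Fin 4 × Fin 2 × Fin 3 × Fin 2) :
    KM.Rp (x * nf q) (KM.nfc a q) := by
  have e : x * nf q = x * p3 (U 6 2) q.1 * p3 (U 5 1) q.2.1 * p3 (U 7 2) q.2.2.1 * qT q.2.2.2.1 * p2 (jG * jG) q.2.2.2.2.1 *
      p3 (U 4 1) q.2.2.2.2.2.1 * p2 hG q.2.2.2.2.2.2 := by
    delta nf
    simp only [mul_assoc]
  rw [e]
  exact ((((((hx.v3 _).v3 _).v3 _).v4 _).v2 _).v3 _).v2 _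

/-- `a * gT t` -/
private noncomputable def KM.gc (a : KM) (t : Fin 40) : KM := KM.c3 (KM.nfc a (lT t)) (KM.enc sG) (KM.enc nG) (cls t).val

private theorem KM.Rp.gc {x : Sp} {a : KM} (hx : KM.Rp x a) (t : Fin 40) : KM.Rp (x * gT t) (KM.gc a t) := by
  delta gT
  rw [← mul_assoc]
  exact (hx.nfc _).v3 _

private theorem KM.chk {g : Sp} {f : Fin 40 → Fin 40} {l : Fin 40 → Fin 3 × Fin 3 × Fin 3 × Fin 4 × Fin 2 × Fin 3 × Fin 2}
    (h : ∀ t, KM.eqB (KM.gc (KM.enc g) t) (KM.nfc (KM.gc (KM.enc 1) (f t)) (l t)) = true) (t : Fin 40) :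
    g * gT t = gT (f t) * nf (l t) := by
  have h1 := ((KM.rp_enc g).gc t).eq (((KM.rp_enc 1).gc (f t)).nfc (l t)) (h t)
  rwa [one_mul] at h1

theorem chk_y : ∀ t : Fin 40, U 5 1 * gT t = gT (pi_y t) * nf (nl_y t) := KM.chk (by decide +kernel)
theorem chk_s : ∀ t : Fin 40, sG * gT t = gT (pi_s t) * nf (nl_s t) := KM.chk (by decide +kernel)
theorem chk_j : ∀ t : Fin 40, jG * gT t = gT (pi_j t) * nf (nl_j t) := KM.chk (by decide +kernel)

private noncomputable def _root_.Cfsg.Agent.LsF.f9ab732_19 : {f // @Cfsg.Agent.H923.Ten.U42.pi_j = f} := ⟨_, by first | (delta Cfsg.Agent.H923.Ten.U42.pi_j; rewrite [Cfsg.Agent.LsF.vecCons_eq]; exact rfl) | exact rfl⟩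
private noncomputable def _root_.Cfsg.Agent.LsF.f9ab732_15 : {f // @Cfsg.Agent.H923.Ten.U42.pi_y = f} := ⟨_, by first | (delta Cfsg.Agent.H923.Ten.U42.pi_y; rewrite [Cfsg.Agent.LsF.vecCons_eq]; exact rfl) | exact rfl⟩
theorem inj_y : Function.Injective pi_y := by unfold Function.Injective; (refine of_decide_eq_true ?_; (try (rewrite [Cfsg.Agent.LsF.f9ab732_15.2, Cfsg.Agent.LsF.dFinEq_eq, Cfsg.Agent.LsF.dForallFin_eq, Cfsg.Agent.LsF.dAllP_eq, Cfsg.Agent.LsF.decide_eq])); decide +kernel)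
private noncomputable def _root_.Cfsg.Agent.LsF.f9ab732_17 : {f // @Cfsg.Agent.H923.Ten.U42.pi_s = f} := ⟨_, by first | (delta Cfsg.Agent.H923.Ten.U42.pi_s; rewrite [Cfsg.Agent.LsF.vecCons_eq]; exact rfl) | exact rfl⟩
theorem inj_s : Function.Injective pi_s := by unfold Function.Injective; (refine of_decide_eq_true ?_; (try (rewrite [Cfsg.Agent.LsF.f9ab732_17.2, Cfsg.Agent.LsF.dFinEq_eq, Cfsg.Agent.LsF.dForallFin_eq, Cfsg.Agent.LsF.dAllP_eq, Cfsg.Agent.LsF.decide_eq])); decide +kernel)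
theorem inj_j : Function.Injective pi_j := by unfold Function.Injective; (refine of_decide_eq_true ?_; (try (rewrite [Cfsg.Agent.LsF.f9ab732_19.2, Cfsg.Agent.LsF.dFinEq_eq, Cfsg.Agent.LsF.dForallFin_eq, Cfsg.Agent.LsF.dAllP_eq, Cfsg.Agent.LsF.decide_eq])); decide +kernel)

/-- the symmetric matrices -/
def Sm (t : Fin 40) (i j : Fin 4) : ℤ√(-3) :=
  let p := ((Sl.getD t []).getD i []).getD j (0, 0)
  ⟨p.1, p.2⟩

def Mz (l : List (List (ℤ × ℤ))) (i j : Fin 4) : ℤ√(-3) :=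
  let p := (l.getD i []).getD j (0, 0)
  ⟨p.1, p.2⟩

/-- product of matrices -/
def mul4 (a b : Fin 4 → Fin 4 → ℤ√(-3)) (i j : Fin 4) : ℤ√(-3) :=
  a i 0 * b 0 j + a i 1 * b 1 j + a i 2 * b 2 j + a i 3 * b 3 j

/-- twice the powers of `ζ` -/
def sz (l : Fin 3) : ℤ√(-3) := ![⟨2, 0⟩, ⟨-1, -1⟩, ⟨-1, 1⟩] l

private noncomputable def _root_.Cfsg.Agent.LsF.f9ab732_21 : {f // @Cfsg.Agent.H923.Ten.U42.Mz = f} := ⟨_, by first | (delta Cfsg.Agent.H923.Ten.U42.Mz; rewrite [Cfsg.Agent.LsF.getD_eq]; exact rfl) | exact rfl⟩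
private noncomputable def _root_.Cfsg.Agent.LsF.f9ab732_22 : {f // @Cfsg.Agent.H923.Ten.U42.Sm = f} := ⟨_, by first | (delta Cfsg.Agent.H923.Ten.U42.Sm; rewrite [Cfsg.Agent.LsF.getD_eq]; exact rfl) | exact rfl⟩
private noncomputable def _root_.Cfsg.Agent.LsF.f9ab732_23 : {f // @Cfsg.Agent.H923.Ten.U42.sz = f} := ⟨_, by first | (delta Cfsg.Agent.H923.Ten.U42.sz; rewrite [Cfsg.Agent.LsF.vecCons_eq]; exact rfl) | exact rfl⟩
private noncomputable def _root_.Cfsg.Agent.LsF.f9ab732_16 : {f // @Cfsg.Agent.H923.Ten.U42.nl_y = f} := ⟨_, by first | (delta Cfsg.Agent.H923.Ten.U42.nl_y; rewrite [Cfsg.Agent.LsF.vecCons_eq]; exact rfl) | exact rfl⟩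
theorem m_y : ∀ (t : Fin 40) (i j : Fin 4), mul4 (mul4 (Mz Ml_y) (Sm t)) (fun a b => Mz Ml_y b a) i j =
    ⟨-6, 0⟩ * (sz (nl_y t).2.2.2.2.2.1 * Sm (pi_y t) i j) := by (refine of_decide_eq_true ?_; (try (rewrite [Cfsg.Agent.LsF.f9ab732_21.2, Cfsg.Agent.LsF.f9ab732_22.2, Cfsg.Agent.LsF.f9ab732_23.2, Cfsg.Agent.LsF.f9ab732_16.2, Cfsg.Agent.LsF.f9ab732_15.2, Cfsg.Agent.LsF.dForallFin_eq, Cfsg.Agent.LsF.decide_eq])); decide +kernel)
private noncomputable def _root_.Cfsg.Agent.LsF.f9ab732_18 : {f // @Cfsg.Agent.H923.Ten.U42.nl_s = f} := ⟨_, by first | (delta Cfsg.Agent.H923.Ten.U42.nl_s; rewrite [Cfsg.Agent.LsF.vecCons_eq]; exact rfl) | exact rfl⟩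
theorem m_s : ∀ (t : Fin 40) (i j : Fin 4), mul4 (mul4 (Mz Ml_s) (Sm t)) (fun a b => Mz Ml_s b a) i j =
    ⟨-6, 0⟩ * (sz (nl_s t).2.2.2.2.2.1 * Sm (pi_s t) i j) := by (refine of_decide_eq_true ?_; (try (rewrite [Cfsg.Agent.LsF.f9ab732_21.2, Cfsg.Agent.LsF.f9ab732_22.2, Cfsg.Agent.LsF.f9ab732_23.2, Cfsg.Agent.LsF.f9ab732_18.2, Cfsg.Agent.LsF.f9ab732_17.2, Cfsg.Agent.LsF.dForallFin_eq, Cfsg.Agent.LsF.decide_eq])); decide +kernel)
theorem m_j : ∀ (t : Fin 40) (i j : Fin 4), mul4 (mul4 (Mz Ml_j) (Sm t)) (fun a b => Mz Ml_j b a) i j =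
    ⟨-6, 0⟩ * (sz (nl_j t).2.2.2.2.2.1 * Sm (pi_j t) i j) := by decide +kernel

theorem u_y : ∀ i j : Fin 4, mul4 (Mz Ml_y) (fun a b => star (Mz Ml_y b a)) i j = if i = j then ⟨12, 0⟩ else 0 := by
  decide +kernel
theorem u_s : ∀ i j : Fin 4, mul4 (Mz Ml_s) (fun a b => star (Mz Ml_s b a)) i j = if i = j then ⟨12, 0⟩ else 0 := by
  decide +kernel
theorem u_j : ∀ i j : Fin 4, mul4 (Mz Ml_j) (fun a b => star (Mz Ml_j b a)) i j = if i = j then ⟨12, 0⟩ else 0 := by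
  decide +kernel
theorem u_y' : ∀ i j : Fin 4, mul4 (fun a b => star (Mz Ml_y b a)) (Mz Ml_y) i j = if i = j then ⟨12, 0⟩ else 0 := by
  decide +kernel
theorem u_s' : ∀ i j : Fin 4, mul4 (fun a b => star (Mz Ml_s b a)) (Mz Ml_s) i j = if i = j then ⟨12, 0⟩ else 0 := by
  decide +kernel
theorem u_j' : ∀ i j : Fin 4, mul4 (fun a b => star (Mz Ml_j b a)) (Mz Ml_j) i j = if i = j then ⟨12, 0⟩ else 0 := by
  decide +kernel
theorem s_sym : ∀ (t : Fin 40) (i j : Fin 4), Sm t i j = Sm t j i := by (refine of_decide_eq_true ?_; (try (rewrite [Cfsg.Agent.LsF.f9ab732_22.2, Cfsg.Agent.LsF.dForallFin_eq, Cfsg.Agent.LsF.decide_eq])); decide +kernel)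

/-- six times the values of the spherical function -/
def cv (t : Fin 40) : ℤ√(-3) := sz (-(lT t).2.2.2.2.2.1) * (![⟨3, 0⟩, 0, ⟨-1, 0⟩] (cls t))

/-- list sum, for kernel evaluation -/
def tot : ℤ√(-3) := ((List.finRange 40).map fun t => cv t * Sm t 1 1).sum

theorem tot_eq : tot = ⟨144, 0⟩ := by decide +kernel

end Cfsg.Agent.H923.Ten.U42
end
end

-- part: H923/Ten/U42Aut
section
set_option linter.all false
open scoped Cfsg.Agent.FastGrp

-- part: H923/Ten/U42Sph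
section
/-!
# Ten-dimensional modules of `PSp₄(3)`: the spherical function (helper923)
-/

set_option autoImplicit false
set_option linter.unusedSectionVars false
set_option maxRecDepth 10000

namespace Cfsg.Agent.H923.Ten.U42

open Module Cfsg.Agent.H659.Sp4 Cfsg.Agent.H659.SevenU42

universe u v

variable {F : Type u} {V : Type v} [Field F] [AddCommGroup V] [Module F V] [FiniteDimensional F V]
variable {ρ : Sp →* Module.End F V}

theorem act1 (ρ : Sp →* Module.End F V) (v : V) : ρ 1 v = v := by rw [map_one]; rfl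

/-- the hypotheses -/
structure Irr1 (ρ : Sp →* Module.End F V) : Prop where
  two : (2 : F) ≠ 0
  three : (3 : F) ≠ 0
  dim : 2 ≤ finrank F V
  irr : ∀ U : Submodule F V, (∀ g, ∀ u ∈ U, ρ g u ∈ U) → U = ⊥ ∨ U = ⊤
  neg : ∀ v, ρ negG v = v
  one : finrank F (Fi (ρ (U 7 2))) = 1

/-- the fixed vector of a transvection -/
structure Good (ρ : Sp →* Module.End F V) (v : V) (ζ : F) : Prop where
  ne : v ≠ 0
  z1 : (ops ρ).z1 v = v
  x : (ops ρ).x v = v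
  y : (ops ρ).y v = v
  j : (ops ρ).j v = v
  z2 : (ops ρ).z2 v = ζ • v
  t1 : (ops ρ).t1 v = v
  t2 : (ops ρ).t2 v = v
  cube : ζ ^ 3 = 1
  ne1 : ζ ≠ 1
  un : ∀ u, (ops ρ).z1 u = u → ∃ μ : F, u = μ • v

theorem Irr1.fix_zero (h : Irr1 ρ) {v : V} (hv : ∀ g, ρ g v = v) : v = 0 := by
  by_contra h0
  rcases h.irr (Submodule.span F {v}) (by
    intro g u hu
    obtain ⟨c, rfl⟩ := Submodule.mem_span_singleton.1 hu
    rw [map_smul, hv]
    exact hu) with h1 | h1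
  · apply h0
    rw [← Submodule.mem_bot F, ← h1]
    exact Submodule.mem_span_singleton_self v
  · have h2 := finrank_span_singleton (K := F) h0
    rw [h1, finrank_top] at h2
    have := h.dim
    omega

/-- the stabiliser of a vector -/
def stab (ρ : Sp →* Module.End F V) (v : V) : Subgroup Sp where
  carrier := {g | ρ g v = v}
  one_mem' := act1 ρ v
  mul_mem' := by
    intro a b ha hb
    change ρ (a * b) v = v
    rw [← mul_app, show ρ b v = v from hb]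
    exact ha
  inv_mem' := by
    intro a ha
    change ρ a⁻¹ v = v
    have ha' : ρ a v = v := ha
    conv_lhs => rw [← ha']
    rw [mul_app, inv_mul_cancel, act1]

theorem Irr1.exists_good (h : Irr1 ρ) : ∃ (v : V) (ζ : F), Good ρ v ζ := by
  have R := rels ρ
  have h2 := h.two
  have h3 := h.three
  obtain ⟨⟨v, hv⟩, hv0', hspan⟩ := finrank_eq_one_iff'.1 h.one
  have hv0 : v ≠ 0 := fun h0 => hv0' (Subtype.ext h0)
  have hz1 : (ops ρ).z1 v = v := hv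
  have un : ∀ u, (ops ρ).z1 u = u → ∃ μ : F, u = μ • v := by
    intro u hu
    obtain ⟨c, hc⟩ := hspan ⟨u, hu⟩
    exact ⟨c, (congrArg Subtype.val hc).symm⟩
  have sc : ∀ {a b : F}, a • v = b • v → a = b := fun h0 => smul_left_injective F hv0 h0
  obtain ⟨cx, hx⟩ := un ((ops ρ).x v) (by rw [R.z1x, hz1])
  obtain ⟨cy, hy⟩ := un ((ops ρ).y v) (by rw [R.z1y, hz1])
  obtain ⟨cj, hj⟩ := un ((ops ρ).j v) (by rw [R.z1j, hz1])
  obtain ⟨ζ, hz⟩ := un ((ops ρ).z2 v) (by rw [R.z1z2, hz1])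
  have x3 : cx ^ 3 = 1 := by
    have := R.xxx v
    rw [hx, map_smul, hx, map_smul, map_smul, hx, smul_smul, smul_smul] at this
    have := sc (this.trans (one_smul F v).symm)
    linear_combination this
  have z3 : ζ ^ 3 = 1 := by
    have := R.z2z2z2 v
    rw [hz, map_smul, hz, map_smul, map_smul, hz, smul_smul, smul_smul] at this
    have := sc (this.trans (one_smul F v).symm)
    linear_combination this
  have j4 : cj ^ 4 = 1 := by
    have := R.t2t2 v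
    rw [← R.jj v, ← R.jj, hj] at this
    simp only [map_smul, hj, smul_smul] at this
    have := sc (this.trans (one_smul F v).symm)
    linear_combination this
  have cj0 : cj ≠ 0 := by
    rintro rfl
    norm_num at j4
  have cx0 : cx ≠ 0 := by
    rintro rfl
    norm_num at x3
  have z0 : ζ ≠ 0 := by
    rintro rfl
    norm_num at z3
  have exy : cy = cx := by
    have := R.jy v
    rw [hy, hj, map_smul, map_smul, hj, hx, smul_smul, smul_smul] at this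
    have := sc this
    exact mul_right_cancel₀ cj0 (this.trans (mul_comm _ _))
  have ex : cx = 1 := by
    have := R.jx v
    rw [hx, hj] at this
    simp only [map_smul, hj, hy, smul_smul] at this
    have := sc this
    have h5 : cx * cj * (1 - cx) = 0 := by rw [exy] at this; linear_combination this
    have h6 := (mul_eq_zero.1 h5).resolve_left (mul_ne_zero cx0 cj0)
    linear_combination -h6
  have ej : cj = 1 := by
    have := R.jp v
    simp only [hz, map_smul, hj, smul_smul] at this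
    have := sc this
    have h5 : ζ ^ 3 * cj * (cj - 1) = 0 := by linear_combination this
    have h6 := (mul_eq_zero.1 h5).resolve_left (mul_ne_zero (pow_ne_zero 3 z0) cj0)
    linear_combination h6
  rw [ex, one_smul] at hx
  rw [exy, ex, one_smul] at hy
  rw [ej, one_smul] at hj
  have ht2 : (ops ρ).t2 v = v := by rw [← R.jj, hj, hj]
  have ht1 : (ops ρ).t1 v = v := by
    have := t1t2_eq ρ v
    rw [ht2, h.neg] at this
    exact this
  refine ⟨v, ζ, hv0, hz1, hx, hy, hj, hz, ht1, ht2, z3, ?_, un⟩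
  -- `ζ ≠ 1`
  rintro rfl
  rw [one_smul] at hz
  obtain ⟨σ, hs⟩ := un ((ops ρ).s v) (by rw [R.z1s, hz])
  have s2 : σ ^ 2 = 1 := by
    have := R.ss v
    rw [hs, map_smul, hs, smul_smul] at this
    have := sc (this.trans (one_smul F v).symm)
    linear_combination this
  have hσ : σ = 1 := by
    have := R.s_eq v
    simp only [hy, ht2, hs, map_smul, smul_smul] at this
    have := sc this
    linear_combination this + s2
  rw [hσ, one_smul] at hs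
  apply hv0
  apply h.fix_zero
  intro g
  have hS := gen_ysj (stab ρ v) hy hs hj
  have : g ∈ stab ρ v := by rw [hS]; exact Subgroup.mem_top g
  exact this

/-- exponent of `ζ` -/
def kq (q : Fin 3 × Fin 3 × Fin 3 × Fin 4 × Fin 2 × Fin 3 × Fin 2) : Fin 3 := q.2.2.2.2.2.1

theorem p3_act {g : Sp} {v : V} (h : ρ g v = v) (a : Fin 3) : ρ (p3 g a) v = v := by
  fin_cases a
  · exact act1 ρ v
  · exact h
  · change ρ (g * g) v = v
    rw [← mul_app, h, h]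

theorem p2_act {g : Sp} {v : V} (h : ρ g v = v) (a : Fin 2) : ρ (p2 g a) v = v := by
  fin_cases a
  · exact act1 ρ v
  · exact h

theorem Good.zz {v : V} {ζ : F} (h : Good ρ v ζ) (k : Fin 3) : ρ (p3 (U 4 1) k) v = ζ ^ (k : ℕ) • v := by
  have hz : ρ (U 4 1) v = ζ • v := h.z2
  fin_cases k
  · change ρ 1 v = ζ ^ 0 • v
    rw [act1, pow_zero, one_smul]
  · change ρ (U 4 1) v = ζ ^ 1 • v
    rw [pow_one, hz]
  · change ρ (U 4 1 * U 4 1) v = ζ ^ 2 • v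
    rw [← mul_app, hz, map_smul, hz, smul_smul, pow_two]

theorem Good.qT_act {v : V} {ζ : F} (h : Good ρ v ζ) (q : Fin 4) : ρ (qT q) v = v := by
  have hz : ρ (U 4 1) v = ζ • v := h.z2
  have hj : ρ jG v = v := h.j
  have h3 : ζ * ζ * ζ = 1 := by rw [← h.cube]; ring
  fin_cases q
  · exact act1 ρ v
  · exact h.j
  · change ρ (U 4 1 * jG * (U 4 1 * U 4 1)) v = v
    simp only [← mul_app, hz, map_smul, hj, smul_smul]
    rw [h3, one_smul]
  · change ρ ((U 4 1 * U 4 1) * jG * U 4 1) v = v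
    simp only [← mul_app, hz, map_smul, hj, smul_smul]
    rw [← mul_assoc, h3, one_smul]

theorem Good.nf_act {v : V} {ζ : F} (h : Good ρ v ζ) (q : Fin 3 × Fin 3 × Fin 3 × Fin 4 × Fin 2 × Fin 3 × Fin 2) :
    ρ (nf q) v = ζ ^ (kq q : ℕ) • v := by
  rw [nf, ← mul_app, ← mul_app, ← mul_app, ← mul_app, ← mul_app, ← mul_app, p2_act (show ρ hG v = v from h.t1),
    h.zz, map_smul, map_smul, map_smul, map_smul, map_smul, p2_act (show ρ (jG * jG) v = v from h.t2), h.qT_act,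
    p3_act (show ρ (U 7 2) v = v from h.z1), p3_act (show ρ (U 5 1) v = v from h.y),
    p3_act (show ρ (U 6 2) v = v from h.x)]
  rfl

/-- the sum over the group of the transvection -/
def es (ρ : Sp →* Module.End F V) (v : V) : V := v + (ops ρ).z1 v + (ops ρ).z1 ((ops ρ).z1 v)

theorem Good.es_eq {v : V} {ζ : F} (h : Good ρ v ζ) (u : V) : ∃ κ : F, es ρ u = κ • v := by
  apply h.un
  rw [es, map_add, map_add, (rels ρ).z1z1z1]; abel

/-- the dual representation -/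
def dl (ρ : Sp →* Module.End F V) : Sp →* Module.End F (Dual F V) where
  toFun g := (ρ g⁻¹).dualMap
  map_one' := by
    ext ξ v
    change ξ (ρ (1 : Sp)⁻¹ v) = ξ v
    rw [inv_one, act1]
  map_mul' x y := by
    ext ξ v
    change ξ (ρ (x * y)⁻¹ v) = ξ (ρ y⁻¹ (ρ x⁻¹ v))
    rw [mul_app, mul_inv_rev]

theorem dl_apply (g : Sp) (ξ : Dual F V) (v : V) : dl ρ g ξ v = ξ (ρ g⁻¹ v) := rfl

theorem finrank_Fi_dual (T : Module.End F V) :
    finrank F (Fi (T.dualMap : Module.End F (Dual F V))) = finrank F (Fi T) := by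
  have h1 : Fi T = LinearMap.ker (T - 1) := by
    ext v
    rw [mem_Fi, LinearMap.mem_ker, LinearMap.sub_apply, Module.End.one_apply, sub_eq_zero]
  have h2 : Fi (T.dualMap : Module.End F (Dual F V)) = LinearMap.ker ((T - 1).dualMap) := by
    ext ξ
    rw [mem_Fi, LinearMap.mem_ker]
    constructor
    · intro h
      ext v
      have := LinearMap.congr_fun h v
      rw [LinearMap.dualMap_apply] at this
      rw [LinearMap.dualMap_apply, LinearMap.sub_apply, map_sub, Module.End.one_apply, this, sub_self,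
        LinearMap.zero_apply]
    · intro h
      ext v
      have := LinearMap.congr_fun h v
      rw [LinearMap.dualMap_apply, LinearMap.sub_apply, map_sub, Module.End.one_apply, LinearMap.zero_apply,
        sub_eq_zero] at this
      exact this
  have e1 := LinearMap.finrank_range_add_finrank_ker (T - 1)
  have e2 := LinearMap.finrank_range_add_finrank_ker ((T - 1).dualMap)
  rw [LinearMap.finrank_range_dualMap_eq_finrank_range, Subspace.dual_finrank_eq] at e2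
  rw [h1, h2]
  omega

theorem Irr1.dual (h : Irr1 ρ) : Irr1 (dl ρ) where
  two := h.two
  three := h.three
  dim := by rw [Subspace.dual_finrank_eq]; exact h.dim
  irr := by
    intro U hU
    have h1 := h.irr U.dualCoannihilator (by
      intro g u hu
      rw [Submodule.mem_dualCoannihilator] at hu ⊢
      intro ξ hξ
      have h2 := hu _ (hU g⁻¹ ξ hξ)
      rwa [dl_apply, inv_inv] at h2)
    have h2 : U.dualCoannihilator.dualAnnihilator = U := Subspace.dualCoannihilator_dualAnnihilator_eq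
    rcases h1 with h1 | h1
    · right; rw [← h2, h1, Submodule.dualAnnihilator_bot]
    · left; rw [← h2, h1, Submodule.dualAnnihilator_top]
  neg := by
    intro ξ
    ext v
    have hn : (negG)⁻¹ = negG := inv_eq_of_mul_eq_one_left negG_sq
    rw [dl_apply, hn, h.neg]
  one := by
    change finrank F (Fi ((ρ (U 7 2)⁻¹).dualMap : Module.End F (Dual F V))) = 1
    rw [finrank_Fi_dual]
    have : Fi (ρ (U 7 2)⁻¹) = Fi (ρ (U 7 2)) := by
      ext v
      rw [mem_Fi, mem_Fi]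
      constructor
      · intro h0
        conv_lhs => rw [← h0]
        rw [mul_app, mul_inv_cancel, act1]
      · intro h0
        conv_lhs => rw [← h0]
        rw [mul_app, inv_mul_cancel, act1]
    rw [this, h.one]

/-- the situation after the second step -/
structure Sph (ρ : Sp →* Module.End F V) (v : V) (ξ : V →ₗ[F] F) (ζ : F) : Prop where
  irr : Irr1 ρ
  good : Good ρ v ζ
  nfx : ∀ q u, ξ (ρ (nf q) u) = ζ ^ (kq q : ℕ) * ξ u
  xes : ∀ u, ξ (es ρ u) = 3 * ξ u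
  one : ξ v = 1
  xs : ξ ((ops ρ).s v) = 0
  xn : ξ ((ops ρ).n v) = -(3 : F)⁻¹

theorem Irr1.exists_sph (h : Irr1 ρ) : ∃ v ξ ζ, Sph ρ v ξ ζ := by
  have R := rels ρ
  obtain ⟨v, ζ, hv⟩ := h.exists_good
  obtain ⟨ξ0, ζ', hξ⟩ := h.dual.exists_good
  have h3 := h.three
  -- action on the functional
  have inv_of : ∀ g : Sp, dl ρ g ξ0 = ξ0 → ∀ u, ξ0 (ρ g u) = ξ0 u := by
    intro g hg u
    have h1 := LinearMap.congr_fun hg (ρ g u)
    rw [dl_apply, mul_app, inv_mul_cancel, act1] at h1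
    exact h1.symm
  have n1 : ∀ u, ξ0 ((ops ρ).z1 u) = ξ0 u := inv_of _ hξ.z1
  have nx : ∀ u, ξ0 (ρ (U 6 2) u) = ξ0 u := inv_of _ hξ.x
  have ny : ∀ u, ξ0 (ρ (U 5 1) u) = ξ0 u := inv_of _ hξ.y
  have nj : ∀ u, ξ0 (ρ jG u) = ξ0 u := inv_of _ hξ.j
  have nh : ∀ u, ξ0 (ρ hG u) = ξ0 u := inv_of _ hξ.t1
  have nes : ∀ u, ξ0 (es ρ u) = 3 * ξ0 u := fun u => by
    rw [es, map_add, map_add, n1, n1, n1]; ring
  -- nonvanishing
  have hne : ξ0 v ≠ 0 := by
    intro h0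
    have h1 : ∀ g, ξ0 (ρ g v) = 0 := by
      intro g
      obtain ⟨κ, hκ⟩ := hv.es_eq (ρ g v)
      have h2 := nes (ρ g v)
      rw [hκ, map_smul, h0, smul_zero] at h2
      exact (mul_eq_zero.1 h2.symm).resolve_left h3
    rcases h.irr (Submodule.span F (Set.range fun g => ρ g v)) (by
      intro g u hu
      induction hu using Submodule.span_induction with
      | mem x hx =>
        obtain ⟨y, rfl⟩ := hx
        rw [mul_app]
        exact Submodule.subset_span ⟨_, rfl⟩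
      | zero => rw [map_zero]; exact zero_mem _
      | add x y _ _ hx hy => rw [map_add]; exact add_mem hx hy
      | smul c x _ hx => rw [map_smul]; exact Submodule.smul_mem _ _ hx) with h2 | h2
    · apply hv.1
      rw [← Submodule.mem_bot F, ← h2]
      exact Submodule.subset_span ⟨1, act1 ρ v⟩
    · apply hξ.1
      apply LinearMap.ext
      intro u
      have hu : u ∈ Submodule.span F (Set.range fun g => ρ g v) := by rw [h2]; trivial
      induction hu using Submodule.span_induction with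
      | mem x hx => obtain ⟨y, rfl⟩ := hx; exact h1 y
      | zero => rw [map_zero, map_zero]
      | add x y _ _ hx hy => rw [map_add, hx, hy, LinearMap.zero_apply, LinearMap.zero_apply, LinearMap.zero_apply, add_zero]
      | smul c x _ hx => rw [map_smul, hx, LinearMap.zero_apply, LinearMap.zero_apply, smul_zero]
  -- the eigenvalue of `z2` on the functional
  have nz : ∀ u, ξ0 (ρ (U 4 1) u) = ζ * ξ0 u := by
    have h1 : dl ρ (U 4 1) ξ0 = ζ' • ξ0 := hξ.z2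
    have h2 : ∀ u, ξ0 u = ζ' * ξ0 (ρ (U 4 1) u) := by
      intro u
      have h4 := LinearMap.congr_fun h1 (ρ (U 4 1) u)
      rw [dl_apply, mul_app, inv_mul_cancel, act1] at h4
      exact h4
    have h4 := h2 v
    rw [show ρ (U 4 1) v = ζ • v from hv.z2, map_smul, smul_eq_mul, ← mul_assoc] at h4
    have h5 : ζ' * ζ = 1 := mul_right_cancel₀ hne (h4.symm.trans (one_mul _).symm)
    intro u
    rw [h2 u, ← mul_assoc, mul_comm ζ, h5, one_mul]
  set ξ : V →ₗ[F] F := (ξ0 v)⁻¹ • ξ0 with hξdef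
  have ξap : ∀ u, ξ u = (ξ0 v)⁻¹ * ξ0 u := fun u => rfl
  have e1 : ξ v = 1 := by rw [ξap, inv_mul_cancel₀ hne]
  have m1 : ∀ u, ξ (ρ (U 7 2) u) = ξ u := fun u => by rw [ξap, ξap]; congr 1; exact n1 u
  have mx : ∀ u, ξ (ρ (U 6 2) u) = ξ u := fun u => by rw [ξap, ξap, nx]
  have my : ∀ u, ξ (ρ (U 5 1) u) = ξ u := fun u => by rw [ξap, ξap, ny]
  have mj : ∀ u, ξ (ρ jG u) = ξ u := fun u => by rw [ξap, ξap, nj]
  have mh : ∀ u, ξ (ρ hG u) = ξ u := fun u => by rw [ξap, ξap, nh]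
  have mz : ∀ u, ξ (ρ (U 4 1) u) = ζ * ξ u := fun u => by rw [ξap, ξap, nz]; ring
  have mes : ∀ u, ξ (es ρ u) = 3 * ξ u := fun u => by rw [ξap, ξap, nes]; ring
  have k3 : ∀ (g : Sp), (∀ u, ξ (ρ g u) = ξ u) → ∀ (a : Fin 3) u, ξ (ρ (p3 g a) u) = ξ u := by
    intro g hg a u
    fin_cases a
    · change ξ (ρ 1 u) = ξ u
      rw [act1]
    · exact hg u
    · change ξ (ρ (g * g) u) = ξ u
      rw [← mul_app, hg, hg]
  have k2 : ∀ (g : Sp), (∀ u, ξ (ρ g u) = ξ u) → ∀ (a : Fin 2) u, ξ (ρ (p2 g a) u) = ξ u := by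
    intro g hg a u
    fin_cases a
    · change ξ (ρ 1 u) = ξ u
      rw [act1]
    · exact hg u
  have kz : ∀ (k : Fin 3) u, ξ (ρ (p3 (U 4 1) k) u) = ζ ^ (k : ℕ) * ξ u := by
    intro k u
    fin_cases k
    · change ξ (ρ 1 u) = ζ ^ 0 * ξ u
      rw [act1, pow_zero, one_mul]
    · change ξ (ρ (U 4 1) u) = ζ ^ 1 * ξ u
      rw [pow_one, mz]
    · change ξ (ρ (U 4 1 * U 4 1) u) = ζ ^ 2 * ξ u
      rw [← mul_app, mz, mz]; ring
  have h3' : ζ * ζ * ζ = 1 := by rw [← hv.cube]; ring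
  have kqT : ∀ (q : Fin 4) u, ξ (ρ (qT q) u) = ξ u := by
    intro q u
    fin_cases q
    · change ξ (ρ 1 u) = ξ u
      rw [act1]
    · exact mj u
    · change ξ (ρ (U 4 1 * jG * (U 4 1 * U 4 1)) u) = ξ u
      simp only [← mul_app, mz, mj]
      rw [← mul_assoc, ← mul_assoc, h3', one_mul]
    · change ξ (ρ ((U 4 1 * U 4 1) * jG * U 4 1) u) = ξ u
      simp only [← mul_app, mz, mj]
      rw [← mul_assoc, ← mul_assoc, h3', one_mul]
  have mnf : ∀ q u, ξ (ρ (nf q) u) = ζ ^ (kq q : ℕ) * ξ u := by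
    intro q u
    rw [nf, ← mul_app, ← mul_app, ← mul_app, ← mul_app, ← mul_app, ← mul_app, k3 _ mx, k3 _ my, k3 _ m1, kqT,
      k2 _ (fun u => by rw [← mul_app, mj, mj]), kz, k2 _ mh]
    rfl
  refine ⟨v, ξ, ζ, h, hv, mnf, mes, e1, ?_, ?_⟩
  · -- value at `s`
    have h1 := mz ((ops ρ).s v)
    change ξ ((ops ρ).z2 ((ops ρ).s v)) = _ at h1
    rw [R.z2s, hv.z1] at h1
    have h2 : (ζ - 1) * ξ ((ops ρ).s v) = 0 := by linear_combination -h1
    exact (mul_eq_zero.1 h2).resolve_left (sub_ne_zero.2 hv.ne1)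
  · -- value at `n`
    obtain ⟨κ, hκ⟩ := hv.es_eq ((ops ρ).n v)
    have nt : ∀ u, (ops ρ).n ((ops ρ).t1 u) = (ops ρ).t1 ((ops ρ).n u) := fun u => by rw [← R.nn, ← R.nn]
    -- `n z1 n v = z1² n v`
    have f1 : (ops ρ).n ((ops ρ).z1 ((ops ρ).n v)) = (ops ρ).z1 ((ops ρ).z1 ((ops ρ).n v)) := by
      have e := R.nz3 v
      rw [hv.z1, hv.t1] at e
      -- n z1 n z1 n v = v
      have e2 := congrArg (ops ρ).n e
      rw [R.nn, ← R.z1t1, ← nt, ← R.z1t1, ← nt, hv.t1] at e2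
      have e3 := congrArg (fun u => (ops ρ).z1 ((ops ρ).z1 u)) e2
      simp only [R.z1z1z1] at e3
      exact e3
    have f2 : (ops ρ).n ((ops ρ).z1 ((ops ρ).z1 ((ops ρ).n v))) = (ops ρ).z1 ((ops ρ).n v) := by
      rw [← f1, R.nn, ← R.z1t1, ← nt, hv.t1]
    have f0 : (ops ρ).n ((ops ρ).n v) = v := by rw [R.nn, hv.t1]
    have hκ1 : κ = -1 := by
      by_contra hne1
      have hne2 : 1 + κ ≠ 0 := fun h0 => hne1 (by linear_combination h0)
      have e0 : v + es ρ ((ops ρ).n v) = (1 + κ) • v := by rw [hκ, add_smul, one_smul]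
      have e5 := congrArg (ops ρ).n e0
      rw [map_smul, es, map_add, map_add, map_add, f0, f1, f2] at e5
      have e6 : (1 + κ) • v = (1 + κ) • (ops ρ).n v := by
        rw [← e5, ← e0, es]; abel
      have e7 : (ops ρ).n v = v := (smul_right_injective V hne2 e6).symm
      apply hv.ne
      apply h.fix_zero
      have q1 : U 7 2 ∈ stab ρ v := hv.z1
      have q2 : U 6 2 ∈ stab ρ v := hv.x
      have q3 : U 5 1 ∈ stab ρ v := hv.y
      have qn : nG ∈ stab ρ v := e7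
      have hS := gen (stab ρ v) q1 q2 q3 (mul_mem (mul_mem qn q1) (inv_mem qn)) (mul_mem (mul_mem qn q2) (inv_mem qn))
        (mul_mem (mul_mem qn q3) (inv_mem qn))
      intro g
      have : g ∈ stab ρ v := by rw [hS]; exact Subgroup.mem_top g
      exact this
    have e8 := mes ((ops ρ).n v)
    rw [hκ, hκ1, map_smul, e1, smul_eq_mul, mul_one] at e8
    rw [eq_neg_iff_add_eq_zero]
    have e9 : (3 : F) * (ξ ((ops ρ).n v) + 3⁻¹) = 0 := by
      rw [mul_add, ← e8, mul_inv_cancel₀ h3]; ring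
    exact (mul_eq_zero.1 e9).resolve_left h3

end Cfsg.Agent.H923.Ten.U42
end

-- part: H923/Ten/U42Model
section
/-!
# The ten-dimensional module of `PSp₄(3)` as symmetric square (helper923)
-/

set_option autoImplicit false
set_option linter.unusedSectionVars false

namespace Cfsg.Agent.H923.Ten.U42

open Module Matrix Cfsg.Agent.H659.Sp4 Cfsg.Agent.H659.SevenU42

universe u v

section basic

variable {F : Type u} [Field F]

/-- evaluation of `ℤ[√-3]` -/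
noncomputable def ev (r : F) (hr : r * r = ((-3 : ℤ) : F)) : ℤ√(-3) →+* F := Zsqrtd.lift ⟨r, hr⟩

theorem ev_apply {r : F} (hr : r * r = ((-3 : ℤ) : F)) (a b : ℤ) : ev r hr ⟨a, b⟩ = a + b * r := by
  rw [ev, Zsqrtd.lift_apply_apply]

/-- a table as a matrix over the field -/
noncomputable def MF (r : F) (hr : r * r = ((-3 : ℤ) : F)) (a : Fin 4 → Fin 4 → ℤ√(-3)) : Matrix (Fin 4) (Fin 4) F :=
  Matrix.of fun i j => ev r hr (a i j)

theorem MF_mul {r : F} (hr : r * r = ((-3 : ℤ) : F)) (a b : Fin 4 → Fin 4 → ℤ√(-3)) :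
    MF r hr a * MF r hr b = MF r hr (mul4 a b) := by
  ext i j
  rw [Matrix.mul_apply, Fin.sum_univ_four]
  simp only [MF, Matrix.of_apply, mul4, map_add, map_mul]

theorem MF_transpose {r : F} (hr : r * r = ((-3 : ℤ) : F)) (a : Fin 4 → Fin 4 → ℤ√(-3)) :
    (MF r hr a)ᵀ = MF r hr (fun i j => a j i) := rfl

theorem rr {ζ : F} (h : ζ ^ 2 + ζ + 1 = 0) : (-1 - 2 * ζ) * (-1 - 2 * ζ) = ((-3 : ℤ) : F) := by
  push_cast; linear_combination 4 * h

theorem ev_sz {ζ : F} (h : ζ ^ 2 + ζ + 1 = 0) (l : Fin 3) : ev (-1 - 2 * ζ) (rr h) (sz l) = 2 * ζ ^ (l : ℕ) := by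
  fin_cases l
  · change ev (-1 - 2 * ζ) (rr h) ⟨2, 0⟩ = 2 * ζ ^ 0
    rw [ev_apply]; norm_num
  · change ev (-1 - 2 * ζ) (rr h) ⟨-1, -1⟩ = 2 * ζ ^ 1
    rw [ev_apply]; push_cast; ring
  · change ev (-1 - 2 * ζ) (rr h) ⟨-1, 1⟩ = 2 * ζ ^ 2
    rw [ev_apply]; push_cast; linear_combination (-2 : F) * h

theorem MF_conj {ζ : F} (h : ζ ^ 2 + ζ + 1 = 0) {M S S' : Fin 4 → Fin 4 → ℤ√(-3)} {l : Fin 3}
    (hM : ∀ i j, mul4 (mul4 M S) (fun a b => M b a) i j = ⟨-6, 0⟩ * (sz l * S' i j)) :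
    MF _ (rr h) M * MF _ (rr h) S * (MF _ (rr h) M)ᵀ = (-12 : F) • (ζ ^ (l : ℕ) • MF _ (rr h) S') := by
  rw [MF_transpose, MF_mul, MF_mul]
  ext i j
  rw [MF, Matrix.of_apply, hM, map_mul, map_mul, ev_sz h, ev_apply, Matrix.smul_apply, Matrix.smul_apply, MF,
    Matrix.of_apply, smul_eq_mul, smul_eq_mul]
  push_cast
  ring

end basic

variable {F : Type u} {V : Type v} [Field F] [AddCommGroup V] [Module F V] [FiniteDimensional F V]
variable {ρ : Sp →* Module.End F V}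

/-- the map to the symmetric matrices -/
noncomputable def Phi (ρ : Sp →* Module.End F V) (ξ : V →ₗ[F] F) (r : F) (hr : r * r = ((-3 : ℤ) : F)) :
    V →ₗ[F] Matrix (Fin 4) (Fin 4) F :=
  ∑ t : Fin 40, (ξ.comp (ρ (gT t)⁻¹)).smulRight (MF r hr (Sm t))

theorem Phi_apply (ξ : V →ₗ[F] F) (r : F) (hr : r * r = ((-3 : ℤ) : F)) (u : V) :
    Phi ρ ξ r hr u = ∑ t : Fin 40, ξ (ρ (gT t)⁻¹ u) • MF r hr (Sm t) := by
  rw [Phi, LinearMap.sum_apply]
  rfl

namespace Sph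

variable {v : V} {ξ : V →ₗ[F] F} {ζ : F} (h : Sph ρ v ξ ζ)

include h

theorem zq : ζ ^ 2 + ζ + 1 = 0 := by
  have h1 : (ζ - 1) * (ζ ^ 2 + ζ + 1) = 0 := by linear_combination h.good.cube
  exact (mul_eq_zero.1 h1).resolve_left (sub_ne_zero.2 h.good.ne1)

theorem step {g : Sp} {π : Fin 40 → Fin 40} {nl : Fin 40 → Fin 3 × Fin 3 × Fin 3 × Fin 4 × Fin 2 × Fin 3 × Fin 2}
    {M : Fin 4 → Fin 4 → ℤ√(-3)} (h1 : ∀ t : Fin 40, g * gT t = gT (π t) * nf (nl t))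
    (h2 : Function.Injective π)
    (h3 : ∀ (t : Fin 40) (i j : Fin 4), mul4 (mul4 M (Sm t)) (fun a b => M b a) i j =
      ⟨-6, 0⟩ * (sz (nl t).2.2.2.2.2.1 * Sm (π t) i j)) (u : V) :
    (-12 : F) • Phi ρ ξ _ (rr h.zq) (ρ g u) = MF _ (rr h.zq) M * Phi ρ ξ _ (rr h.zq) u * (MF _ (rr h.zq) M)ᵀ := by
  rw [Phi_apply, Phi_apply, Matrix.mul_sum, Matrix.sum_mul, Finset.smul_sum]
  have hb : Function.Bijective π := Finite.injective_iff_bijective.1 h2
  rw [← hb.sum_comp]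
  refine Finset.sum_congr rfl fun t _ => ?_
  have h4 : (gT (π t))⁻¹ * g = nf (nl t) * (gT t)⁻¹ := by
    rw [eq_mul_inv_iff_mul_eq, mul_assoc, h1, inv_mul_cancel_left]
  rw [mul_app, h4, ← mul_app, h.nfx, Matrix.mul_smul, Matrix.smul_mul, MF_conj h.zq (h3 t), smul_smul, smul_smul,
    smul_smul]
  congr 1
  rw [kq]
  ring

/-- values of the spherical function -/
theorem value (t : Fin 40) : 6 * ξ (ρ (gT t)⁻¹ v) = ev _ (rr h.zq) (cv t) := by
  have hp : ∀ k : Fin 3, ζ ^ ((-k : Fin 3) : ℕ) * ζ ^ (k : ℕ) = 1 := by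
    intro k
    have h3 := h.good.cube
    fin_cases k
    · change ζ ^ 0 * ζ ^ 0 = 1; simp
    · change ζ ^ 2 * ζ ^ 1 = 1; rw [← pow_add, h3]
    · change ζ ^ 1 * ζ ^ 2 = 1; rw [← pow_add, h3]
  have h0 : ζ ≠ 0 := by
    intro h0
    have := h.good.cube
    rw [h0] at this
    norm_num at this
  have h1 : ρ (nf (lT t))⁻¹ v = ζ ^ ((-(kq (lT t)) : Fin 3) : ℕ) • v := by
    have e := h.good.nf_act (lT t)
    have e2 := congrArg (ρ (nf (lT t))⁻¹) e
    rw [mul_app, inv_mul_cancel, act1, map_smul] at e2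
    conv_rhs => rw [e2]
    rw [smul_smul, hp, one_smul]
  have h2 : ∀ c : Fin 3, 3 * ξ (ρ (rep c)⁻¹ v) = ev _ (rr h.zq) (![⟨3, 0⟩, 0, ⟨-1, 0⟩] c) := by
    intro c
    fin_cases c
    · change 3 * ξ (ρ (1 : Sp)⁻¹ v) = ev _ (rr h.zq) ⟨3, 0⟩
      rw [inv_one, act1, h.one, ev_apply]; norm_num
    · change 3 * ξ (ρ (sG)⁻¹ v) = ev _ (rr h.zq) 0
      have e : (sG)⁻¹ = sG := inv_eq_of_mul_eq_one_left (Subtype.ext (by decide +kernel))
      rw [e, show ξ (ρ sG v) = 0 from h.xs, map_zero, mul_zero]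
    · change 3 * ξ (ρ (nG)⁻¹ v) = ev _ (rr h.zq) ⟨-1, 0⟩
      have e : (nG)⁻¹ = nG * hG := inv_eq_of_mul_eq_one_left (Subtype.ext (by decide +kernel))
      rw [e, ← mul_app, show ρ hG v = v from h.good.t1, show ξ (ρ nG v) = -(3 : F)⁻¹ from h.xn, ev_apply, mul_neg,
        mul_inv_cancel₀ h.irr.three]
      norm_num
  rw [gT, _root_.mul_inv_rev, ← mul_app, h1, map_smul, map_smul, smul_eq_mul, cv, map_mul, ev_sz h.zq, ← h2]
  rw [kq]
  ring

theorem Phi_v : (6 * Phi ρ ξ _ (rr h.zq) v 1 1 : F) = 144 := by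
  rw [Phi_apply, Matrix.sum_apply, Finset.mul_sum]
  have h1 : ∀ t : Fin 40, 6 * (ξ (ρ (gT t)⁻¹ v) • MF _ (rr h.zq) (Sm t)) 1 1 =
      ev _ (rr h.zq) (cv t * Sm t 1 1) := by
    intro t
    rw [Matrix.smul_apply, smul_eq_mul, ← mul_assoc, h.value, map_mul]
    rfl
  rw [Finset.sum_congr rfl fun t _ => h1 t, ← map_sum]
  have h2 : ∑ t : Fin 40, cv t * Sm t 1 1 = tot := by
    rw [tot, ← List.sum_ofFn, List.ofFn_eq_map]
  rw [h2, tot_eq, ev_apply]
  norm_num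

end Sph

end Cfsg.Agent.H923.Ten.U42
end

-- part: H923/Ten/U42Five
section
/-!
# Ten-dimensional representations of `PSp₄(3)`: the fixed space of a transvection (helper923)
-/

set_option autoImplicit false
set_option linter.unusedSectionVars false

namespace Cfsg.Agent.H923.Ten.U42

open Module Cfsg.Agent.H659.Sp4 Cfsg.Agent.H659.SevenU42

variable {K : Type*} [Field K] {V : Type*} [AddCommGroup V] [Module K V] {O : Ops K V} {ω : K}
  [FiniteDimensional K V]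

/-- closing of type 5 -/
theorem close5 (R : Rels O) (hω : Om ω) (h2 : (2 : K) ≠ 0) (h3 : (3 : K) ≠ 0) {m0 a b : ℕ} (T : Ty O ω m0 a b 0 0)
    (hp : ∀ v, O.t1 (O.t2 v) = v) (tX : ∀ v ∈ Fi O.z1, O.t2 v = -v) {v0 v1 : V} (hv0 : v0 ∈ O.W ω 0 0 0)
    (hv1 : v1 ∈ O.W ω 0 1 0) {β : K} (hj : O.j v0 = β • v0 + v1) :
    ∃ W : Submodule K V, v0 ∈ W ∧ finrank K W ≤ 5 ∧ (∀ w ∈ W, O.y w ∈ W) ∧
      (∀ w ∈ W, O.s w ∈ W) ∧ (∀ w ∈ W, O.j w ∈ W) := by
  have ht : ∀ v, O.t1 v = O.t2 v := fun v => by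
    have := hp (O.t2 v)
    rwa [R.t2t2] at this
  have hl := absent_w R hω h3 T (l := 2) (absent_c rfl)
  have x0 : O.z1 v0 = v0 := W_le_X 0 0 hv0
  have x1 : O.z1 v1 = v1 := W_le_X 1 0 hv1
  have y0 : O.y v0 = v0 := y_fix R hω h3 T x0
  have y1 : O.y v1 = v1 := y_fix R hω h3 T x1
  have t0 : O.t2 v0 = -v0 := tX v0 x0
  have t1' : O.t2 v1 = -v1 := tX v1 x1
  -- `s v0 = -v0`
  have s0 : O.s v0 = -v0 := by
    have h4 : O.y (O.s v0) = O.s v0 := by
      have h5 : O.s v0 ∈ O.W ω 0 0 0 := W_s R hv0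
      exact y_fix R hω h3 T (W_le_X 0 0 h5)
    have e := R.s_eq v0
    rw [y0, t0, map_neg, map_neg, map_neg, map_neg, map_neg, h4, R.ss, y0, y0] at e
    exact e
  set v2 := O.s v1 with hv2
  have m1 : v2 ∈ O.W ω 1 0 0 := W_s R hv1
  rw [mem_W] at m1
  obtain ⟨b1, b2, b3⟩ := m1
  rw [om_one] at b1
  rw [om_zero] at b2 b3
  have s1 : O.s (O.y v2) = -O.y v2 := by
    rw [hv2, R.sys, y1, t1', map_neg, map_neg]
  have s2 : O.s (O.y (O.y v2)) = -O.y (O.y v2) := by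
    rw [hv2, R.syys, ht, t1', map_neg, y1, map_neg, map_neg, map_neg]
  have j1 : O.j v1 = -v0 - β • (β • v0 + v1) := by
    have h4 : v1 = O.j v0 - β • v0 := by rw [hj]; abel
    conv_lhs => rw [h4]
    rw [map_sub, map_smul, R.jj, t0, hj]
  let S : Set V := {v0, v1, v2, O.y v2, O.y (O.y v2)}
  have i0 : v0 ∈ Submodule.span K S := Submodule.subset_span (by simp [S])
  have i1 : v1 ∈ Submodule.span K S := Submodule.subset_span (by simp [S])
  have i2 : v2 ∈ Submodule.span K S := Submodule.subset_span (by simp [S])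
  have i3 : O.y v2 ∈ Submodule.span K S := Submodule.subset_span (by simp [S])
  have i4 : O.y (O.y v2) ∈ Submodule.span K S := Submodule.subset_span (by simp [S])
  have key : ∀ T : Module.End K V, (∀ w ∈ S, T w ∈ Submodule.span K S) →
      ∀ w ∈ Submodule.span K S, T w ∈ Submodule.span K S := by
    intro T hT w hw
    have : Submodule.span K S ≤ (Submodule.span K S).comap T := Submodule.span_le.2 hT
    exact this hw
  have jj := jR R hω b1 b3 (ju_fix R hω h2 hl b1 b3) i2 i3 i4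
  refine ⟨Submodule.span K S, i0, ?_, ?_, ?_, ?_⟩
  · classical
    have hS : S = (({v0, v1, v2, O.y v2, O.y (O.y v2)} : Finset V) : Set V) := by simp [S]
    rw [hS]
    refine (finrank_span_finset_le_card _).trans ?_
    exact Finset.card_le_five
  · refine key O.y ?_
    rintro w (rfl | rfl | rfl | rfl | rfl)
    · rw [y0]; exact i0
    · rw [y1]; exact i1
    · exact i3
    · exact i4
    · rw [R.yyy]; exact i2
  · refine key O.s ?_
    rintro w (rfl | rfl | rfl | rfl | rfl)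
    · rw [s0]; exact neg_mem i0
    · exact i2
    · rw [hv2, R.ss]; exact i1
    · rw [s1]; exact neg_mem i3
    · rw [s2]; exact neg_mem i4
  · refine key O.j ?_
    rintro w (rfl | rfl | rfl | rfl | rfl)
    · rw [hj]; exact add_mem (Submodule.smul_mem _ _ i0) i1
    · rw [j1]; exact sub_mem (neg_mem i0) (Submodule.smul_mem _ _ (add_mem (Submodule.smul_mem _ _ i0) i1))
    · exact jj.1
    · exact jj.2.1
    · exact jj.2.2

theorem lin_indep (hω : Om ω) (h3 : (3 : K) ≠ 0) {T : Module.End K V} {v0 w1 w2 : V} (n0 : v0 ≠ 0) (n1 : w1 ≠ 0)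
    (n2 : w2 ≠ 0) (z0 : T v0 = v0) (z1 : T w1 = ω • w1) (z2 : T w2 = ω ^ 2 • w2) :
    LinearIndependent K ![v0, w1, w2] := by
  rw [Fintype.linearIndependent_iff]
  intro g hg
  simp only [Fin.sum_univ_three, Matrix.cons_val_zero, Matrix.cons_val_one, Matrix.cons_val_two, Matrix.tail_cons,
    Matrix.head_cons] at hg
  change g 0 • v0 + g 1 • w1 + g 2 • w2 = 0 at hg
  have e1 : g 0 • v0 + (g 1 * ω) • w1 + (g 2 * ω ^ 2) • w2 = 0 := by
    have := congrArg T hg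
    simp only [map_add, map_smul, map_zero, z0, z1, z2, smul_smul] at this
    exact this
  have e2 : g 0 • v0 + (g 1 * ω ^ 2) • w1 + (g 2 * ω) • w2 = 0 := by
    have := congrArg T e1
    simp only [map_add, map_smul, map_zero, z0, z1, z2, smul_smul] at this
    rw [show g 1 * ω * ω = g 1 * ω ^ 2 by ring, show g 2 * ω ^ 2 * ω ^ 2 = g 2 * ω by
      linear_combination g 2 * ω * hω.c] at this
    exact this
  have f0 : (3 * g 0) • v0 = 0 := by
    have : (3 * g 0) • v0 = (g 0 • v0 + g 1 • w1 + g 2 • w2) + (g 0 • v0 + (g 1 * ω) • w1 + (g 2 * ω ^ 2) • w2) +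
        (g 0 • v0 + (g 1 * ω ^ 2) • w1 + (g 2 * ω) • w2) - ((ω ^ 2 + ω + 1) * g 1) • w1 -
        ((ω ^ 2 + ω + 1) * g 2) • w2 := by module
    rw [this, hg, e1, e2, hω.a]; simp
  have f1 : (3 * g 1) • w1 = 0 := by
    have : (3 * g 1) • w1 = (g 0 • v0 + g 1 • w1 + g 2 • w2) + ω ^ 2 • (g 0 • v0 + (g 1 * ω) • w1 + (g 2 * ω ^ 2) • w2) +
        ω • (g 0 • v0 + (g 1 * ω ^ 2) • w1 + (g 2 * ω) • w2) - ((ω ^ 2 + ω + 1) * g 0) • v0 -
        ((ω ^ 4 + ω ^ 2 + 1) * g 2) • w2 - (2 * (ω ^ 3 - 1) * g 1) • w1 := by module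
    rw [this, hg, e1, e2, hω.a, hω.c, show ω ^ 4 + ω ^ 2 + 1 = 0 by linear_combination ω * hω.c + hω.a]; simp
  have f2 : (3 * g 2) • w2 = 0 := by
    have : (3 * g 2) • w2 = (g 0 • v0 + g 1 • w1 + g 2 • w2) + ω • (g 0 • v0 + (g 1 * ω) • w1 + (g 2 * ω ^ 2) • w2) +
        ω ^ 2 • (g 0 • v0 + (g 1 * ω ^ 2) • w1 + (g 2 * ω) • w2) - ((ω ^ 2 + ω + 1) * g 0) • v0 -
        ((ω ^ 4 + ω ^ 2 + 1) * g 1) • w1 - (2 * (ω ^ 3 - 1) * g 2) • w2 := by module
    rw [this, hg, e1, e2, hω.a, hω.c, show ω ^ 4 + ω ^ 2 + 1 = 0 by linear_combination ω * hω.c + hω.a]; simp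
  have g0 := (mul_eq_zero.1 ((smul_eq_zero.1 f0).resolve_right n0)).resolve_left h3
  have g1 := (mul_eq_zero.1 ((smul_eq_zero.1 f1).resolve_right n1)).resolve_left h3
  have g2 := (mul_eq_zero.1 ((smul_eq_zero.1 f2).resolve_right n2)).resolve_left h3
  intro i
  fin_cases i
  · exact g0
  · exact g1
  · exact g2

/-- one of the components of `j v0` vanishes -/
theorem or_zero (R : Rels O) (hω : Om ω) (h2 : (2 : K) ≠ 0) (h3 : (3 : K) ≠ 0)
    (tX : ∀ v ∈ Fi O.z1, O.t2 v = -v) {v0 w1 w2 : V} (hv00 : v0 ≠ 0) (hv0 : v0 ∈ O.W ω 0 0 0)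
    (m1 : w1 ∈ O.W ω 0 1 0) (m2 : w2 ∈ O.W ω 0 2 0) {β : K} (hj : O.j v0 = β • v0 + w1 + w2) :
    w1 = 0 ∨ w2 = 0 := by
  have hX : ∀ v ∈ Fi O.z1, O.z2 v ∈ Fi O.z1 := Fz1_z2 R
  have hXj : ∀ v ∈ Fi O.z1, O.j v ∈ Fi O.z1 := Fz1_j R
  have x0 : v0 ∈ Fi O.z1 := W_le_X 0 0 hv0
  have t0 : O.t2 v0 = -v0 := tX v0 x0
  have hjj : O.j (O.j v0) = -v0 := by rw [R.jj, t0]
  have z0 : O.z2 v0 = v0 := by
    have := (mem_W.1 hv0).2.1
    rwa [om_zero] at this
  have z1' : O.z2 w1 = ω • w1 := by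
    have := (mem_W.1 m1).2.1
    rwa [om_one] at this
  have z2' : O.z2 w2 = ω ^ 2 • w2 := by
    have := (mem_W.1 m2).2.1
    rwa [om_two] at this
  by_contra hcon
  push Not at hcon
  obtain ⟨n1, n2⟩ := hcon
  have e1 : O.j w1 + O.j w2 = -v0 - β • (β • v0 + w1 + w2) := by
    have h4 : w1 + w2 = O.j v0 - β • v0 := by rw [hj]; abel
    rw [← map_add, h4, map_sub, map_smul, hjj, hj]
  have e2 : β • (β • v0 + w1 + w2) + ω • O.j w1 + ω ^ 2 • O.j w2 = β • v0 + ω ^ 2 • w1 + ω • w2 := by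
    have e := R.zj3 v0
    have h4 : O.z2 (O.j (O.z2 (O.j (O.z2 (O.j v0))))) = -v0 := by rw [e, t0]
    have h5 : O.j (O.z2 (O.j (O.z2 (O.j v0)))) = -v0 := by
      have := congrArg (fun u => O.z2 (O.z2 u)) h4
      simp only [R.z2z2z2, map_neg, z0] at this
      exact this
    have h6 : O.z2 (O.j (O.z2 (O.j v0))) = O.j v0 := by
      have h7 := congrArg O.j h5
      have h8 : O.j (O.j (O.z2 (O.j (O.z2 (O.j v0))))) = -O.z2 (O.j (O.z2 (O.j v0))) := by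
        rw [R.jj]
        exact tX _ (hX _ (hXj _ (hX _ (hXj _ x0))))
      rw [h8, map_neg] at h7
      exact neg_injective h7
    have h9 : O.j (O.z2 (O.j v0)) = O.z2 (O.z2 (O.j v0)) := by
      have := congrArg (fun u => O.z2 (O.z2 u)) h6
      simp only [R.z2z2z2] at this
      exact this
    have h10 : O.z2 (O.j v0) = β • v0 + ω • w1 + ω ^ 2 • w2 := by
      rw [hj, map_add, map_add, map_smul, z0, z1', z2']
    have h11 : O.z2 (O.z2 (O.j v0)) = β • v0 + ω ^ 2 • w1 + ω • w2 := by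
      rw [h10, map_add, map_add, map_smul, map_smul, map_smul, z0, z1', z2', smul_smul, smul_smul, ← pow_two,
        ← pow_add, show ω ^ (2 + 2) = ω by linear_combination ω * hω.c]
    rw [h11, h10, map_add, map_add, map_smul, map_smul, map_smul, hj] at h9
    exact h9
  have hc := hω.sub_ne
  have e3 : O.j w1 = (ω - ω ^ 2)⁻¹ • ((β • v0 + ω ^ 2 • w1 + ω • w2) - β • (β • v0 + w1 + w2) -
      ω ^ 2 • (-v0 - β • (β • v0 + w1 + w2))) := by
    rw [eq_inv_smul_iff₀ hc, ← e2, ← e1]; module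
  have e4 : O.j w2 = -v0 - β • (β • v0 + w1 + w2) - O.j w1 := by rw [← e1]; abel
  let Y : Submodule K V := Submodule.span K {v0, w1, w2}
  have i0 : v0 ∈ Y := Submodule.subset_span (by simp)
  have i1 : w1 ∈ Y := Submodule.subset_span (by simp)
  have i2 : w2 ∈ Y := Submodule.subset_span (by simp)
  have i3 : β • v0 + w1 + w2 ∈ Y := add_mem (add_mem (Submodule.smul_mem _ _ i0) i1) i2
  have key : ∀ T : Module.End K V, T v0 ∈ Y → T w1 ∈ Y → T w2 ∈ Y → ∀ w ∈ Y, T w ∈ Y := by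
    intro T h0 h1 h2 w hw
    have : Y ≤ Y.comap T := by
      refine Submodule.span_le.2 ?_
      rintro u (rfl | rfl | rfl)
      · exact h0
      · exact h1
      · exact h2
    exact this hw
  have k1 : O.j w1 ∈ Y := by
    rw [e3]
    exact Submodule.smul_mem _ _ (sub_mem (sub_mem (add_mem (add_mem (Submodule.smul_mem _ _ i0)
      (Submodule.smul_mem _ _ i1)) (Submodule.smul_mem _ _ i2)) (Submodule.smul_mem _ _ i3))
      (Submodule.smul_mem _ _ (sub_mem (neg_mem i0) (Submodule.smul_mem _ _ i3))))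
  have k2 : O.j w2 ∈ Y := by
    rw [e4]
    exact sub_mem (sub_mem (neg_mem i0) (Submodule.smul_mem _ _ i3)) k1
  have hYj := key O.j (by rw [hj]; exact i3) k1 k2
  have hYz := key O.z2 (by rw [z0]; exact i0) (by rw [z1']; exact Submodule.smul_mem _ _ i1)
    (by rw [z2']; exact Submodule.smul_mem _ _ i2)
  have hYX : Y ≤ Fi O.z1 := by
    refine Submodule.span_le.2 ?_
    rintro u (rfl | rfl | rfl)
    · exact x0
    · exact W_le_X 1 0 m1
    · exact W_le_X 2 0 m2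
  have hev := even_of R h2 Y hYj hYz (fun v hv => tX v (hYX hv))
  have hind := lin_indep hω h3 hv00 n1 n2 z0 z1' z2'
  have hd : finrank K Y = 3 := by
    have h5 := finrank_span_eq_card hind
    have h6 : Set.range ![v0, w1, w2] = {v0, w1, w2} := by
      ext u
      simp only [Set.mem_range, Fin.exists_fin_succ, Set.mem_insert_iff, Set.mem_singleton_iff]
      constructor
      · rintro (h | h | h | ⟨i, _⟩)
        · exact Or.inl h.symm
        · exact Or.inr (Or.inl h.symm)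
        · exact Or.inr (Or.inr h.symm)
        · exact i.elim0
      · rintro (h | h | h)
        · exact Or.inl h.symm
        · exact Or.inr (Or.inl h.symm)
        · exact Or.inr (Or.inr (Or.inl h.symm))
    rw [h6] at h5
    exact h5
  rw [hd] at hev
  exact absurd hev (by decide)

/-- the type `(m0; a, b; 0)` with a non-zero fixed weight only occurs in degree at most five -/
theorem le_five [IsAlgClosed K] (R : Rels O) (hω : Om ω) (h2 : (2 : K) ≠ 0) (h3 : (3 : K) ≠ 0) {m0 a b : ℕ}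
    (T : Ty O ω m0 a b 0 0) (hI : Irr O) (hp : ∀ v, O.t1 (O.t2 v) = v) (tX : ∀ v ∈ Fi O.z1, O.t2 v = -v)
    (hm : m0 ≠ 0) : finrank K V ≤ 5 := by
  have d0 : finrank K (O.W ω 0 0 0) = m0 := T.dim 0 0 0
  -- the operator `pr 0 ∘ j` on `W 0 0 0`
  have hX : ∀ v ∈ Fi O.z1, O.z2 v ∈ Fi O.z1 := Fz1_z2 R
  have hXj : ∀ v ∈ Fi O.z1, O.j v ∈ Fi O.z1 := Fz1_j R
  have hpr : ∀ v ∈ Fi O.z1, ∀ l : Fin 3, pr ω O.z2 l v ∈ O.W ω 0 l 0 := by
    intro v hv l
    refine mem_W_X R hω h3 T ?_ (pr_eig hω R.z2z2z2 l v)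
    exact add_mem (add_mem hv (Submodule.smul_mem _ _ (hX _ hv))) (Submodule.smul_mem _ _ (hX _ (hX _ hv)))
  let B : Module.End K (O.W ω 0 0 0) :=
    { toFun := fun v => ⟨pr ω O.z2 0 (O.j v), hpr _ (hXj _ (W_le_X 0 0 v.2)) 0⟩
      map_add' := by
        intro v w
        apply Subtype.ext
        change pr ω O.z2 0 (O.j (v + w)) = pr ω O.z2 0 (O.j v) + pr ω O.z2 0 (O.j w)
        unfold pr
        simp only [map_add, smul_add]
        abel
      map_smul' := by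
        intro r v
        apply Subtype.ext
        change pr ω O.z2 0 (O.j (r • (v : V))) = r • pr ω O.z2 0 (O.j v)
        unfold pr
        simp only [map_smul, smul_add]
        rw [smul_comm r, smul_comm r] }
  have : Nontrivial (O.W ω 0 0 0) := by
    rw [← finrank_pos_iff (R := K), d0]; omega
  obtain ⟨β', hβ'⟩ := Module.End.exists_eigenvalue B
  obtain ⟨⟨v0, hv0⟩, hv⟩ := hβ'.exists_hasEigenvector
  have hv00 : v0 ≠ 0 := fun h => hv.2 (Subtype.ext h)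
  have hB : pr ω O.z2 0 (O.j v0) = β' • v0 := congrArg Subtype.val hv.apply_eq_smul
  have x0 : v0 ∈ Fi O.z1 := W_le_X 0 0 hv0
  -- components of `j v0`
  obtain ⟨w1, w2, β, m1, m2, hj⟩ : ∃ (w1 w2 : V) (β : K), w1 ∈ O.W ω 0 1 0 ∧ w2 ∈ O.W ω 0 2 0 ∧
      O.j v0 = β • v0 + w1 + w2 := by
    refine ⟨(3 : K)⁻¹ • pr ω O.z2 1 (O.j v0), (3 : K)⁻¹ • pr ω O.z2 2 (O.j v0), (3 : K)⁻¹ * β',
      Submodule.smul_mem _ _ (hpr _ (hXj _ x0) 1), Submodule.smul_mem _ _ (hpr _ (hXj _ x0) 2), ?_⟩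
    have e := pr_sum hω O.z2 (O.j v0)
    rw [hB] at e
    have e2 := congrArg (fun u => (3 : K)⁻¹ • u) e
    simp only [smul_add, smul_smul] at e2
    rw [inv_mul_cancel₀ h3, one_smul] at e2
    exact e2.symm
  rcases or_zero R hω h2 h3 tX hv00 hv0 m1 m2 hj with h | h
  · -- use `ω ^ 2`
    have T' := T.sq hω
    have hv0' : v0 ∈ O.W (ω ^ 2) 0 0 0 := by rw [W_sq hω]; exact hv0
    have m2' : w2 ∈ O.W (ω ^ 2) 0 1 0 := by rw [W_sq hω]; exact m2
    exact finrank_le_of_irr hI hv00 (close5 R hω.sq h2 h3 T' hp tX hv0' m2' (β := β) (by rw [hj, h, add_zero]))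
  · exact finrank_le_of_irr hI hv00 (close5 R hω h2 h3 T hp tX hv0 m1 (β := β) (by rw [hj, h, add_zero]))

/-- in degree ten the fixed space of the transvection is one-dimensional -/
theorem finrank_fix [IsAlgClosed K] (R : Rels O) (h2 : (2 : K) ≠ 0) (h3 : (3 : K) ≠ 0) (hI : Irr O)
    (hd : finrank K V = 10) (hp : ∀ v, O.t1 (O.t2 v) = v) : finrank K (Fi O.z1) = 1 := by
  obtain ⟨ω, e1, e2, e3⟩ := Cfsg.Agent.H659.Triple.exists_omega h3
  have hω : Om ω := ⟨e1, e2, e3⟩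
  obtain ⟨m0, a, b, c, d, T⟩ := exists_ty R hω h3
  have hd0 := d_zero R hω h3 T (by omega)
  subst hd0
  have hX := finrank_X R hω h3 T
  have ht := T.tot
  by_cases hc : c = 0
  · exfalso
    subst hc
    have hl := absent_w R hω h3 T (l := 2) (absent_c rfl)
    have T' := T.sq hω
    have hl' := absent_w R hω.sq h3 T' (l := 2) (absent_c rfl)
    have tX := t2_neg_X R hω h3 T hI (by omega) (by
      intro l hl0 v hv ht
      have ht' : O.t2 v = -v := by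
        fin_cases l
        · exact absurd rfl hl0
        · exact t2_neg_W R hω h2 hp hl hv
        · exact t2_neg_W R hω.sq h2 hp hl' (by rw [W_sq_010 hω]; exact hv)
      exact eq_zero_of_neg h2 (ht.symm.trans ht'))
    have d0 : finrank K (O.W ω 0 0 0) = m0 := T.dim 0 0 0
    have q0 := two_mul_le R hω h2 (Fi O.z1) (O.W ω 0 0 0) (Fz1_j R) tX (W_le_X 0 0) (l := 0)
      (fun v hv => (mem_W.1 hv).2.1)
    rw [hX, d0] at q0
    have hm : m0 ≠ 0 := by omega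
    have := le_five R hω h2 h3 T hI hp tX hm
    omega
  · rcases (by omega : (a = 0 ∧ b = 0) ∨ 1 ≤ a + b) with ⟨ha, hb⟩ | hab
    · subst ha hb
      have := (casePlusSix R hω h2 h3 T hc hI (by omega) hp).1
      omega
    · omega

end Cfsg.Agent.H923.Ten.U42
end

-- part: H923/Ten/U42Rep
section
/-!
# Cores isomorphic to `PSp₄(3)` in dimension ten (helper923)
-/

set_option autoImplicit false
set_option linter.unusedSectionVars false

namespace Cfsg.Agent.H923.Ten.U42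

open Module Matrix Cfsg Cfsg.Geo Cfsg.Agent.H659.Sp4 Cfsg.Agent.H659.SevenU42 Cfsg.Agent.H659.Ac

universe u

section rank

theorem rank_map_field {F L : Type*} [Field F] [Field L] (f : F →+* L) {n : ℕ} (M : Matrix (Fin n) (Fin n) F) :
    (M.map f).rank = M.rank := by
  classical
  obtain ⟨l, l', D, h⟩ := Matrix.Pivot.exists_list_transvec_mul_mul_list_transvec_eq_diagonal M
  set A := (l.map TransvectionStruct.toMatrix).prod with hA
  set B := (l'.map TransvectionStruct.toMatrix).prod with hB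
  have hAd : A.det = 1 := TransvectionStruct.det_toMatrix_prod l
  have hBd : B.det = 1 := TransvectionStruct.det_toMatrix_prod l'
  have h1 : (Matrix.diagonal D).rank = M.rank := by
    rw [← h, Matrix.rank_mul_eq_left_of_isUnit_det _ _ (by rw [hBd]; exact isUnit_one),
      Matrix.rank_mul_eq_right_of_isUnit_det _ _ (by rw [hAd]; exact isUnit_one)]
  have h2 : (A.map f) * (M.map f) * (B.map f) = Matrix.diagonal (fun i => f (D i)) := by
    rw [← Matrix.map_mul, ← Matrix.map_mul, h, Matrix.diagonal_map (map_zero f)]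
  have hA2 : (A.map f).det = 1 := by
    have := RingHom.map_det f A
    rw [hAd, map_one] at this
    exact this.symm
  have hB2 : (B.map f).det = 1 := by
    have := RingHom.map_det f B
    rw [hBd, map_one] at this
    exact this.symm
  have h3 : (Matrix.diagonal (fun i => f (D i))).rank = (M.map f).rank := by
    rw [← h2, Matrix.rank_mul_eq_left_of_isUnit_det _ _ (by rw [hB2]; exact isUnit_one),
      Matrix.rank_mul_eq_right_of_isUnit_det _ _ (by rw [hA2]; exact isUnit_one)]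
  rw [← h1, ← h3, Matrix.rank_diagonal, Matrix.rank_diagonal]
  refine Fintype.card_congr (Equiv.subtypeEquivRight fun i => ?_)
  rw [Ne, Ne, map_eq_zero]

theorem finrank_ker_add_rank {F : Type*} [Field F] {n : ℕ} (M : Matrix (Fin n) (Fin n) F) :
    finrank F (LinearMap.ker M.mulVecLin) + M.rank = n := by
  have := LinearMap.finrank_range_add_finrank_ker M.mulVecLin
  rw [Module.finrank_fin_fun] at this
  rw [Matrix.rank]
  omega

end rank

variable {F : Type u} [Field F]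

/-- the representation on column vectors -/
noncomputable def rq (φ : Sp →* GL (Fin 10) F) : Sp →* Module.End F (Fin 10 → F) where
  toFun g := Matrix.toLin' ((φ g : GL (Fin 10) F) : Matrix (Fin 10) (Fin 10) F)
  map_one' := by
    rw [map_one, Units.val_one, Matrix.toLin'_one]; rfl
  map_mul' x y := by
    rw [map_mul, Units.val_mul, Matrix.toLin'_mul]; rfl

theorem rq_apply (φ : Sp →* GL (Fin 10) F) (g : Sp) (v : Fin 10 → F) :
    rq φ g v = ((φ g : GL (Fin 10) F) : Matrix (Fin 10) (Fin 10) F) *ᵥ v := by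
  change Matrix.toLin' _ v = _
  rw [Matrix.toLin'_apply]

/-- a covering of the core by `Sp₄(3)` -/
structure Cov (P : Subgroup (GL (Fin 10) F)) (φ : Sp →* GL (Fin 10) F) : Prop where
  range : φ.range = P
  neg : φ negG = 1
  ker : ∀ w, φ w = 1 → w = 1 ∨ w = negG

theorem fix_descend {A : Type*} [Field A] [Algebra F A] (φ : Sp →* GL (Fin 10) F) (g : Sp) :
    finrank F (Fi (rq φ g)) = finrank A (Fi (rp A φ g)) := by
  have e1 : Fi (rp A φ g) = LinearMap.ker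
      ((((φ g : GL (Fin 10) F) : Matrix (Fin 10) (Fin 10) F) - 1).map (algebraMap F A)).mulVecLin := by
    ext v
    rw [mem_Fi, LinearMap.mem_ker, Matrix.mulVecLin_apply, rp_apply, Matrix.map_sub _ (fun a b => map_sub _ a b),
      Matrix.map_one _ (map_zero _) (map_one _), Matrix.sub_mulVec, Matrix.one_mulVec, sub_eq_zero]
  have e2 : Fi (rq φ g) = LinearMap.ker
      (((φ g : GL (Fin 10) F) : Matrix (Fin 10) (Fin 10) F) - 1).mulVecLin := by
    ext v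
    rw [mem_Fi, LinearMap.mem_ker, Matrix.mulVecLin_apply, rq_apply, Matrix.sub_mulVec, Matrix.one_mulVec,
      sub_eq_zero]
  have f1 := finrank_ker_add_rank ((((φ g : GL (Fin 10) F) : Matrix (Fin 10) (Fin 10) F) - 1).map
    (algebraMap F A))
  have f2 := finrank_ker_add_rank (((φ g : GL (Fin 10) F) : Matrix (Fin 10) (Fin 10) F) - 1)
  rw [rank_map_field] at f1
  rw [e1, e2]
  omega

theorem Cov.fixA {A : Type*} [Field A] [IsAlgClosed A] [Algebra F A] {P : Subgroup (GL (Fin 10) F)}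
    {φ : Sp →* GL (Fin 10) F} (h : Cov P φ)
    (hirr : ActsAbsolutelyIrreducibly (matrixSet P)) (h2 : (2 : F) ≠ 0) (h3 : (3 : F) ≠ 0) :
    finrank A (Fi (ops (rp A φ)).z1) = 1 := by
  have hs := Cfsg.Agent.H920.span_eq_top hirr
  have hinj : Function.Injective (algebraMap F A) := (algebraMap F A).injective
  have a2 : (2 : A) ≠ 0 := by
    intro h0
    apply h2; apply hinj
    rw [map_ofNat, h0, map_zero]
  have a3 : (3 : A) ≠ 0 := by
    intro h0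
    apply h3; apply hinj
    rw [map_ofNat, h0, map_zero]
  have hfr : Module.finrank A (Fin 10 → A) = 10 := by
    rw [Module.finrank_fintype_fun_eq_card, Fintype.card_fin]
  refine finrank_fix (rels (rp A φ)) a2 a3 (irr_of _ (rp_irr A φ h.range hs)) hfr ?_
  intro v
  rw [t1t2_eq, rp_apply, h.neg, Units.val_one, Matrix.map_one _ (map_zero _) (map_one _), Matrix.one_mulVec]

theorem Cov.fix {P : Subgroup (GL (Fin 10) F)} {φ : Sp →* GL (Fin 10) F} (h : Cov P φ)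
    (hirr : ActsAbsolutelyIrreducibly (matrixSet P)) (h2 : (2 : F) ≠ 0) (h3 : (3 : F) ≠ 0) :
    finrank F (Fi (rq φ (U 7 2))) = 1 :=
  (fix_descend (A := AlgebraicClosure F) φ (U 7 2)).trans (h.fixA hirr h2 h3)

theorem Cov.irr1 {P : Subgroup (GL (Fin 10) F)} {φ : Sp →* GL (Fin 10) F} (h : Cov P φ)
    (hirr : ActsAbsolutelyIrreducibly (matrixSet P)) (h2 : (2 : F) ≠ 0) (h3 : (3 : F) ≠ 0) : Irr1 (rq φ) where
  two := h2
  three := h3
  dim := by rw [finrank_pi, Fintype.card_fin]; norm_num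
  irr := by
    intro U hU
    apply hirr.1
    rintro _ ⟨x, hx, rfl⟩
    rw [SetLike.mem_coe, ← h.range] at hx
    obtain ⟨w, rfl⟩ := hx
    rw [Submodule.map_le_iff_le_comap]
    intro u hu
    have h1 := hU w u hu
    rw [rq_apply] at h1
    rw [Submodule.mem_comap, Matrix.toLin'_apply]
    exact h1
  neg := by
    intro v
    rw [rq_apply, h.neg, Units.val_one, Matrix.one_mulVec]
  one := h.fix hirr h2 h3

end Cfsg.Agent.H923.Ten.U42
end

-- part: H923/Ten/U42Aut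
section
/-!
# Automorphisms of `PSp₄(3)` in dimension ten (helper923)
-/

set_option autoImplicit false
set_option linter.unusedSectionVars false

namespace Cfsg.Agent.H923.Ten.U42

open Module Matrix Cfsg Cfsg.Geo Cfsg.Agent.H659.Sp4 Cfsg.Agent.H659.SevenU42 Cfsg.Agent.H659.Ac
open Cfsg.Agent.ChevalleyStructure.B2Rep Cfsg.Agent.ChevalleyStructure.B2Sp4

universe u

/-! ### The outer automorphism -/

def dM : Matrix I4 I4 (ZMod 3) := mk4 ![![1,0,0,0],![0,1,0,0],![0,0,2,0],![0,0,0,2]]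

theorem dM_sq : dM * dM = 1 := by decide +kernel
theorem dM_t : dMᵀ = dM := by decide +kernel
theorem dM_J : dM * Matrix.J (Fin 2) (ZMod 3) * dM = -Matrix.J (Fin 2) (ZMod 3) := by decide +kernel

theorem dl_mem (g : Sp) : dM * g.1 * dM ∈ Matrix.symplecticGroup (Fin 2) (ZMod 3) := by
  rw [SymplecticGroup.mem_iff, Matrix.transpose_mul, Matrix.transpose_mul, dM_t]
  have h1 := SymplecticGroup.mem_iff.1 g.2
  calc dM * g.1 * dM * Matrix.J (Fin 2) (ZMod 3) * (dM * ((g.1)ᵀ * dM))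
      = dM * g.1 * (dM * Matrix.J (Fin 2) (ZMod 3) * dM) * ((g.1)ᵀ * dM) := by simp only [Matrix.mul_assoc]
    _ = -(dM * (g.1 * Matrix.J (Fin 2) (ZMod 3) * (g.1)ᵀ) * dM) := by
        rw [dM_J]; simp only [Matrix.mul_neg, Matrix.neg_mul, Matrix.mul_assoc]
    _ = Matrix.J (Fin 2) (ZMod 3) := by rw [h1, dM_J, neg_neg]

/-- conjugation by a similitude -/
def dS : Sp →* Sp where
  toFun g := ⟨dM * g.1 * dM, dl_mem g⟩
  map_one' := Subtype.ext (by
    change dM * (1 : Matrix I4 I4 (ZMod 3)) * dM = 1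
    rw [Matrix.mul_one, dM_sq])
  map_mul' a b := Subtype.ext (by
    change dM * (a.1 * b.1) * dM = (dM * a.1 * dM) * (dM * b.1 * dM)
    have : dM * a.1 * dM * (dM * b.1 * dM) = dM * a.1 * (dM * dM) * b.1 * dM := by simp only [Matrix.mul_assoc]
    rw [this, dM_sq, Matrix.mul_one]; simp only [Matrix.mul_assoc])

theorem dS_dS (g : Sp) : dS (dS g) = g := by
  apply Subtype.ext
  change dM * (dM * g.1 * dM) * dM = g.1
  have : dM * (dM * g.1 * dM) * dM = (dM * dM) * g.1 * (dM * dM) := by simp only [Matrix.mul_assoc]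
  rw [this, dM_sq, Matrix.mul_one, Matrix.one_mul]

theorem dS_z1 : dS (U 7 2) = (U 7 2)⁻¹ := by
  rw [eq_inv_iff_mul_eq_one]; exact Subtype.ext (by decide +kernel)
theorem dS_z2 : dS (U 4 1) = (U 4 1)⁻¹ := by
  rw [eq_inv_iff_mul_eq_one]; exact Subtype.ext (by decide +kernel)
theorem dS_neg : dS negG = negG := Subtype.ext (by decide +kernel)

variable {F : Type u} [Field F] {P : Subgroup (GL (Fin 10) F)} {φ : Sp →* GL (Fin 10) F}

/-- no element of `GL₁₀` induces the outer automorphism -/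
theorem no_delta {v : Fin 10 → F} {ζ : F} (h : Good (rq φ) v ζ) (T : (Fin 10 → F) →ₗ[F] (Fin 10 → F))
    (hT : Function.Injective T) (hc : ∀ g u, T (rq φ g u) = rq φ (dS g) (T u)) : False := by
  have hz1 : rq φ (U 7 2) v = v := h.z1
  have hz2 : rq φ (U 4 1) v = ζ • v := h.z2
  have e1 := hc (U 7 2) v
  rw [hz1, dS_z1] at e1
  have e2 : rq φ (U 7 2) (T v) = T v := by
    conv_lhs => rw [e1]
    rw [mul_app, mul_inv_cancel, act1]
  obtain ⟨μ, hμ⟩ := h.un (T v) e2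
  have hμ0 : μ ≠ 0 := by
    rintro rfl
    rw [zero_smul] at hμ
    exact h.ne (hT (hμ.trans (map_zero T).symm))
  have e3 := hc (U 4 1) v
  rw [hz2, dS_z2, map_smul, hμ] at e3
  have e4 := congrArg (rq φ (U 4 1)) e3
  rw [mul_app, mul_inv_cancel, act1, map_smul, map_smul, hz2, smul_smul, smul_smul] at e4
  have e5 := smul_left_injective F h.ne e4
  have e5' : ζ * μ * ζ = μ := e5
  have e6 : ζ ^ 2 = 1 := by
    have : μ * (ζ ^ 2 - 1) = 0 := by linear_combination e5'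
    linear_combination (mul_eq_zero.1 this).resolve_left hμ0
  apply h.ne1
  have := h.cube
  linear_combination this - ζ * e6

/-- restriction of the codomain -/
def cr (h : Cov P φ) : Sp →* P := φ.codRestrict P fun w => by rw [← h.range]; exact ⟨w, rfl⟩

theorem cr_surj (h : Cov P φ) : Function.Surjective (cr h) := by
  rintro ⟨x, hx⟩
  rw [← h.range] at hx
  obtain ⟨w, hw⟩ := hx
  exact ⟨w, Subtype.ext hw⟩

theorem cr_ker (h : Cov P φ) {w : Sp} (hw : cr h w = 1) : w = 1 ∨ w = negG :=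
  h.ker w (congrArg Subtype.val hw)

theorem cr_neg (h : Cov P φ) : cr h negG = 1 := Subtype.ext h.neg

theorem Cov.equiv (h : Cov P φ) : Nonempty (P ≃* PSp 2 (ZMod 3)) := by
  have hk : (cr h).ker = Subgroup.center Sp := by
    ext w
    rw [MonoidHom.mem_ker]
    constructor
    · intro hw
      rcases cr_ker h hw with rfl | rfl
      · exact one_mem _
      · rw [Subgroup.mem_center_iff]
        intro g
        apply Subtype.ext
        change g.1 * negG.1 = negG.1 * g.1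
        rw [negG_val, mul_neg, neg_mul, mul_one, one_mul]
    · intro hw
      rcases center_sp hw with rfl | rfl
      · exact map_one _
      · exact cr_neg h
  exact ⟨((QuotientGroup.quotientMulEquivOfEq hk.symm).trans
    (QuotientGroup.quotientKerEquivOfSurjective (cr h) (cr_surj h))).symm⟩

theorem card_sp : Nat.card Sp = 51840 := by
  have h1 := Cfsg.Agent.S0245.result (F := ZMod 3) (q := 3) (ZMod.card 3) 2
  rw [h1]
  simp only [Finset.prod_range_succ, Finset.prod_range_zero]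
  norm_num

theorem card_psp : Nat.card (PSp 2 (ZMod 3)) = 25920 := by
  have h1 := card_sp
  have h2 : Nat.card (Subgroup.center Sp) = 2 :=
    Cfsg.Agent.LieClassical.SympCenter.card_center (F := ZMod 3) (m := 2) (by norm_num)
  have h3 := Subgroup.card_eq_card_quotient_mul_card_subgroup (Subgroup.center Sp)
  rw [h1, h2] at h3
  change Nat.card (Sp ⧸ Subgroup.center Sp) = 25920
  omega

theorem Cov.card (h : Cov P φ) : Nat.card P = 25920 := by
  obtain ⟨e⟩ := h.equiv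
  rw [Nat.card_congr e.toEquiv, card_psp]

theorem Cov.card_aut (h : Cov P φ) : Nat.card (MulAut P) = 51840 := by
  obtain ⟨e⟩ := h.equiv
  have : Fact (Nat.Prime 3) := ⟨Nat.prime_three⟩
  rw [Nat.card_congr (MulAut.congr e).toEquiv,
    S0814.result (F := ZMod 3) 3 1 le_rfl (by rw [ZMod.card]; norm_num) 2 le_rfl (by norm_num), card_psp]
  norm_num

theorem Cov.exists_D (h : Cov P φ) : ∃ D : MulAut P, ∀ w, D (cr h w) = cr h (dS w) := by
  have hk : (cr h).ker ≤ ((cr h).comp dS).ker := by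
    intro w hw
    rw [MonoidHom.mem_ker] at hw ⊢
    change cr h (dS w) = 1
    rcases cr_ker h hw with rfl | rfl
    · rw [map_one, map_one]
    · rw [dS_neg, cr_neg]
  let D0 : P →* P := (cr h).liftOfSurjective (cr_surj h) ⟨(cr h).comp dS, hk⟩
  have hD : ∀ w, D0 (cr h w) = cr h (dS w) := fun w =>
    MonoidHom.liftOfRightInverse_comp_apply (cr h) _ (Function.rightInverse_surjInv (cr_surj h)) ⟨(cr h).comp dS, hk⟩ w
  have hDD : ∀ x, D0 (D0 x) = x := by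
    intro x
    obtain ⟨w, rfl⟩ := cr_surj h x
    rw [hD, hD, dS_dS]
  exact ⟨{ toFun := D0, invFun := D0, left_inv := hDD, right_inv := hDD, map_mul' := map_mul D0 }, hD⟩

/-- every element normalising the core is a scalar times an element of the core -/
theorem Cov.eq_mul (h : Cov P φ) {v : Fin 10 → F} {ζ : F} (hv : Good (rq φ) v ζ)
    (hbot : ∀ x ∈ P, x ∈ scalars (Fin 10) F → x = 1)
    (hirr : ActsAbsolutelyIrreducibly (matrixSet P)) (t : GL (Fin 10) F) (ht : ∀ x, x ∈ P ↔ t * x * t⁻¹ ∈ P) :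
    ∃ x ∈ P, ∃ c : F, (t : Matrix (Fin 10) (Fin 10) F) = c • (x : Matrix (Fin 10) (Fin 10) F) := by
  -- the automorphism
  let ψ : MulAut P :=
    { toFun := fun x => ⟨t * x * t⁻¹, (ht x).1 x.2⟩
      invFun := fun x => ⟨t⁻¹ * x * t, (ht _).2 (by
        have : t * (t⁻¹ * (x : GL (Fin 10) F) * t) * t⁻¹ = x := by group
        rw [this]; exact x.2)⟩
      left_inv := fun x => Subtype.ext (by change t⁻¹ * (t * (x : GL (Fin 10) F) * t⁻¹) * t = x; group)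
      right_inv := fun x => Subtype.ext (by change t * (t⁻¹ * (x : GL (Fin 10) F) * t) * t⁻¹ = x; group)
      map_mul' := fun x y => Subtype.ext (by
        change t * ((x : GL (Fin 10) F) * y) * t⁻¹ = (t * x * t⁻¹) * (t * y * t⁻¹); group) }
  have hψ : ∀ x : P, ((ψ x : P) : GL (Fin 10) F) = t * x * t⁻¹ := fun x => rfl
  obtain ⟨D, hD⟩ := h.exists_D
  -- elements commuting with `P` are scalar
  have hsch : ∀ y : GL (Fin 10) F, (∀ x ∈ P, y * x = x * y) → ∃ c : F,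
      (y : Matrix (Fin 10) (Fin 10) F) = c • (1 : Matrix (Fin 10) (Fin 10) F) := by
    intro y hy
    apply hirr.2
    rintro _ ⟨x, hx, rfl⟩
    rw [← Units.val_mul, ← Units.val_mul, hy x hx]
  have hci : Function.Injective (MulAut.conj : P →* MulAut P) := by
    rw [injective_iff_map_eq_one]
    intro x hx
    have h1 : ∀ y ∈ P, (x : GL (Fin 10) F) * y = y * x := by
      intro y hy
      have h2 := DFunLike.congr_fun hx ⟨y, hy⟩
      have h3 : (x : GL (Fin 10) F) * y * (x : GL (Fin 10) F)⁻¹ = y := congrArg Subtype.val h2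
      rwa [mul_inv_eq_iff_eq_mul] at h3
    obtain ⟨c, hc⟩ := hsch _ h1
    apply Subtype.ext
    apply hbot _ x.2
    have hc0 : c ≠ 0 := by
      rintro rfl
      rw [zero_smul] at hc
      have h4 : (x : GL (Fin 10) F).1 * ((x : GL (Fin 10) F)⁻¹).1 = 1 := Units.mul_inv _
      rw [hc, Matrix.zero_mul] at h4
      have := congrFun (congrFun h4 0) 0
      simp at this
    rw [mem_scalars_iff]
    exact ⟨Units.mk0 c hc0, hc⟩
  have hidx : (MulAut.conj : P →* MulAut P).range.index = 2 := by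
    have h1 := Subgroup.card_mul_index (MulAut.conj : P →* MulAut P).range
    rw [h.card_aut, Nat.card_congr (MonoidHom.ofInjective hci).toEquiv.symm, h.card] at h1
    omega
  have hDn : D ∉ (MulAut.conj : P →* MulAut P).range := by
    rintro ⟨x, hx⟩
    refine no_delta hv (Matrix.toLin' ((x : GL (Fin 10) F) : Matrix (Fin 10) (Fin 10) F)) ?_ ?_
    · intro a b hab
      rw [Matrix.toLin'_apply, Matrix.toLin'_apply] at hab
      have h2 := congrArg (fun z => ((x : GL (Fin 10) F)⁻¹ : GL (Fin 10) F).1 *ᵥ z) hab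
      simp only [Matrix.mulVec_mulVec, ← Units.val_mul, inv_mul_cancel, Units.val_one, Matrix.one_mulVec] at h2
      exact h2
    · intro g u
      rw [rq_apply, rq_apply, Matrix.toLin'_apply, Matrix.toLin'_apply, Matrix.mulVec_mulVec, Matrix.mulVec_mulVec,
        ← Units.val_mul, ← Units.val_mul]
      have h2 := DFunLike.congr_fun hx (cr h g)
      rw [hD] at h2
      have h3 : (x : GL (Fin 10) F) * φ g * (x : GL (Fin 10) F)⁻¹ = φ (dS g) := congrArg Subtype.val h2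
      rw [← h3, inv_mul_cancel_right]
  by_cases hin : ψ ∈ (MulAut.conj : P →* MulAut P).range
  · obtain ⟨x, hx⟩ := hin
    obtain ⟨c, hc⟩ := hsch ((x : GL (Fin 10) F)⁻¹ * t) (by
      intro y hy
      have h2 := DFunLike.congr_fun hx ⟨y, hy⟩
      have h3 : (x : GL (Fin 10) F) * y * (x : GL (Fin 10) F)⁻¹ = t * y * t⁻¹ := congrArg Subtype.val h2
      have h4 : t * y = (x : GL (Fin 10) F) * y * (x : GL (Fin 10) F)⁻¹ * t := by rw [h3]; group
      rw [mul_assoc, h4]; group)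
    refine ⟨_, x.2, c, ?_⟩
    have h3 : t = (x : GL (Fin 10) F) * ((x : GL (Fin 10) F)⁻¹ * t) := by group
    conv_lhs => rw [h3]
    rw [Units.val_mul, hc, Matrix.mul_smul, Matrix.mul_one]
  · exfalso
    obtain ⟨x, hx⟩ := (Subgroup.mul_mem_iff_of_index_two hidx (a := ψ) (b := D)).2
      ⟨fun h0 => absurd h0 hin, fun h0 => absurd h0 hDn⟩
    have key : ∀ g, t * φ (dS g) * t⁻¹ = (x : GL (Fin 10) F) * φ g * (x : GL (Fin 10) F)⁻¹ := by
      intro g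
      have h2 := DFunLike.congr_fun hx (cr h g)
      rw [MulAut.mul_apply, hD] at h2
      exact (congrArg Subtype.val h2).symm
    refine no_delta hv (Matrix.toLin' ((t⁻¹ * (x : GL (Fin 10) F) : GL (Fin 10) F) : Matrix (Fin 10) (Fin 10) F))
      ?_ ?_
    · intro a b hab
      rw [Matrix.toLin'_apply, Matrix.toLin'_apply] at hab
      have h2 := congrArg (fun z => ((t⁻¹ * (x : GL (Fin 10) F) : GL (Fin 10) F)⁻¹ : GL (Fin 10) F).1 *ᵥ z) hab
      simp only [Matrix.mulVec_mulVec, ← Units.val_mul, inv_mul_cancel, Units.val_one, Matrix.one_mulVec] at h2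
      exact h2
    · intro g u
      rw [rq_apply, rq_apply, Matrix.toLin'_apply, Matrix.toLin'_apply, Matrix.mulVec_mulVec, Matrix.mulVec_mulVec,
        ← Units.val_mul, ← Units.val_mul]
      have h3 : t⁻¹ * (x : GL (Fin 10) F) * φ g = φ (dS g) * (t⁻¹ * (x : GL (Fin 10) F)) := by
        have h4 : φ (dS g) = t⁻¹ * ((x : GL (Fin 10) F) * φ g * (x : GL (Fin 10) F)⁻¹) * t := by rw [← key]; group
        rw [h4]; group
      rw [h3]

end Cfsg.Agent.H923.Ten.U42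
end

private theorem dce_87998ad37841 : _root_.True := by
  try have : _root_.True := by simp only [_root_.Cfsg.Agent.H923.Ten.U42.nf.eq_1]
  try have : _root_.True := by simp only [_root_.Cfsg.Agent.H923.Ten.U42.gT.eq_1]
  try have : _root_.True := by simp only [_root_.Cfsg.Agent.H923.Ten.U42.MF.eq_1]
  try have : _root_.True := by simp only [_root_.Cfsg.Agent.H923.Ten.U42.kq.eq_1]
  try have : _root_.True := by simp only [_root_.Cfsg.Agent.H923.Ten.U42.Phi.eq_1]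
  try have : _root_.True := by simp only [_root_.Cfsg.Agent.H923.Ten.U42.mul4.eq_1]
  try have : _root_.True := by simp only [_root_.Cfsg.Agent.H923.Ten.U42.es.eq_1]
  try have : _root_.True := by simp only [_root_.Cfsg.Agent.H923.Ten.U42.cv.eq_1]
  try have : _root_.True := by simp only [_root_.Cfsg.Agent.H923.Ten.U42.tot.eq_1]
  try have : _root_.True := by simp only [_root_.Cfsg.Agent.H923.Ten.U42.ev.congr_simp]
  try have : _root_.True := by simp only [_root_.Cfsg.Agent.H923.Ten.U42.ev.eq_1]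
  exact _root_.True.intro
end

-- part: H840/M11/TrZ
section
set_option linter.all false
open scoped Cfsg.Agent.FastGrp

/-!
# Traces of the ten-dimensional representation, the additional element
-/

set_option autoImplicit false
set_option linter.unusedSectionVars false
set_option linter.unusedVariables false
set_option maxRecDepth 100000

namespace Cfsg.Agent.H840.M11

open Cfsg Cfsg.Agent.CoThreeStd.MTwelve Cfsg.Agent.H6.M11 Cfsg.Agent.SporadicStructure.M11InvPerms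
open scoped Matrix

/-- class representatives, words in the letters -/
def rv (i : ℕ) : List ℕ := [[], [3, 0, 3, 0, 3, 0], [3, 0, 3, 0], [2, 2], [6], [3, 0], [2], [2, 2, 2, 2, 2, 2, 2], [5],
  [5, 5, 5, 5, 5, 5, 5, 5, 5, 5]].getD i []

/-- class representatives, words in the generators -/
def rg (i : ℕ) : List ℕ := [[], [0, 0, 1, 0, 0], [0, 0, 1, 2, 1, 0, 1, 1, 0, 0, 1], [2, 0, 2, 1, 0, 2, 1, 0, 1],
  [2, 1, 1, 2, 1, 0, 0, 0, 1], [2, 0, 2, 0, 1, 0, 0, 0], [2, 0, 0, 1, 1, 2, 1, 0, 1, 2], [0, 2, 0, 0, 0, 1, 1, 2],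
  [2, 0, 0, 1, 1, 2, 0, 0], [1, 2, 0, 1, 1, 0, 1, 2, 1]].getD i []

/-- the traces -/
def rt (i : ℕ) : Zs := [(10, 0), (-2, 0), (1, 0), (0, 0), (0, 0), (1, 0), (0, 1), (0, -1), (-1, 0), (-1, 0)].getD i (0, 0)

theorem rv_rg : ∀ i < 10, eqW ((rv i).flatMap W) (((rg i).flatMap UL).flatMap W) = true := by decide +kernel

theorem rg_lt : ∀ i < 10, (rg i).all (fun j => decide (j < 3)) = true := by decide +kernel

private noncomputable def _root_.Cfsg.Agent.LsF.fd7f375_8 : {f // @Cfsg.Agent.H840.M11.za = f} := ⟨_, by first | (delta Cfsg.Agent.H840.M11.za; rewrite [Cfsg.Agent.LsF.iadd_pat]; exact rfl) | exact rfl⟩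
private noncomputable def _root_.Cfsg.Agent.LsF.fd7f375_9 : {f // @Cfsg.Agent.H840.M11.zm = f} := ⟨_, by first | (delta Cfsg.Agent.H840.M11.zm; rewrite [Cfsg.Agent.LsF.iadd_pat, Cfsg.Agent.LsF.imul_pat, Cfsg.Agent.LsF.isub_pat]; exact rfl) | exact rfl⟩
private noncomputable def _root_.Cfsg.Agent.LsF.fd7f375_10 : {f // @Cfsg.Agent.H840.M11.dot = f} := ⟨_, by first | (delta Cfsg.Agent.H840.M11.dot List.brecOn List.brecOn.go Cfsg.Agent.H840.M11.dot._f; rewrite [Cfsg.Agent.LsF.fd7f375_8.2, Cfsg.Agent.LsF.fd7f375_9.2]; (try delta Cfsg.Agent.H840.M11.dot.match_1); (try delta Cfsg.Agent.H840.M11.dot._sparseCasesOn_1); first | dsimp -zeta only | exact rfl) | exact rfl⟩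
private noncomputable def _root_.Cfsg.Agent.LsF.fd7f375_11 : {f // @Cfsg.Agent.H840.M11.mv = f} := ⟨_, by first | (delta Cfsg.Agent.H840.M11.mv; rewrite [Cfsg.Agent.LsF.fd7f375_10.2, Cfsg.Agent.LsF.map_eq]; exact rfl) | exact rfl⟩
private noncomputable def _root_.Cfsg.Agent.LsF.fd7f375_12 : {f // @Cfsg.Agent.H840.M11.app = f} := ⟨_, by first | (delta Cfsg.Agent.H840.M11.app; rewrite [Cfsg.Agent.LsF.fd7f375_11.2, Cfsg.Agent.LsF.foldr_eq]; exact rfl) | exact rfl⟩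
private noncomputable def _root_.Cfsg.Agent.LsF.fd7f375_13 : {f // @Cfsg.Agent.H840.M11.bv = f} := ⟨_, by first | (delta Cfsg.Agent.H840.M11.bv; rewrite [Cfsg.Agent.LsF.instDecEq_eq, Cfsg.Agent.LsF.map_eq, Cfsg.Agent.LsF.range_eq, Cfsg.Agent.LsF.ite_eq]; exact rfl) | exact rfl⟩
private noncomputable def _root_.Cfsg.Agent.LsF.fd7f375_14 : {f // @Cfsg.Agent.H840.M11.trw = f} := ⟨_, by first | (delta Cfsg.Agent.H840.M11.trw; rewrite [Cfsg.Agent.LsF.fd7f375_8.2, Cfsg.Agent.LsF.fd7f375_12.2, Cfsg.Agent.LsF.fd7f375_13.2, Cfsg.Agent.LsF.foldr_eq, Cfsg.Agent.LsF.range_eq, Cfsg.Agent.LsF.getD_eq]; exact rfl) | exact rfl⟩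
private noncomputable def _root_.Cfsg.Agent.LsF.fd7f375_15 : {f // @Cfsg.Agent.H840.M11.Mt = f} := ⟨_, by first | (delta Cfsg.Agent.H840.M11.Mt; rewrite [Cfsg.Agent.LsF.getD_eq]; exact rfl) | exact rfl⟩
private noncomputable def _root_.Cfsg.Agent.LsF.fd7f375_7 : {f // @Cfsg.Agent.H840.M11.rg = f} := ⟨_, by first | (delta Cfsg.Agent.H840.M11.rg; rewrite [Cfsg.Agent.LsF.getD_eq]; exact rfl) | exact rfl⟩
private noncomputable def _root_.Cfsg.Agent.LsF.fd7f375_16 : {f // @Cfsg.Agent.H840.M11.rt = f} := ⟨_, by first | (delta Cfsg.Agent.H840.M11.rt; rewrite [Cfsg.Agent.LsF.ineg_pat, Cfsg.Agent.LsF.getD_eq]; exact rfl) | exact rfl⟩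
theorem rt_spec : ∀ i < 10, trw 10 ((rg i).map Mt) = rt i := by (refine of_decide_eq_true ?_; (try (rewrite [Cfsg.Agent.LsF.fd7f375_14.2, Cfsg.Agent.LsF.fd7f375_15.2, Cfsg.Agent.LsF.fd7f375_7.2, Cfsg.Agent.LsF.fd7f375_16.2, Cfsg.Agent.LsF.dProdEq_eq, Cfsg.Agent.LsF.map_eq, Cfsg.Agent.LsF.instIDecEq_eq, Cfsg.Agent.LsF.dBallLT_eq, Cfsg.Agent.LsF.decide_eq])); decide +kernel)

theorem ev_rv {i : ℕ} (hi : i < 10) : ev v11 (rv i) = ev gu (rg i) := by
  rw [ev_gu]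
  exact ev_eq (rv_rg i hi)

/-- the representatives -/
theorem repsOf_eq (i : Fin 10) : repsOf (ev v11 [3, 0]) (ev v11 [2]) (ev v11 [6]) (ev v11 [5]) i = ev v11 (rv i) := by
  have hy : (ev v11 [2])⁻¹ = ev v11 [2, 2, 2, 2, 2, 2, 2] := by
    rw [inv_eq_iff_mul_eq_one, ← ev_append, ← ev_nil v11]
    exact sat_11.base (by decide +kernel)
  have hx : (ev v11 [5])⁻¹ = ev v11 [5, 5, 5, 5, 5, 5, 5, 5, 5, 5] := by
    rw [inv_eq_iff_mul_eq_one, ← ev_append, ← ev_nil v11]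
    exact sat_11.base (by decide +kernel)
  fin_cases i
  · rfl
  · exact ev_pow v11 [3, 0] 3
  · exact ev_pow v11 [3, 0] 2
  · exact ev_pow v11 [2] 2
  · rfl
  · rfl
  · rfl
  · exact hy
  · rfl
  · exact hx

section F

variable {F : Type*} [Field F] {s : F}

theorem rho_ev {ρ : Spor.M11 →* Matrix (Fin 10) (Fin 10) F} (hρ : ∀ i < 3, ρ (gu i) = tm s 10 (Mt i)) :
    ∀ {w : List ℕ}, w.all (fun j => decide (j < 3)) = true → ρ (ev gu w) = ((w.map Mt).map (tm s 10)).prod := by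
  intro w
  induction w with
  | nil => intro _; rw [ev_nil, map_one]; rfl
  | cons i w ih =>
    intro h
    rw [List.all_cons, Bool.and_eq_true] at h
    rw [ev_cons, map_mul, hρ i (of_decide_eq_true h.1), ih h.2]
    rfl

theorem ok_map {w : List ℕ} (h : w.all (fun j => decide (j < 3)) = true) : ∀ M ∈ w.map Mt, okm 10 M = true := by
  intro M hM
  obtain ⟨i, hi, rfl⟩ := List.mem_map.1 hM
  exact okM i (of_decide_eq_true (List.all_eq_true.1 h i hi))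

theorem trace_rho (hs : s * s = -2) {ρ : Spor.M11 →* Matrix (Fin 10) (Fin 10) F}
    (hρ : ∀ i < 3, ρ (gu i) = tm s 10 (Mt i)) {i : ℕ} (hi : i < 10) : (ρ (ev v11 (rv i))).trace = zf s (rt i) := by
  rw [ev_rv hi, rho_ev hρ (rg_lt i hi), trace_spec hs (ok_map (rg_lt i hi)), rt_spec i hi]

end F

/-! ### the additional element -/

private noncomputable def _root_.Cfsg.Agent.LsF.fd7f375_17 : {f // @Cfsg.Agent.H840.M11.zr = f} := ⟨_, by first | (delta Cfsg.Agent.H840.M11.zr; rewrite [Cfsg.Agent.LsF.imod_pat]; exact rfl) | exact rfl⟩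
private noncomputable def _root_.Cfsg.Agent.LsF.fd7f375_18 : {f // @Cfsg.Agent.H840.M11.eqv = f} := ⟨_, by first | (delta Cfsg.Agent.H840.M11.eqv; rewrite [Cfsg.Agent.LsF.fd7f375_17.2, Cfsg.Agent.LsF.dProdEq_eq, Cfsg.Agent.LsF.all_eq, Cfsg.Agent.LsF.range_eq, Cfsg.Agent.LsF.getD_eq, Cfsg.Agent.LsF.instIDecEq_eq, Cfsg.Agent.LsF.decide_eq]; exact rfl) | exact rfl⟩
theorem g_sq : ∀ j < 10, eqv 0 10 (app [Gg, Gg] (bv 10 j)) (app [] (bv 10 j)) = true := by (refine of_decide_eq_true ?_; (try (rewrite [Cfsg.Agent.LsF.fd7f375_18.2, Cfsg.Agent.LsF.fd7f375_12.2, Cfsg.Agent.LsF.fd7f375_13.2, Cfsg.Agent.LsF.dBoolEq_eq, Cfsg.Agent.LsF.dBallLT_eq, Cfsg.Agent.LsF.decide_eq])); decide +kernel)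

private noncomputable def _root_.Cfsg.Agent.LsF.fd7f375_19 : {f // @Cfsg.Agent.H840.M11.zn = f} := ⟨_, by first | (delta Cfsg.Agent.H840.M11.zn; rewrite [Cfsg.Agent.LsF.ineg_pat]; exact rfl) | exact rfl⟩
theorem g_u1 : ∀ j < 10, eqv 0 10 (app [Gg, U1, Gg, U1] (bv 10 j)) ((app [] (bv 10 j)).map zn) = true := by
  (refine of_decide_eq_true ?_; (try (rewrite [Cfsg.Agent.LsF.fd7f375_18.2, Cfsg.Agent.LsF.fd7f375_12.2, Cfsg.Agent.LsF.fd7f375_13.2, Cfsg.Agent.LsF.fd7f375_19.2, Cfsg.Agent.LsF.map_eq, Cfsg.Agent.LsF.dBoolEq_eq, Cfsg.Agent.LsF.dBallLT_eq, Cfsg.Agent.LsF.decide_eq])); decide +kernel)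

theorem g_u2 : ∀ j < 10, eqv 0 10 (app [Gg, U2] (bv 10 j)) (app [U2, Gg] (bv 10 j)) = true := by (refine of_decide_eq_true ?_; (try (rewrite [Cfsg.Agent.LsF.fd7f375_18.2, Cfsg.Agent.LsF.fd7f375_12.2, Cfsg.Agent.LsF.fd7f375_13.2, Cfsg.Agent.LsF.dBoolEq_eq, Cfsg.Agent.LsF.dBallLT_eq, Cfsg.Agent.LsF.decide_eq])); decide +kernel)

theorem g_a : ∀ j < 10, eqv 0 10 (app [Gg, Aa, Gg] (bv 10 j)) (app [Aa, Gg, Aa] (bv 10 j)) = true := by (refine of_decide_eq_true ?_; (try (rewrite [Cfsg.Agent.LsF.fd7f375_18.2, Cfsg.Agent.LsF.fd7f375_12.2, Cfsg.Agent.LsF.fd7f375_13.2, Cfsg.Agent.LsF.dBoolEq_eq, Cfsg.Agent.LsF.dBallLT_eq, Cfsg.Agent.LsF.decide_eq])); decide +kernel)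

section F

variable {F : Type*} [Field F] {s : F}

theorem oks : ∀ M ∈ ([Gg, U1, U2, Aa] : List (List (List Zs))), okm 10 M = true := by
  obtain ⟨-, h1, h2, h3, h4, -⟩ := OT_ok
  intro M hM
  simp only [List.mem_cons, List.not_mem_nil, or_false] at hM
  rcases hM with rfl | rfl | rfl | rfl
  · exact h4
  · exact h1
  · exact h2
  · exact h3

theorem G_rel (hs : s * s = -2) :
    tm s 10 Gg * tm s 10 Gg = 1 ∧
    tm s 10 Gg * tm s 10 (Mt 0) * (tm s 10 Gg * tm s 10 (Mt 0)) = -1 ∧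
    tm s 10 Gg * tm s 10 (Mt 1) = tm s 10 (Mt 1) * tm s 10 Gg ∧
    tm s 10 Gg * tm s 10 (Mt 2) * tm s 10 Gg = tm s 10 (Mt 2) * tm s 10 Gg * tm s 10 (Mt 2) := by
  have ok : ∀ Ms : List (List (List Zs)), (∀ M ∈ Ms, M = Gg ∨ M = U1 ∨ M = U2 ∨ M = Aa) → ∀ M ∈ Ms, okm 10 M = true := by
    intro Ms h M hM
    rcases h M hM with rfl | rfl | rfl | rfl <;> exact oks _ (by simp)
  have e0 : Mt 0 = U1 := rfl
  have e1 : Mt 1 = U2 := rfl
  have e2 : Mt 2 = Aa := rfl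
  refine ⟨?_, ?_, ?_, ?_⟩
  · have := prod_eq hs (z0 (F := F)) (ok [Gg, Gg] (by simp)) (ok [] (by simp)) g_sq
    simpa using this
  · have := prod_neg hs (z0 (F := F)) (ok [Gg, U1, Gg, U1] (by simp)) (ok [] (by simp)) g_u1
    rw [e0]
    simpa [Matrix.mul_assoc] using this
  · have := prod_eq hs (z0 (F := F)) (ok [Gg, U2] (by simp)) (ok [U2, Gg] (by simp)) g_u2
    rw [e1]
    simpa using this
  · have := prod_eq hs (z0 (F := F)) (ok [Gg, Aa, Gg] (by simp)) (ok [Aa, Gg, Aa] (by simp)) g_a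
    rw [e2]
    simpa [Matrix.mul_assoc] using this

end F

end Cfsg.Agent.H840.M11
end

-- part: H840/M11/Chr5
section
set_option linter.all false
open scoped Cfsg.Agent.FastGrp

/-!
# Ten-dimensional representations of `M11` with non-real traces, characteristic not 2, 3
-/

set_option autoImplicit false
set_option linter.unusedSectionVars false
set_option linter.unusedVariables false
set_option maxRecDepth 100000

namespace Cfsg.Agent.H840.M11

open Module LinearMap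
open Cfsg Cfsg.Agent.CoThreeStd.MTwelve Cfsg.Agent.H6.M11

/-! ### a trace identity in dimension two -/

section two

variable {k : Type*} [Field k] {V : Type*} [AddCommGroup V] [Module k V] [FiniteDimensional k V]

theorem trace_restr {W : Submodule k V} {Q A : End k V} (hQ : IsProj W Q) (hA : ∀ x ∈ W, A x ∈ W) :
    LinearMap.trace k V (A * Q) = LinearMap.trace k W (A.restrict hA) := by
  have h1 : A * Q = W.subtype ∘ₗ ((A.restrict hA) ∘ₗ (Q.codRestrict W hQ.map_mem)) := by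
    ext x
    rfl
  have h2 : ((A.restrict hA) ∘ₗ (Q.codRestrict W hQ.map_mem)) ∘ₗ W.subtype = A.restrict hA := by
    ext x
    change A (Q x) = A x
    rw [hQ.map_id x x.2]
  rw [h1, LinearMap.trace_comp_comm', h2]

theorem cubic {W : Type*} [AddCommGroup W] [Module k W] (hW : finrank k W = 2) (B : End k W) :
    LinearMap.trace k W B ^ 3 - 3 * LinearMap.trace k W B * LinearMap.trace k W (B ^ 2) +
      2 * LinearMap.trace k W (B ^ 3) = 0 := by
  have : FiniteDimensional k W := FiniteDimensional.of_finrank_pos (by omega)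
  let b : Basis (Fin 2) k W := Module.finBasisOfFinrankEq k W hW
  rw [LinearMap.trace_eq_matrix_trace k b, LinearMap.trace_eq_matrix_trace k b, LinearMap.trace_eq_matrix_trace k b,
    ← LinearMap.toMatrix_pow, ← LinearMap.toMatrix_pow]
  generalize LinearMap.toMatrix b b B = M
  rw [pow_succ M 2, pow_two M]
  simp only [Matrix.trace_fin_two, Matrix.mul_apply, Fin.sum_univ_two]
  ring

theorem cubic_proj {W : Submodule k V} {Q A : End k V} (hQ : IsProj W Q) (hA : ∀ x ∈ W, A x ∈ W)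
    (hW : finrank k W = 2) :
    LinearMap.trace k V (A * Q) ^ 3 - 3 * LinearMap.trace k V (A * Q) * LinearMap.trace k V (A ^ 2 * Q) +
      2 * LinearMap.trace k V (A ^ 3 * Q) = 0 := by
  have hp : ∀ n : ℕ, ∀ x ∈ W, (A ^ n) x ∈ W := by
    intro n
    induction n with
    | zero => intro x hx; exact hx
    | succ n ih => intro x hx; rw [pow_succ, Module.End.mul_apply]; exact ih _ (hA x hx)
  have h := cubic hW (A.restrict hA)
  rw [Module.End.pow_restrict 2 hA, Module.End.pow_restrict 3 hA] at h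
  rw [trace_restr hQ hA, trace_restr hQ (hp 2), trace_restr hQ (hp 3)]
  exact h

end two

section main

variable {k : Type*} [Field k] {V : Type*} [AddCommGroup V] [Module k V] [FiniteDimensional k V]
  {R : Spor.M11 →* End k V} {ω : k}

theorem tw_conj (c : List ℕ) {w r : List ℕ} (h : eqW ((c ++ w).flatMap W) ((r ++ c).flatMap W) = true) :
    tw v11 R w = tw v11 R r := by
  have h1 := ev_eq h
  rw [ev_append, ev_append] at h1
  have h2 : ev v11 w = (ev v11 c)⁻¹ * ev v11 r * ev v11 c := by rw [mul_assoc, ← h1, inv_mul_cancel_left]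
  unfold tw op
  rw [h2, map_mul, LinearMap.trace_mul_comm, ← map_mul, mul_inv_cancel_left]

/-- the traces at elements of a coset -/
theorem vals_a :
    (tw v11 R [4, 8] + tw v11 R [4, 8, 1] + tw v11 R [4, 8, 1, 1]) +
      (tw v11 R [4, 8, 0] + tw v11 R [4, 8, 0, 1] + tw v11 R [4, 8, 0, 1, 1]) +
      (tw v11 R [4, 8, 0, 0] + tw v11 R [4, 8, 0, 0, 1] + tw v11 R [4, 8, 0, 0, 1, 1]) +
    ((tw v11 R [4, 8, 2, 2, 2, 2] + tw v11 R [4, 8, 2, 2, 2, 2, 1] + tw v11 R [4, 8, 2, 2, 2, 2, 1, 1]) +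
      (tw v11 R [4, 8, 2, 2, 2, 2, 0] + tw v11 R [4, 8, 2, 2, 2, 2, 0, 1] + tw v11 R [4, 8, 2, 2, 2, 2, 0, 1, 1]) +
      (tw v11 R [4, 8, 2, 2, 2, 2, 0, 0] + tw v11 R [4, 8, 2, 2, 2, 2, 0, 0, 1] +
        tw v11 R [4, 8, 2, 2, 2, 2, 0, 0, 1, 1])) =
    2 * tw v11 R [3] + 4 * tw v11 R [0] + 4 * tw v11 R [2, 2] + 8 * tw v11 R [6] := by
  have a0 : tw v11 R [4, 8] = tw v11 R [6] := tw_conj [0, 1, 4, 2, 5] (by decide +kernel)
  have a1 : tw v11 R [4, 8, 1] = tw v11 R [6] := tw_conj [1, 5, 5, 4] (by decide +kernel)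
  have a2 : tw v11 R [4, 8, 1, 1] = tw v11 R [0] := tw_conj [2, 6, 5, 0] (by decide +kernel)
  have a3 : tw v11 R [4, 8, 0] = tw v11 R [6] := tw_conj [0, 5, 5, 8] (by decide +kernel)
  have a4 : tw v11 R [4, 8, 0, 1] = tw v11 R [0] := tw_conj [2, 4, 3, 7] (by decide +kernel)
  have a5 : tw v11 R [4, 8, 0, 1, 1] = tw v11 R [6] := tw_conj [1, 6, 6, 6] (by decide +kernel)
  have a6 : tw v11 R [4, 8, 0, 0] = tw v11 R [3] := tw_conj [1, 6, 2] (by decide +kernel)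
  have a7 : tw v11 R [4, 8, 0, 0, 1] = tw v11 R [2, 2] := tw_conj [5, 6, 4, 7] (by decide +kernel)
  have a8 : tw v11 R [4, 8, 0, 0, 1, 1] = tw v11 R [2, 2] := tw_conj [7, 6, 4, 7] (by decide +kernel)
  have a9 : tw v11 R [4, 8, 2, 2, 2, 2] = tw v11 R [6] := tw_conj [0, 6, 0, 2] (by decide +kernel)
  have a10 : tw v11 R [4, 8, 2, 2, 2, 2, 1] = tw v11 R [2, 2] := tw_conj [3, 1, 6, 2] (by decide +kernel)
  have a11 : tw v11 R [4, 8, 2, 2, 2, 2, 1, 1] = tw v11 R [6] := tw_conj [0, 5, 8, 4, 6] (by decide +kernel)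
  have a12 : tw v11 R [4, 8, 2, 2, 2, 2, 0] = tw v11 R [3] := tw_conj [4] (by decide +kernel)
  have a13 : tw v11 R [4, 8, 2, 2, 2, 2, 0, 1] = tw v11 R [0] := tw_conj [4, 7, 2] (by decide +kernel)
  have a14 : tw v11 R [4, 8, 2, 2, 2, 2, 0, 1, 1] = tw v11 R [0] := tw_conj [4, 2, 1] (by decide +kernel)
  have a15 : tw v11 R [4, 8, 2, 2, 2, 2, 0, 0] = tw v11 R [6] := tw_conj [0, 6, 2, 7] (by decide +kernel)
  have a16 : tw v11 R [4, 8, 2, 2, 2, 2, 0, 0, 1] = tw v11 R [6] := tw_conj [1, 2, 6, 6, 7] (by decide +kernel)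
  have a17 : tw v11 R [4, 8, 2, 2, 2, 2, 0, 0, 1, 1] = tw v11 R [2, 2] := tw_conj [3, 6, 8, 5] (by decide +kernel)
  rw [a0, a1, a2, a3, a4, a5, a6, a7, a8, a9, a10, a11, a12, a13, a14, a15, a16, a17]
  ring

theorem vals_b :
    (tw v11 R [6] + tw v11 R [6, 1] + tw v11 R [6, 1, 1]) +
      (tw v11 R [6, 0] + tw v11 R [6, 0, 1] + tw v11 R [6, 0, 1, 1]) +
      (tw v11 R [6, 0, 0] + tw v11 R [6, 0, 0, 1] + tw v11 R [6, 0, 0, 1, 1]) +
    ((tw v11 R [6, 2, 2, 2, 2] + tw v11 R [6, 2, 2, 2, 2, 1] + tw v11 R [6, 2, 2, 2, 2, 1, 1]) +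
      (tw v11 R [6, 2, 2, 2, 2, 0] + tw v11 R [6, 2, 2, 2, 2, 0, 1] + tw v11 R [6, 2, 2, 2, 2, 0, 1, 1]) +
      (tw v11 R [6, 2, 2, 2, 2, 0, 0] + tw v11 R [6, 2, 2, 2, 2, 0, 0, 1] +
        tw v11 R [6, 2, 2, 2, 2, 0, 0, 1, 1])) =
    tw v11 R [3] + tw v11 R [0] + tw v11 R [2, 2] + 4 * tw v11 R [6] + 5 * tw v11 R [3, 0] + tw v11 R [2] +
      tw v11 R [2, 2, 2, 2, 2, 2, 2] + 2 * (tw v11 R [5] + tw v11 R [5, 5, 5, 5, 5, 5, 5, 5, 5, 5]) := by
  have b1 : tw v11 R [6, 1] = tw v11 R [3, 0] := tw_conj [4, 8, 5, 6] (by decide +kernel)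
  have b2 : tw v11 R [6, 1, 1] = tw v11 R [2, 2] := tw_conj [4, 5, 3] (by decide +kernel)
  have b3 : tw v11 R [6, 0] = tw v11 R [0] := tw_conj [6, 4] (by decide +kernel)
  have b4 : tw v11 R [6, 0, 1] = tw v11 R [3, 0] := tw_conj [2, 4, 8] (by decide +kernel)
  have b5 : tw v11 R [6, 0, 1, 1] = tw v11 R [6] := tw_conj [3, 2, 2] (by decide +kernel)
  have b6 : tw v11 R [6, 0, 0] = tw v11 R [3, 0] := tw_conj [4, 1] (by decide +kernel)
  have b7 : tw v11 R [6, 0, 0, 1] = tw v11 R [3, 0] := tw_conj [4, 2, 5] (by decide +kernel)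
  have b8 : tw v11 R [6, 0, 0, 1, 1] = tw v11 R [3, 0] := tw_conj [5, 0, 1, 6] (by decide +kernel)
  have b9 : tw v11 R [6, 2, 2, 2, 2] = tw v11 R [6] := tw_conj [0, 8, 4] (by decide +kernel)
  have b10 : tw v11 R [6, 2, 2, 2, 2, 1] = tw v11 R [2] := tw_conj [1, 6, 0, 4] (by decide +kernel)
  have b11 : tw v11 R [6, 2, 2, 2, 2, 1, 1] = tw v11 R [5, 5, 5, 5, 5, 5, 5, 5, 5, 5] := tw_conj [0, 3, 2, 6] (by decide +kernel)
  have b12 : tw v11 R [6, 2, 2, 2, 2, 0] = tw v11 R [5] := tw_conj [2, 7, 6, 0] (by decide +kernel)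
  have b13 : tw v11 R [6, 2, 2, 2, 2, 0, 1] = tw v11 R [5, 5, 5, 5, 5, 5, 5, 5, 5, 5] := tw_conj [1, 5, 5, 7] (by decide +kernel)
  have b14 : tw v11 R [6, 2, 2, 2, 2, 0, 1, 1] = tw v11 R [3] := tw_conj [5, 2, 6] (by decide +kernel)
  have b15 : tw v11 R [6, 2, 2, 2, 2, 0, 0] = tw v11 R [2, 2, 2, 2, 2, 2, 2] := tw_conj [5, 3] (by decide +kernel)
  have b16 : tw v11 R [6, 2, 2, 2, 2, 0, 0, 1] = tw v11 R [6] := tw_conj [2, 4, 3] (by decide +kernel)
  have b17 : tw v11 R [6, 2, 2, 2, 2, 0, 0, 1, 1] = tw v11 R [5] := tw_conj [0, 0, 4, 7, 2] (by decide +kernel)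
  rw [b1, b2, b3, b4, b5, b6, b7, b8, b9, b10, b11, b12, b13, b14, b15, b16, b17]
  ring

theorem vals_c :
    (tw v11 R [2, 2, 2] + tw v11 R [2, 2, 2, 1] + tw v11 R [2, 2, 2, 1, 1]) +
      (tw v11 R [2, 2, 2, 0] + tw v11 R [2, 2, 2, 0, 1] + tw v11 R [2, 2, 2, 0, 1, 1]) +
      (tw v11 R [2, 2, 2, 0, 0] + tw v11 R [2, 2, 2, 0, 0, 1] + tw v11 R [2, 2, 2, 0, 0, 1, 1]) =
    9 * tw v11 R [2] := by
  have c0 : tw v11 R [2, 2, 2] = tw v11 R [2] := tw_conj [3] (by decide +kernel)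
  have c1 : tw v11 R [2, 2, 2, 1] = tw v11 R [2] := tw_conj [8, 2] (by decide +kernel)
  have c2 : tw v11 R [2, 2, 2, 1, 1] = tw v11 R [2] := tw_conj [3, 7] (by decide +kernel)
  have c3 : tw v11 R [2, 2, 2, 0] = tw v11 R [2] := tw_conj [1, 8] (by decide +kernel)
  have c4 : tw v11 R [2, 2, 2, 0, 1] = tw v11 R [2] := tw_conj [1, 3] (by decide +kernel)
  have c5 : tw v11 R [2, 2, 2, 0, 1, 1] = tw v11 R [2] := tw_conj [8, 0] (by decide +kernel)
  have c6 : tw v11 R [2, 2, 2, 0, 0] = tw v11 R [2] := tw_conj [0, 2, 3] (by decide +kernel)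
  have c7 : tw v11 R [2, 2, 2, 0, 0, 1] = tw v11 R [2] := tw_conj [8] (by decide +kernel)
  have c8 : tw v11 R [2, 2, 2, 0, 0, 1, 1] = tw v11 R [2] := tw_conj [3, 1] (by decide +kernel)
  rw [c0, c1, c2, c3, c4, c5, c6, c7, c8]
  ring

/-- **the traces** -/
theorem traces (hω : IsPrimitiveRoot ω 3) (h2 : (2 : k) ≠ 0) (hE : op v11 R [0] ≠ 1)
    (hn : finrank k V = 10) (hy : tw v11 R [2, 2, 2, 2, 2, 2, 2] ≠ tw v11 R [2])
    (hr : tw v11 R [5, 5, 5, 5, 5, 5, 5, 5, 5, 5] = tw v11 R [5]) :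
    tw v11 R [2] * tw v11 R [2] = -2 ∧ ∀ i < 10, tw v11 R (rv i) = zf (tw v11 R [2]) (rt i) := by
  have h := sat_11
  have h3 : (3 : k) ≠ 0 := three_ne hω
  obtain ⟨f, α, β, ε, hε, -, hV, hCp, hCm, -, -, hαβ, hT2, hT6, hβ, hT3⟩ := h.cases (R := R) hω h2 hE (by omega) hy
  have hf : f = 0 := by omega
  subst hf
  have hβ0 : β = 0 := by omega
  subst hβ0
  have hε' : ε = -1 := by
    rw [Nat.cast_zero] at hβ
    linear_combination -hβ
  subst hε'
  have t2 : tw v11 R [3] = -2 := by rw [hT2, Nat.cast_zero]; ring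
  have t3 : tw v11 R [0] = 1 := by rw [hT3, Nat.cast_zero]; ring
  have t6 : tw v11 R [3, 0] = 1 := by linear_combination t2 - hT6
  -- no vectors fixed by `E` and `z`
  have hP0 : pP v11 R = 0 := by
    ext u
    have h6 := (h.isProj_pP (R := R) hω h2).map_mem u
    rw [Submodule.finrank_eq_zero.1 hCp, Submodule.mem_bot] at h6
    exact h6
  have rel : ∀ w : List ℕ, tE v11 R w + tE v11 R (w ++ [2, 2, 2, 2]) = 0 := by
    intro w
    have h6 := trace_pP (v := v11) (R := R) w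
    rw [hP0, mul_zero, map_zero] at h6
    exact (mul_eq_zero.1 h6.symm).resolve_left (inv_ne_zero h2)
  have r1 := rel [2]
  rw [show ([2] : List ℕ) ++ [2, 2, 2, 2] = [2, 2, 2, 2, 2] from rfl, h.tE_y h3, h.tE_y5 h3] at r1
  have r2 := rel [2, 2]
  rw [show ([2, 2] : List ℕ) ++ [2, 2, 2, 2] = [2, 2, 2, 2, 2, 2] from rfl, h.tE_yy h3, h.tE_y6 h3] at r2
  have t4 : tw v11 R [2, 2] = 0 := by
    have : (2 : k) * tw v11 R [2, 2] = 0 := by linear_combination r2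
    exact (mul_eq_zero.1 this).resolve_left h2
  have t8 : tw v11 R [2, 2, 2, 2, 2, 2, 2] = -tw v11 R [2] := by linear_combination r1
  have ty : tw v11 R [2] ≠ 0 := by
    intro h0
    apply hy
    rw [t8, h0, neg_zero]
  -- `y³`
  have t9 : tE v11 R [2, 2, 2] = tw v11 R [2] := by
    have h1 := h.nine_tE (R := R) h3 [2, 2, 2]
    simp only [List.cons_append, List.nil_append] at h1
    rw [vals_c] at h1
    exact mul_left_cancel₀ (nine_ne h3) h1
  -- the value of the trace of `y`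
  have hfr : finrank k (Wt v11 R 1 1) = 2 := by
    have h10 := (two_dims h2 (h.isProj_pE (R := R) hω) (h.z_comm h3) h.zz_pE).1
    have e1 : finrank k (Wt v11 R 1 1 ⊓ End.eigenspace (op v11 R [2, 2, 2, 2]) (-1) : Submodule k V) = 2 := hCm
    have e2 : finrank k (Wt v11 R 1 1 ⊓ End.eigenspace (op v11 R [2, 2, 2, 2]) 1 : Submodule k V) = 0 := hCp
    rw [e1, e2] at h10
    exact h10
  have hcub := cubic_proj (A := op v11 R [2]) (h.isProj_pE (R := R) hω) (by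
    intro x hx
    have h11 := h.comm_word (R := R) h3 [2] (by decide)
    have h12 := congrArg (fun f : End k V => f x) h11
    simp only [Module.End.mul_apply] at h12
    rw [(h.isProj_pE (R := R) hω).map_id x hx] at h12
    rw [h12]
    exact (h.isProj_pE (R := R) hω).map_mem _) hfr
  have p2 : (op v11 R [2]) ^ 2 = op v11 R [2, 2] := (op_replicate 2 2).symm
  have p3 : (op v11 R [2]) ^ 3 = op v11 R [2, 2, 2] := (op_replicate 3 2).symm
  rw [p2, p3] at hcub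
  have q1 : LinearMap.trace k V (op v11 R [2] * pE v11 R) = tw v11 R [2] := h.tE_y h3
  have q2 : LinearMap.trace k V (op v11 R [2, 2] * pE v11 R) = 0 := (h.tE_yy h3).trans t4
  have q3 : LinearMap.trace k V (op v11 R [2, 2, 2] * pE v11 R) = tw v11 R [2] := t9
  rw [q1, q2, q3] at hcub
  have hs : tw v11 R [2] * tw v11 R [2] = -2 := by
    apply mul_left_cancel₀ ty
    linear_combination hcub
  -- order 5
  have r3 := rel [4, 8]
  have t5 : tw v11 R [6] = 0 := by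
    have h1 := h.nine_tE (R := R) h3 [4, 8]
    have h1' := h.nine_tE (R := R) h3 [4, 8, 2, 2, 2, 2]
    simp only [List.cons_append, List.nil_append] at h1 h1' r3
    have h4 := vals_a (R := R)
    have h8 : (8 : k) ≠ 0 := by
      rw [show (8 : k) = 2 * 2 * 2 by norm_num]
      exact mul_ne_zero (mul_ne_zero h2 h2) h2
    have h5 : (8 : k) * tw v11 R [6] = 0 := by
      linear_combination -h4 - h1 - h1' + 9 * r3 - 2 * t2 - 4 * t3 - 4 * t4
    exact (mul_eq_zero.1 h5).resolve_left h8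
  -- order 11
  have r4 := rel [6]
  have t11 : tw v11 R [5] = -1 := by
    have h1 := h.nine_tE (R := R) h3 [6]
    have h1' := h.nine_tE (R := R) h3 [6, 2, 2, 2, 2]
    simp only [List.cons_append, List.nil_append] at h1 h1' r4
    have h4 := vals_b (R := R)
    have h5 : (2 : k) * 2 * (tw v11 R [5] + 1) = 0 := by
      linear_combination -h4 - h1 - h1' + 9 * r4 - t2 - t3 - t4 - 4 * t5 - 5 * t6 - t8 - 2 * hr
    have h6 := (mul_eq_zero.1 h5).resolve_left (mul_ne_zero h2 h2)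
    linear_combination h6
  refine ⟨hs, ?_⟩
  intro i hi
  have c1 : tw v11 R [3, 0, 3, 0, 3, 0] = tw v11 R [3] := tw_conj [] (by decide +kernel)
  have c2 : tw v11 R [3, 0, 3, 0] = tw v11 R [0] := tw_conj [7] (by decide +kernel)
  have c0 : tw v11 R [] = 10 := by rw [tw_nil, hn]; norm_num
  have hz : ∀ a b : ℤ, zf (tw v11 R [2]) (a, b) = (a : k) + (b : k) * tw v11 R [2] := fun a b => rfl
  interval_cases i
  · change tw v11 R [] = zf _ (10, 0)
    rw [c0, hz]; push_cast; ring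
  · change tw v11 R [3, 0, 3, 0, 3, 0] = zf _ (-2, 0)
    rw [c1, hz, t2]; push_cast; ring
  · change tw v11 R [3, 0, 3, 0] = zf _ (1, 0)
    rw [c2, hz, t3]; push_cast; ring
  · change tw v11 R [2, 2] = zf _ (0, 0)
    rw [hz, t4]; push_cast; ring
  · change tw v11 R [6] = zf _ (0, 0)
    rw [hz, t5]; push_cast; ring
  · change tw v11 R [3, 0] = zf _ (1, 0)
    rw [hz, t6]; push_cast; ring
  · change tw v11 R [2] = zf _ (0, 1)
    rw [hz]; push_cast; ring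
  · change tw v11 R [2, 2, 2, 2, 2, 2, 2] = zf _ (0, -1)
    rw [hz, t8]; push_cast; ring
  · change tw v11 R [5] = zf _ (-1, 0)
    rw [hz, t11]; push_cast; ring
  · change tw v11 R [5, 5, 5, 5, 5, 5, 5, 5, 5, 5] = zf _ (-1, 0)
    rw [hz, hr, t11]; push_cast; ring

end main

end Cfsg.Agent.H840.M11
end
end
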